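import Cfsg.Agent.S4Amalgam.Degree

/-!
# The coset graph of two subgroups
-/

set_option autoImplicit false

namespace Cfsg.Agent.S4Amal

open Subgroup

/-- The base vertices. -/
def base {G : Type*} [Group G] (P : Bool → Subgroup G) (i : Bool) : Σ i : Bool, G ⧸ P i :=
  ⟨i, ((1 : G) : G ⧸ P i)⟩

/-- Adjacency of cosets. -/
def cadj {G : Type*} [Group G] (P : Bool → Subgroup G) (x y : Σ i : Bool, G ⧸ P i) : Prop :=
  ∃ (g : G) (i : Bool), x = g • base P i ∧ y = g • base P (!i)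

theorem gs_base {G : Type*} [Group G] (P : Bool → Subgroup G) (i : Bool) :
    Gs G (base P i) = P i := by
  ext g
  rw [MulAction.mem_stabilizer_iff, base, Sigma.smul_mk]
  constructor
  · intro e
    have h1 := eq_of_heq (Sigma.mk.inj_iff.1 e).2
    rw [show g • ((1 : G) : G ⧸ P i) = ((g : G) : G ⧸ P i) from congrArg _ (mul_one g),
      QuotientGroup.eq, mul_one] at h1
    exact inv_mem_iff.1 h1
  · intro hg
    congr 1
    rw [show g • ((1 : G) : G ⧸ P i) = ((g : G) : G ⧸ P i) from congrArg _ (mul_one g),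
      QuotientGroup.eq, mul_one]
    exact inv_mem hg

theorem amalB {G : Type*} [Group G] (P : Bool → Subgroup G) [∀ i, Finite (P i)]
    (hgen : P true ⊔ P false = ⊤)
    (h1 : ∀ i, P i ⊓ centralizer (Cfsg.pCoreOf 2 (P i) : Set G) ≤ Cfsg.pCoreOf 2 (P i))
    (h2 : ∀ i, IsPGroup 2 ↥(P i ⊓ P (!i)) ∧ ((P i ⊓ P (!i)).relIndex (P i)).Prime ∧
      (P i ⊓ P (!i)).relIndex (P i) ≠ 2)
    (h3 : ∀ N : Subgroup G, N.Normal → N ≤ P true ⊓ P false → N = ⊥)
    (h4 : ∀ i, (Cfsg.pCoreOf 2 (P i)).relIndex (P i ⊓ P (!i)) = 2) :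
    AmalB G (cadj P) := by
  have hgs : ∀ (g : G) i, Gs G (g • base P i) = SfFree.cj g (P i) := fun g i => by
    rw [gs_smul, gs_base]
  have hsym : ∀ u w, cadj P u w → cadj P w u := by
    rintro _ _ ⟨g, i, rfl, rfl⟩
    exact ⟨g, !i, rfl, by rw [Bool.not_not]⟩
  have hvert : ∀ x : Σ i : Bool, G ⧸ P i, ∃ (g : G) (i : Bool), x = g • base P i := by
    rintro ⟨i, q⟩
    obtain ⟨g, rfl⟩ := QuotientGroup.mk_surjective q
    exact ⟨g, i, by rw [base, Sigma.smul_mk]; congr 1; exact congrArg _ (mul_one g).symm⟩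
  have hsmul : ∀ (g : G) (u w), cadj P u w → cadj P (g • u) (g • w) := by
    rintro g _ _ ⟨h, i, rfl, rfl⟩
    exact ⟨g * h, i, (mul_smul _ _ _).symm, (mul_smul _ _ _).symm⟩
  have hfix : ∀ i, ∀ g ∈ P i, g • base P i = base P i := fun i g hg => by
    rw [← gs_base P i] at hg
    exact hg
  refine ⟨hsym, hsmul, ?_, ?_, ?_, ?_, ?_, ?_, ?_, ?_⟩
  · let r := Relation.ReflTransGen (cadj P)
    have hsymr : ∀ {x y}, r x y → r y x := fun {x y} hxy => by
      induction hxy with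
      | refl => exact Relation.ReflTransGen.refl
      | tail _ h' ih => exact Relation.ReflTransGen.head (hsym _ _ h') ih
    have hmap : ∀ (g : G) {x y}, r x y → r (g • x) (g • y) := fun g {x y} hxy =>
      hxy.lift (g • ·) fun a b => hsmul g a b
    have hstep : r (base P true) (base P false) :=
      Relation.ReflTransGen.single ⟨1, true, (one_smul _ _).symm, (one_smul _ _).symm⟩
    let R : Subgroup G :=
      { carrier := {g | r (base P true) (g • base P true)}
        one_mem' := show r _ _ by rw [one_smul]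
        mul_mem' := fun {a b} ha hb => show r _ _ by
          rw [mul_smul]; exact ha.trans (hmap a hb)
        inv_mem' := fun {a} ha => show r _ _ by
          have h7 := hsymr (hmap a⁻¹ ha); rwa [inv_smul_smul] at h7 }
    have hR : ∀ g, g ∈ R := fun g => by
      have : (⊤ : Subgroup G) ≤ R := hgen ▸ sup_le
        (fun g hg => show r _ _ by rw [hfix true g hg])
        (fun g hg => show r _ _ by
          have h8 := hmap g hstep
          rw [hfix false g hg] at h8
          exact hstep.trans (hsymr h8))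
      exact this (mem_top g)
    have hall : ∀ x, r (base P true) x := fun x => by
      obtain ⟨g, i, rfl⟩ := hvert x
      cases i
      · exact (hR g : r _ _).trans (hmap g hstep)
      · exact hR g
    exact fun u w => (hsymr (hall u)).trans (hall w)
  · intro v
    obtain ⟨g, i, rfl⟩ := hvert v
    rw [hgs]
    exact Finite.of_equiv _ ((P i).equivMapOfInjective _ (MulAut.conj g).injective).toEquiv
  · intro u
    obtain ⟨g, i, rfl⟩ := hvert u
    exact ⟨_, g, i, rfl, rfl⟩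
  · rintro _ _ _ ⟨g, i, rfl, rfl⟩ ⟨k, j, hk, rfl⟩
    obtain rfl : i = j := congrArg Sigma.fst hk
    exact ⟨k * g⁻¹, MulAction.mem_stabilizer_iff.2 (by rw [mul_smul, inv_smul_smul, ← hk]),
      by rw [mul_smul, inv_smul_smul]⟩
  · rintro _ _ ⟨g, i, rfl, rfl⟩
    obtain ⟨hp, hpr, hne⟩ := h2 i
    rw [hgs, hgs, ← SfFree.cj_inf, SfFree.cj, SfFree.cj,
      relIndex_map_map_of_injective _ _ (MulAut.conj g).injective]
    exact ⟨hp.map _, hpr, hne⟩
  · rintro _ _ ⟨g, i, rfl, rfl⟩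
    rw [hgs, hgs, ← SfFree.cj_inf, qs_smul, Qs, gs_base, SfFree.cj, SfFree.cj,
      relIndex_map_map_of_injective _ _ (MulAut.conj g).injective]
    exact h4 i
  · intro v x hx
    obtain ⟨g, i, rfl⟩ := hvert v
    obtain ⟨hx1, hx2⟩ := hx
    rw [qs_smul, Qs, gs_base] at hx2 ⊢
    rw [hgs] at hx1
    obtain ⟨y, hy, rfl⟩ := hx1
    refine ⟨y, h1 i ⟨hy, mem_centralizer_iff.2 fun q hq => ?_⟩, rfl⟩
    exact (MulAut.conj g).injective (by
      rw [map_mul, map_mul]; exact mem_centralizer_iff.1 hx2 _ ⟨q, hq, rfl⟩)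
  · rintro _ _ ⟨g, i, rfl, rfl⟩ N hN hn1 hn2
    rw [hgs] at hn1 hn2
    rw [hgs, hgs] at hN
    have hsup : SfFree.cj g (P i) ⊔ SfFree.cj g (P (!i)) = ⊤ := by
      rw [SfFree.cj, SfFree.cj, ← Subgroup.map_sup]
      have : P i ⊔ P (!i) = ⊤ := by
        cases i
        · exact (sup_comm _ _).trans hgen
        · exact hgen
      rw [this, map_top_of_surjective _ (MulAut.conj g).surjective]
    have hnor : N.Normal := normalizer_eq_top_iff.1 (top_le_iff.1 (hsup ▸ sup_le hn1 hn2))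
    refine h3 N hnor fun x hx => ?_
    obtain ⟨⟨y, hy, hyx⟩, ⟨y', hy', hyx'⟩⟩ := hN (hnor.conj_mem x hx g)
    have e1 : y = x := (MulAut.conj g).injective hyx
    have e2 : y' = x := (MulAut.conj g).injective hyx'
    subst e1 e2
    cases i
    · exact ⟨hy', hy⟩
    · exact ⟨hy, hy'⟩

theorem gs_cadj {G : Type*} [Group G] (P : Bool → Subgroup G) (g : G) (i : Bool) :
    Gs G (g • base P i) = SfFree.cj g (P i) := by rw [gs_smul, gs_base]

theorem noncentral_coset {G : Type*} [Group G] {P : Bool → Subgroup G} {g : G} {i : Bool}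
    (h : ¬ P i ≤ centralizer (Cfsg.omegaCenterOf (P i ⊓ P (!i)) : Set G)) :
    ¬ Gs G (g • base P i) ≤ centralizer (ze G (g • base P i) (g • base P (!i)) : Set G) := by
  intro hle
  refine h fun x hx => mem_centralizer_iff.2 fun z hz => ?_
  rw [ze_smul, ze, gs_base, gs_base, gs_cadj] at hle
  have := mem_centralizer_iff.1 (hle ⟨x, hx, rfl⟩) _ ⟨z, hz, rfl⟩
  exact (MulAut.conj g).injective (by rw [map_mul, map_mul]; exact this)

theorem amal {G : Type*} [Group G] (P : Bool → Subgroup G) [∀ i, Finite (P i)]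
    (hgen : P true ⊔ P false = ⊤)
    (h1 : ∀ i, P i ⊓ centralizer (Cfsg.pCoreOf 2 (P i) : Set G) ≤ Cfsg.pCoreOf 2 (P i))
    (h2 : ∀ i, IsPGroup 2 ↥(P i ⊓ P (!i)) ∧ ((P i ⊓ P (!i)).relIndex (P i)).Prime ∧
      (P i ⊓ P (!i)).relIndex (P i) ≠ 2)
    (h3 : ∀ N : Subgroup G, N.Normal → N ≤ P true ⊓ P false → N = ⊥)
    (h4 : ∀ i, (Cfsg.pCoreOf 2 (P i)).relIndex (P i ⊓ P (!i)) = 2)
    (h5 : ∀ i, ¬ P i ≤ centralizer (Cfsg.omegaCenterOf (P i ⊓ P (!i)) : Set G)) :
    Amal0 G (cadj P) := by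
  refine ⟨amalB P hgen h1 h2 h3 h4, ?_⟩
  rintro _ _ ⟨g, i, rfl, rfl⟩
  exact noncentral_coset (h5 i)

/-- The edge index at a vertex of the coset graph. -/
theorem relIndex_coset {G : Type*} [Group G] {P : Bool → Subgroup G} {u w : Σ i : Bool, G ⧸ P i}
    (h : cadj P u w) :
    ∃ i, (Gs G u ⊓ Gs G w).relIndex (Gs G u) = (P i ⊓ P (!i)).relIndex (P i) := by
  obtain ⟨g, i, rfl, rfl⟩ := h
  refine ⟨i, ?_⟩
  rw [gs_smul, gs_smul, gs_base, gs_base, ← SfFree.cj_inf, SfFree.cj, SfFree.cj,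
    relIndex_map_map_of_injective _ _ (MulAut.conj g).injective]

end Cfsg.Agent.S4Amal
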