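import Cfsg.Agent.S4Amalgam.Critical

/-!
# Two `S₃` parabolics with non-commuting adjacent `Z`'s
-/

set_option autoImplicit false

namespace Cfsg.Agent.S4Amal

open Subgroup
open scoped commutatorElement
open SfFree (cj)

variable {G : Type*} [Group G] {V : Type*} [MulAction G V] {adj : V → V → Prop}

namespace Amal

open Amal0 AmalB

variable (A : Amal G adj)
include A

theorem noncomm_all (v₀ : V) {u w : V} (h : adj u w) : ¬ Comm G adj u w := by
  obtain ⟨u₀, w₀, h0, hn0⟩ := A.exists_adj_noncomm v₀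
  have hall : ∀ {x y : V}, adj x y → ¬ Comm G adj x y → ∀ n, adj x n → ¬ Comm G adj x n := by
    intro x y hxy hn n hxn hc
    obtain ⟨g, hg, rfl⟩ := A.trans x y n hxy hxn
    apply hn
    have h1 := A.comm_smul g⁻¹ hc
    rwa [inv_smul_smul, inv_smul_eq_iff.2 (MulAction.mem_stabilizer_iff.1 hg).symm] at h1
  have hP : ∀ x, Relation.ReflTransGen adj u₀ x → ∀ n, adj x n → ¬ Comm G adj x n := by
    intro x hx
    induction hx with
    | refl => exact hall h0 hn0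
    | tail _ hxy ih => exact hall (A.symm _ _ hxy) (fun hc => ih _ hxy hc.symm)
  exact hP u (A.conn u₀ u) w h

theorem zv_le_edge {u w : V} (h : adj u w) : zv G adj u ≤ Gs G w ⊓ Gs G u :=
  le_inf (((A.zv_le u).trans inf_le_left).trans ((A.qs_le_edge h).trans inf_le_right))
    (A.zv_le_gs u)

theorem one_mover (v₀ : V) {u w : V} (h : adj u w) :
    ∃ x ∈ zv G adj u, x ∈ Gs G w ⊓ Gs G u ∧ x ∉ Qs G w := by
  by_contra! hall
  exact A.noncomm_all v₀ (A.symm _ _ h) fun x hx =>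
    A.qs_centralizes w (hall x hx (A.zv_le_edge h hx))

theorem sq_reduce (v₀ : V) {u w : V} (h : adj u w) {q : G} (hq : q ∈ Qs G u) :
    ∃ e ∈ Qs G u ⊓ Qs G w, q * q = e * e := by
  by_cases hqw : q ∈ Qs G w
  · exact ⟨q, ⟨hq, hqw⟩, rfl⟩
  obtain ⟨x, hx, hxT, hx'⟩ := A.one_mover v₀ h
  have hqT : q ∈ Gs G w ⊓ Gs G u := ⟨(A.qs_le_edge h hq).2, (A.qs_le_edge h hq).1⟩
  refine ⟨q * x, ⟨(Qs G u).mul_mem hq (A.zv_le u hx).1,
    A.mul_mem_qs (A.symm _ _ h) hqT hxT hqw hx'⟩, ?_⟩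
  have hc : Commute x q :=
    (mem_centralizer_iff.1 (A.qs_centralizes u hq) x hx)
  rw [hc.mul_mul_mul_comm, A.sq_one hx, mul_one]

theorem qs_sq (v₀ : V) {u w : V} (h : adj u w) {q : G} (hq : q ∈ Qs G u) : q * q = 1 := by
  set S : Set G := (fun e => e * e) '' ((Qs G u ⊓ Qs G w : Subgroup G) : Set G) with hS
  have hle : ∀ {a b : V}, adj a b → (fun e : G => e * e) '' (Qs G a : Set G) =
      (fun e => e * e) '' ((Qs G a ⊓ Qs G b : Subgroup G) : Set G) := by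
    intro a b hab
    refine Set.Subset.antisymm ?_ (Set.image_mono (fun x hx => hx.1))
    rintro _ ⟨x, hx, rfl⟩
    obtain ⟨e, he, he'⟩ := A.sq_reduce v₀ hab hx
    exact ⟨e, he, he'.symm⟩
  have hnor : ∀ {a b : V}, adj a b → Gs G a ≤
      normalizer (closure ((fun e : G => e * e) '' ((Qs G a ⊓ Qs G b : Subgroup G) : Set G)) : Set G) := by
    intro a b hab g hg
    rw [mem_normalizer_iff_map_conj_eq, MonoidHom.map_closure, ← hle hab, Set.image_image]
    congr 1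
    ext y
    constructor
    · rintro ⟨x, hx, rfl⟩
      exact ⟨g * x * g⁻¹, (mem_normalizer_iff.1 (A.qs_normal a hg) x).1 hx, by
        show _ = g * (x * x) * g⁻¹
        group⟩
    · rintro ⟨x, hx, rfl⟩
      refine ⟨g⁻¹ * x * g, ?_, by show g * _ * g⁻¹ = _; group⟩
      have := (mem_normalizer_iff.1 (A.qs_normal a ((Gs G a).inv_mem hg)) x).1 hx
      rwa [inv_inv] at this
  have h2 := hnor (A.symm _ _ h)
  rw [inf_comm (Qs G w)] at h2
  have h0 := A.faith u w h (closure S) ((closure_le _).2 ?_) (hnor h) h2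
  · obtain ⟨e, he, he'⟩ := A.sq_reduce v₀ h hq
    rw [he']
    exact Subgroup.mem_bot.1 (h0.le (subset_closure ⟨e, he, rfl⟩))
  · rintro _ ⟨e, he, rfl⟩
    exact A.qs_le_edge h ((Qs G u).mul_mem he.1 he.1)

theorem qs_inf_eq (v₀ : V) {u w : V} (h : adj u w) : Qs G u ⊓ Qs G w = ze G u w := by
  refine le_antisymm (fun e he => mem_ze (A.qs_le_edge h he.1) (fun t ht => ?_)
    (A.qs_sq v₀ h he.1)) (le_inf ((A.ze_le_qs h).trans inf_le_left)
      ((ze_comm u w).le.trans ((A.ze_le_qs (A.symm _ _ h)).trans inf_le_left)))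
  have hcQ : ∀ q ∈ Qs G u, Commute q e := fun q hq => by
    have i1 : ∀ y ∈ Qs G u, y⁻¹ = y := fun y hy =>
      inv_eq_of_mul_eq_one_right (A.qs_sq v₀ h hy)
    calc q * e = (q * e)⁻¹ := (i1 _ ((Qs G u).mul_mem hq he.1)).symm
      _ = e * q := by rw [mul_inv_rev, i1 q hq, i1 e he.1]
  by_cases htQ : t ∈ Qs G u
  · exact hcQ t htQ
  obtain ⟨y, hy, hyT, hy'⟩ := A.one_mover v₀ (A.symm _ _ h)
  have h1 := hcQ _ (A.mul_mem_qs h ht hyT htQ hy')
  have h2 : Commute y e := mem_centralizer_iff.1 (A.qs_centralizes w he.2) y hy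
  have h3 := h1.mul_left h2
  rwa [mul_assoc, A.sq_one hy, mul_one] at h3

theorem relIndex_inf (v₀ : V) {u w : V} (h : adj u w) :
    (ze G u w).relIndex (Qs G u) = 2 := by
  rw [← A.qs_inf_eq v₀ h, inf_relIndex_left]
  obtain ⟨x, hx, hxT, hx'⟩ := A.one_mover v₀ h
  refine index_eq_two_iff.2 ⟨⟨x, (A.zv_le u hx).1⟩, fun b => ?_⟩
  have hbT : (b : G) ∈ Gs G w ⊓ Gs G u :=
    ⟨(A.qs_le_edge h b.2).2, (A.qs_le_edge h b.2).1⟩
  by_cases hb : (b : G) ∈ Qs G w
  · refine Or.inr ⟨mem_subgroupOf.2 hb, fun hbx => hx' ?_⟩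
    exact ((Qs G w).mul_mem_cancel_left hb).1 (mem_subgroupOf.1 hbx)
  · exact Or.inl ⟨mem_subgroupOf.2 (A.mul_mem_qs (A.symm _ _ h) hbT hxT hb hx'),
      fun h0 => hb (mem_subgroupOf.1 h0)⟩

theorem card_qs (v₀ : V) {u w : V} (h : adj u w) :
    Nat.card (Qs G u) = 4 * Nat.card (dv G adj u) ∧
      Nat.card (ze G u w) = 2 * Nat.card (dv G adj u) := by
  have := A.finite_sub (qs_le (G := G) u)
  have hle : ze G u w ≤ Qs G u := (A.ze_le_qs h).trans inf_le_left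
  have hd : dv G adj u ≤ ze G u w := fun d hd => A.dv_le_ze h hd
  have := A.finite_sub (v := u) (hle.trans (qs_le u))
  have := A.finite_sub (v := u) (hd.trans (hle.trans (qs_le u)))
  obtain ⟨n, hn, hne⟩ := A.exists_other h
  have hinf : ze G u w ⊓ ze G u n = dv G adj u :=
    le_antisymm (fun d hd => A.mem_dv h hn hne.symm hd.1 hd.2)
      (fun d hd => ⟨A.dv_le_ze h hd, A.dv_le_ze hn hd⟩)
  have hmul := relIndex_mul_relIndex _ _ _ hd hle
  have h4 : (dv G adj u).relIndex (Qs G u) ≤ 4 := by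
    rw [← hinf]
    refine (relIndex_inf_le).trans ?_
    rw [A.relIndex_inf v₀ h, A.relIndex_inf v₀ hn]
  have hne1 : (dv G adj u).relIndex (ze G u w) ≠ 1 := fun e => A.noncentral u w h <|
    Subgroup.le_centralizer_iff.1 fun x hx => (relIndex_eq_one.1 e hx).2
  have hne0 : (dv G adj u).relIndex (ze G u w) ≠ 0 := Nat.card_pos.ne'
  rw [A.relIndex_inf v₀ h] at hmul
  have e1 := Coprime.card_mul_relIndex_of_le hd
  have e2 := Coprime.card_mul_relIndex_of_le hle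
  rw [show (dv G adj u).relIndex (ze G u w) = 2 by omega] at e1
  rw [A.relIndex_inf v₀ h] at e2
  constructor <;> omega

theorem card_dv (v₀ : V) {u w : V} (h : adj u w) :
    Nat.card (dv G adj u) = Nat.card (dv G adj w) ∧ Nat.card (dv G adj u) ≤ 2 := by
  obtain ⟨hu1, hu2⟩ := A.card_qs v₀ h
  obtain ⟨hw1, hw2⟩ := A.card_qs v₀ (A.symm _ _ h)
  rw [ze_comm w u] at hw2
  refine ⟨by omega, ?_⟩
  have := A.finite_sub ((ze_le (G := G) u w).trans inf_le_left)
  have hu : dv G adj u ≤ ze G u w := fun d hd => A.dv_le_ze h hd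
  have hw : dv G adj w ≤ ze G u w := fun d hd => (ze_comm w u).le (A.dv_le_ze (A.symm _ _ h) hd)
  have e1 := Coprime.card_mul_relIndex_of_le hu
  have e2 := Coprime.card_mul_relIndex_of_le hw
  rw [hu2] at e1
  rw [hw2] at e2
  have p1 : (dv G adj u).relIndex (ze G u w) = 2 :=
    Nat.eq_of_mul_eq_mul_left (Nat.pos_of_ne_zero fun e0 => by
      have := Nat.card_pos (α := ze G u w); omega) (e1.trans (mul_comm _ _))
  have p2 : (dv G adj w).relIndex (ze G u w) = 2 :=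
    Nat.eq_of_mul_eq_mul_left (Nat.pos_of_ne_zero fun e0 => by
      have := Nat.card_pos (α := ze G u w); omega) (e2.trans (mul_comm _ _))
  have hbot : dv G adj u ⊓ dv G adj w = ⊥ :=
    (eq_bot_iff_forall _).2 fun d hd => A.eq_one_of_dv h hd.1 hd.2
  have := relIndex_inf_le (H := dv G adj u) (K := dv G adj w) (L := ze G u w)
  rw [hbot, relIndex_bot_left, p1, p2, hu2] at this
  omega

theorem exists_r (v₀ : V) {u w : V} (h : adj u w) :
    ∃ r ∈ Gs G u ⊓ Gs G w, r ∉ dv G adj u ∧ r * r = 1 ∧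
      ∀ a ∈ Gs G u ⊓ Gs G w, a * a ∈ zpowers r := by
  obtain ⟨x, hx, hxT, hx'⟩ := A.one_mover v₀ h
  obtain ⟨y, hy, hyT, hy'⟩ := A.one_mover v₀ (A.symm _ _ h)
  obtain ⟨hr1, -⟩ := A.comm_mem h hx hxT.1 hy hyT hy'
  have habs : ∀ q ∈ Qs G u, ⁅q, y⁆ = 1 ∨ ⁅q, y⁆ = ⁅x, y⁆ := fun q hq =>
    A.comm_absorb (A.symm _ _ h) hxT hx' ⟨(A.qs_le_edge h hq).2, (A.qs_le_edge h hq).1⟩ hy
  refine ⟨_, ze_le u w hr1, fun hrd => ?_, A.sq_one (ze_le_zv h hr1), fun a ha => ?_⟩
  · obtain ⟨z, hz, hzd⟩ := A.not_comm_dv h hyT hy'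
    refine hzd ?_
    rw [show z⁻¹ * (y * z * y⁻¹) = ⁅z⁻¹, y⁆ by rw [commutatorElement_def]; group]
    rcases habs z⁻¹ ((Qs G u).inv_mem (A.zv_le u hz).1) with e | e
    · rw [e]; exact one_mem _
    · rw [e]; exact hrd
  · by_cases haQ : a ∈ Qs G u
    · rw [A.qs_sq v₀ h haQ]; exact one_mem _
    · have hq := A.mul_mem_qs h ha hyT haQ hy'
      have e1 : a * a = ⁅a * y, y⁆ := by
        have i1 := inv_eq_of_mul_eq_one_right (A.qs_sq v₀ h hq)
        rw [commutatorElement_def, i1, A.inv_eq hy, mul_assoc a y y, A.sq_one hy, mul_one]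
        rw [show a * (a * y) * y = a * a * (y * y) by group, A.sq_one hy, mul_one]
      rw [e1]
      rcases habs _ hq with e | e
      · rw [e]; exact one_mem _
      · rw [e]; exact mem_zpowers _

end Amal

end Cfsg.Agent.S4Amal
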