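import Cfsg.Agent.S4Amalgam.GoldMain
import Cfsg.Agent.S4Amalgam.Coset
import Cfsg.Agent.S4Amalgam.One

/-!
# Two groups of index three over a common 2-group
-/

set_option autoImplicit false

namespace Cfsg.Agent.S4Amal

open Subgroup

variable {X : Type*} [Group X]

theorem mem_normalizer_of_le {H : Subgroup X} {s : Subgroup X}
    (h : ∀ g ∈ s, ∀ p ∈ H, g * p * g⁻¹ ∈ H) : s ≤ normalizer (H : Set X) := by
  intro g hg
  refine mem_normalizer_iff.2 fun p => ⟨h g hg p, fun hp => ?_⟩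
  have := h _ (s.inv_mem hg) _ hp
  simpa [mul_assoc] using this

theorem core_le_sylow {L S : Subgroup X} [Finite L] (hSL : S ≤ L) (hSp : IsPGroup 2 S)
    (hidx : ¬ 2 ∣ S.relIndex L) : Cfsg.pCoreOf 2 L ≤ S := by
  have : Fact (Nat.Prime 2) := ⟨Nat.prime_two⟩
  have h := Core.pCore_le_sylow ((hSp.comap_of_injective L.subtype L.subtype_injective).toSylow hidx)
  refine (Subgroup.map_mono h).trans ?_
  show (S.subgroupOf L).map L.subtype ≤ S
  rw [map_subgroupOf_eq_of_le hSL]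

theorem le_of_prime_relIndex {T P H : Subgroup X} (h3 : T.relIndex P = 3) (hTP : T ≤ P)
    (hT : T ≤ H) {x : X} (hx : x ∈ P) (hxT : x ∉ T) (hxH : x ∈ H) : P ≤ H := by
  have h1 := relIndex_mul_relIndex _ _ _ (le_inf hTP hT : T ≤ P ⊓ H) inf_le_left
  rw [h3] at h1
  rcases (Nat.dvd_prime Nat.prime_three).1 (Dvd.intro _ h1) with e | e
  · exact absurd (relIndex_eq_one.1 e ⟨hx, hxH⟩) hxT
  · rw [e] at h1
    exact (relIndex_eq_one.1 (by omega : (P ⊓ H).relIndex P = 1)).trans inf_le_right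

/-- The bound when one group has an element outside `T` centralizing its 2-core. -/
theorem bound_of_centralizer {P P' T : Subgroup X} [Finite P] [Finite P'] (hTP : T ≤ P)
    (hTP' : T ≤ P') (hp : IsPGroup 2 T) (h3 : T.relIndex P = 3) (h3' : T.relIndex P' = 3)
    (h2 : (Cfsg.pCoreOf 2 P).relIndex T = 2) (h2' : (Cfsg.pCoreOf 2 P').relIndex T = 2)
    (hc : ∀ N : Subgroup X, N ≤ T → P ≤ normalizer (N : Set X) → P' ≤ normalizer (N : Set X) →
      N = ⊥) (hcp : ¬ P ⊓ centralizer (Cfsg.pCoreOf 2 P : Set X) ≤ Cfsg.pCoreOf 2 P) :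
    Nat.card T ≤ 16 := by
  classical
  have : Fact (Nat.Prime 2) := ⟨Nat.prime_two⟩
  set Q := Cfsg.pCoreOf 2 P with hQ
  set R := Cfsg.pCoreOf 2 P' with hR
  have hQT : Q ≤ T := core_le_sylow hTP hp (by rw [h3]; norm_num)
  have hRT : R ≤ T := core_le_sylow hTP' hp (by rw [h3']; norm_num)
  have hQn : P ≤ normalizer (Q : Set X) := le_normalizer.trans (ZNComp.normalizer_le_core P)
  have hRn : P' ≤ normalizer (R : Set X) := le_normalizer.trans (ZNComp.normalizer_le_core P')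
  obtain ⟨x, ⟨hxP, hxc⟩, hxT⟩ : ∃ x ∈ P ⊓ centralizer (Q : Set X), x ∉ T := by
    by_contra! hall
    refine hcp (le_core_of_normal inf_le_left ?_ (hp.to_le hall))
    refine mem_normalizer_of_le fun g hg p hp' => ⟨P.mul_mem (P.mul_mem hg hp'.1) (P.inv_mem hg),
      mem_centralizer_iff.2 fun q hq => ?_⟩
    have hq' : g⁻¹ * q * g⁻¹⁻¹ ∈ Q := (mem_normalizer_iff.1 (hQn (P.inv_mem hg)) q).1 hq
    calc q * (g * p * g⁻¹) = g * ((g⁻¹ * q * g⁻¹⁻¹) * p) * g⁻¹ := by group
      _ = g * (p * (g⁻¹ * q * g⁻¹⁻¹)) * g⁻¹ := by rw [mem_centralizer_iff.1 hp'.2 _ hq']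
      _ = g * p * g⁻¹ * q := by group
  have hnor : ∀ {N : Subgroup X}, N ≤ Q → T ≤ normalizer (N : Set X) →
      P ≤ normalizer (N : Set X) := fun {N} hN hT => le_of_prime_relIndex h3 hTP hT hxP hxT
    (centralizer_le_normalizer _ (mem_centralizer_iff.2 fun q hq =>
      mem_centralizer_iff.1 hxc q (hN hq)))
  have hsq : ∀ r ∈ R, r * r ∈ Q := fun r hr => by
    have := Subgroup.mul_self_mem_of_index_two h2 ⟨r, hRT hr⟩
    exact this
  set S := closure ((fun r : X => r * r) '' (R : Set X)) with hS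
  have hSQ : S ≤ Q := (closure_le _).2 (by rintro _ ⟨r, hr, rfl⟩; exact hsq r hr)
  have hSn : P' ≤ normalizer (S : Set X) := mem_normalizer_of_le fun g hg p hp' => by
    have hmap : S.map (MulAut.conj g).toMonoidHom ≤ S := by
      rw [hS, MonoidHom.map_closure]
      refine closure_mono ?_
      rintro _ ⟨_, ⟨r, hr, rfl⟩, rfl⟩
      exact ⟨g * r * g⁻¹, (mem_normalizer_iff.1 (hRn hg) r).1 hr,
        show g * r * g⁻¹ * (g * r * g⁻¹) = g * (r * r) * g⁻¹ by group⟩
    exact hmap ⟨p, hp', rfl⟩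
  have hS0 := hc S (hSQ.trans hQT) (hnor hSQ (hTP'.trans hSn)) hSn
  set U := Q ⊓ R with hU
  have hUn : ∀ t ∈ T, ∀ p ∈ U, t * p * t⁻¹ ∈ U := fun t ht p hp' =>
    ⟨(mem_normalizer_iff.1 (hQn (hTP ht)) p).1 hp'.1,
      (mem_normalizer_iff.1 (hRn (hTP' ht)) p).1 hp'.2⟩
  let ι := ↥P' ⧸ T.subgroupOf P'
  have : Fintype ι := Fintype.ofFinite ι
  let K : Subgroup X := ⨅ q : ι, SfFree.cj ((q.out : ↥P') : X) U
  have hKmem : ∀ {p : X}, p ∈ K ↔ ∀ y ∈ P', y⁻¹ * p * y ∈ U := fun {p} => by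
    rw [Subgroup.mem_iInf]
    constructor
    · intro h y hy
      obtain ⟨u, hu, hup⟩ := h (((⟨y, hy⟩ : ↥P')) : ι)
      set o := ((((⟨y, hy⟩ : ↥P')) : ι).out : ↥P') with ho
      have ht : o⁻¹ * ⟨y, hy⟩ ∈ T.subgroupOf P' := QuotientGroup.eq.1 (Quotient.out_eq _)
      have h9 := hUn _ (T.inv_mem (mem_subgroupOf.1 ht)) u hu
      rw [show y⁻¹ * p * y = ((o : X)⁻¹ * y)⁻¹ * u * ((o : X)⁻¹ * y)⁻¹⁻¹ by
        rw [← hup]
        show y⁻¹ * ((o : X) * u * (o : X)⁻¹) * y = _
        group]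
      exact h9
    · intro h q
      refine ⟨_, h _ (q.out : ↥P').2, ?_⟩
      show _ * _ * _ = p
      group
  have hKn : P' ≤ normalizer (K : Set X) := mem_normalizer_of_le fun g hg p hp' =>
    hKmem.2 fun y hy => by
      have := hKmem.1 hp' (g⁻¹ * y) (P'.mul_mem (P'.inv_mem hg) hy)
      rwa [show y⁻¹ * (g * p * g⁻¹) * y = (g⁻¹ * y)⁻¹ * p * (g⁻¹ * y) by group]
  have hKU : K ≤ U := fun p hp' => by
    have := hKmem.1 hp' 1 P'.one_mem
    simpa using this
  have hK0 := hc K ((hKU.trans inf_le_left).trans hQT)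
    (hnor (hKU.trans inf_le_left) (hTP'.trans hKn)) hKn
  have hUR : U.relIndex R ≤ 2 := by
    rw [hU, inf_relIndex_right]
    have := relIndex_le_of_le_right (H := Q) hRT (by rw [h2]; norm_num)
    omega
  have h8 : Nat.card R ≤ 8 := by
    have hle := relIndex_iInf_le (L := R) (fun q : ι => SfFree.cj ((q.out : ↥P') : X) U)
    have hq : ∀ q : ι, (SfFree.cj ((q.out : ↥P') : X) U).relIndex R ≤ 2 := fun q => by
      have e : SfFree.cj ((q.out : ↥P') : X) R = R :=
        SfFree.cj_of_mem_normalizer (hRn (q.out : ↥P').2)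
      conv_lhs => rw [← e]
      rw [SfFree.cj, SfFree.cj, relIndex_map_map_of_injective _ _ (MulAut.conj _).injective]
      exact hUR
    have h9 := hle.trans (Finset.prod_le_prod' (fun q _ => hq q))
    rw [Finset.prod_const, Finset.card_univ] at h9
    have hcard : Fintype.card ι = 3 := by
      rw [← Nat.card_eq_fintype_card]; exact h3'
    rw [show (⨅ q : ι, SfFree.cj ((q.out : ↥P') : X) U) = ⊥ from hK0, relIndex_bot_left,
      hcard] at h9
    exact h9
  have e := Coprime.card_mul_relIndex_of_le hRT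
  rw [h2'] at e
  omega

/-- The bound. -/
theorem goldschmidt_bound (P : Bool → Subgroup X) [∀ i, Finite (P i)]
    (hgen : P true ⊔ P false = ⊤)
    (hd : ∀ i, IsPGroup 2 ↥(P i ⊓ P (!i)) ∧ (P i ⊓ P (!i)).relIndex (P i) = 3 ∧
      (Cfsg.pCoreOf 2 (P i)).relIndex (P i ⊓ P (!i)) = 2)
    (hc : ∀ N : Subgroup X, N ≤ P true ⊓ P false → P true ≤ normalizer (N : Set X) →
      P false ≤ normalizer (N : Set X) → N = ⊥) :
    Nat.card ↥(P true ⊓ P false) ≤ 128 := by
  have hcomm : ∀ i, P i ⊓ P (!i) = P true ⊓ P false := fun i => by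
    cases i
    · exact inf_comm _ _
    · rfl
  by_cases h1 : ∀ i, P i ⊓ centralizer (Cfsg.pCoreOf 2 (P i) : Set X) ≤ Cfsg.pCoreOf 2 (P i)
  swap
  · obtain ⟨i, hi⟩ := not_forall.1 h1
    have h := hd (!i)
    rw [Bool.not_not, inf_comm] at h
    have := bound_of_centralizer (P := P i) (P' := P (!i)) inf_le_left inf_le_right (hd i).1
      (hd i).2.1 h.2.1 (hd i).2.2 h.2.2 (fun N hN ha hb => hc N (hcomm i ▸ hN)
        (by cases i; exacts [hb, ha]) (by cases i; exacts [ha, hb])) hi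
    rw [hcomm i] at this
    omega
  have h3 : ∀ N : Subgroup X, N.Normal → N ≤ P true ⊓ P false → N = ⊥ := fun N hN hle =>
    hc N hle (by rw [normalizer_eq_top N]; exact le_top) (by rw [normalizer_eq_top N]; exact le_top)
  have hpr : ∀ i, IsPGroup 2 ↥(P i ⊓ P (!i)) ∧ ((P i ⊓ P (!i)).relIndex (P i)).Prime ∧
      (P i ⊓ P (!i)).relIndex (P i) ≠ 2 := fun i =>
    ⟨(hd i).1, (hd i).2.1 ▸ Nat.prime_three, by rw [(hd i).2.1]; norm_num⟩
  have A := amalB P hgen h1 hpr h3 fun i => (hd i).2.2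
  have three : ∀ u w, cadj P u w → (Gs X u ⊓ Gs X w).relIndex (Gs X u) = 3 := fun u w h => by
    obtain ⟨i, hi⟩ := relIndex_coset h
    rw [hi, (hd i).2.1]
  have hadj : ∀ i, cadj P (base P i) (base P (!i)) := fun i =>
    ⟨1, i, (one_smul _ _).symm, (one_smul _ _).symm⟩
  let Nc : Bool → Prop := fun i =>
    ¬ P i ≤ centralizer (Cfsg.omegaCenterOf (P i ⊓ P (!i)) : Set X)
  by_cases hnc : ∀ i, Nc i
  · have A' : Amal X (cadj P) :=
      ⟨amal P hgen h1 hpr h3 (fun i => (hd i).2.2) hnc, three⟩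
    obtain ⟨hu, -⟩ := A'.card_qs (base P true) (hadj true)
    obtain ⟨-, hle⟩ := A'.card_dv (base P true) (hadj true)
    have e := Coprime.card_mul_relIndex_of_le (A.qs_le_edge (hadj true))
    rw [A.two _ _ (hadj true)] at e
    have := A.finite_sub (inf_le_left : Gs X (base P true) ⊓ Gs X (base P (!true)) ≤ _)
    rw [gs_base, gs_base] at e
    simp only [Bool.not_true] at e
    omega
  obtain ⟨j, hj⟩ := not_forall.1 hnc
  have hj' := not_not.1 hj
  by_cases hi0 : Nc (!j)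
  swap
  · have hj2 := not_not.1 hi0
    rw [Bool.not_not, inf_comm] at hj2
    set Z := Cfsg.omegaCenterOf (P j ⊓ P (!j)) with hZ
    have hZT : Z ≤ P j ⊓ P (!j) := (Thompson.omegaOne_le 2 _).trans inf_le_left
    have hn : ∀ {H : Subgroup X}, H ≤ centralizer (Z : Set X) → H ≤ normalizer (Z : Set X) :=
      fun h => h.trans (centralizer_le_normalizer _)
    have hZ0 : Z = ⊥ := hc Z (hcomm j ▸ hZT)
      (by cases j; exacts [hn hj2, hn hj']) (by cases j; exacts [hn hj', hn hj2])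
    suffices Nat.card ↥(P j ⊓ P (!j)) = 1 by rw [hcomm j] at this; omega
    by_contra hne
    obtain ⟨hp, -, -⟩ := hd j
    set T := P j ⊓ P (!j)
    have : Finite T := Finite.of_injective _ (inclusion_injective (inf_le_left : T ≤ P j))
    have : Fact (Nat.Prime 2) := ⟨Nat.prime_two⟩
    have : Nontrivial T := Finite.one_lt_card_iff_nontrivial.1
      (by have := Nat.card_pos (α := T); omega)
    have := hp.center_nontrivial
    obtain ⟨k, hk, hk'⟩ := (hp.to_subgroup (center T)).nontrivial_iff_card.1 this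
    obtain ⟨y, hy⟩ := exists_prime_orderOf_dvd_card' (G := center T) 2
      (hk' ▸ dvd_pow_self 2 (by omega : k ≠ 0))
    have hy2 : ((y : T) : X) * ((y : T) : X) = 1 := by
      have h9 := pow_orderOf_eq_one y
      rw [hy, pow_two] at h9
      exact congrArg (fun v : center T => ((v : T) : X)) h9
    have : ((y : T) : X) ∈ Z := Thompson.mem_omegaOne
      ⟨(y : T).2, mem_centralizer_iff.2 fun t ht =>
        congrArg Subtype.val (mem_center_iff.1 y.2 ⟨t, ht⟩)⟩ (by rw [pow_two]; exact hy2)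
    rw [hZ0, Subgroup.mem_bot] at this
    have h1 : y = 1 := Subtype.ext (Subtype.ext this)
    rw [h1, orderOf_one] at hy
    omega
  have G' : Gold X (cadj P) (fun v => v.1 = !j) := by
    refine ⟨A, three, ?_, ?_, ?_⟩
    · rintro _ _ ⟨g, i, rfl, rfl⟩
      show (!i) = !j ↔ ¬ i = !j
      cases i <;> cases j <;> simp
    · rintro _ _ ⟨g, i, rfl, rfl⟩ (h : i = !j)
      subst h
      exact noncentral_coset hi0
    · rintro _ _ ⟨g, i, rfl, rfl⟩ (h : ¬ i = !j)
      obtain rfl : i = j := by cases i <;> cases j <;> simp at h ⊢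
      intro x hx
      rw [gs_cadj] at hx
      obtain ⟨x, hx, rfl⟩ := hx
      refine mem_centralizer_iff.2 fun z hz => ?_
      rw [ze_smul, ze, gs_base, gs_base] at hz
      obtain ⟨z, hz, rfl⟩ := hz
      show MulAut.conj g z * MulAut.conj g x = MulAut.conj g x * MulAut.conj g z
      rw [← map_mul, ← map_mul, mem_centralizer_iff.1 (hj' hx) z hz]
  have h := G'.card_edge_le (a := base P (!j)) (show (!j) = !j from rfl) (hadj (!j))
  rw [gs_base, gs_base, hcomm (!j)] at h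
  exact h

end Cfsg.Agent.S4Amal
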