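import Cfsg.Agent.S4Amalgam.Graph

/-!
# Critical pairs of two `S₃` parabolics

A shortest walk between vertices with non-commuting `Z`'s has length one.
-/

set_option autoImplicit false

namespace Cfsg.Agent.S4Amal

open Subgroup
open scoped commutatorElement
open SfFree (cj)

variable {G : Type*} [Group G] {V : Type*} [MulAction G V] {adj : V → V → Prop}

/-- `Z_u` and `Z_w` commute. -/
abbrev Comm (G : Type*) [Group G] [MulAction G V] (adj : V → V → Prop) (u w : V) : Prop :=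
  zv G adj w ≤ centralizer (zv G adj u : Set G)

/-- All walks shorter than `b` give commuting `Z`'s. -/
def Short (G : Type*) [Group G] [MulAction G V] (adj : V → V → Prop) (b : ℕ) : Prop :=
  ∀ n u w, n < b → Walk adj n u w → Comm G adj u w

/-- A critical pair `a, a'` at distance `m + 2`. -/
structure Crit (G : Type*) [Group G] [MulAction G V] (adj : V → V → Prop) (m : ℕ)
    (a a1 c a' : V) : Prop where
  h1 : adj a a1
  h2 : Walk adj m a1 c
  h3 : adj c a'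
  nc : ¬ Comm G adj a a'

theorem Comm.symm {u w : V} (h : Comm G adj u w) : Comm G adj w u :=
  Subgroup.le_centralizer_iff.1 h

theorem Comm.commute {u w : V} (h : Comm G adj u w) {x y : G} (hx : x ∈ zv G adj u)
    (hy : y ∈ zv G adj w) : Commute x y := mem_centralizer_iff.1 (h hy) x hx

theorem mem_normalizer_of_invol {H : Subgroup G} {z : G} (hz : z * z = 1)
    (h : ∀ x ∈ H, z * x * z⁻¹ ∈ H) : z ∈ normalizer (H : Set G) := by
  refine mem_normalizer_iff.2 fun x => ⟨h x, fun hx => ?_⟩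
  have h1 := h _ hx
  rwa [inv_eq_of_mul_eq_one_right hz, show z * (z * x * z) * z = (z * z) * x * (z * z) by group,
    hz, one_mul, mul_one] at h1

theorem walk_cons {n : ℕ} {u x w : V} (h : adj u x) (h' : Walk adj n x w) :
    Walk adj (n + 1) u w := ⟨x, h, h'⟩

theorem walk_snoc {n : ℕ} {u x w : V} (h : Walk adj n u x) (h' : adj x w) :
    Walk adj (n + 1) u w := walk_append h (walk_one h')

namespace AmalB

variable (A : AmalB G adj)
include A

theorem qs_centralizes (v : V) : Qs G v ≤ centralizer (zv G adj v : Set G) :=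
  Subgroup.le_centralizer_iff.1 ((A.zv_le v).trans inf_le_right)

theorem conj_eq {v w : V} (h : adj v w) {s m y : G} (hs : s ∈ Gs G v ⊓ Gs G w) (hs' : s ∉ Qs G v)
    (hm : m ∈ Gs G v ⊓ Gs G w) (hm' : m ∉ Qs G v) (hy : y ∈ zv G adj v) :
    m * y * m⁻¹ = s * y * s⁻¹ := by
  have h1 : Commute (m⁻¹ * s) y := (mem_centralizer_iff.1 (A.qs_centralizes v (A.mul_mem_qs h
    ((Gs G v ⊓ Gs G w).inv_mem hm) hs (fun e => hm' (inv_mem_iff.1 e)) hs')) y hy).symm
  calc m * y * m⁻¹ = m * (y * (m⁻¹ * s)) * s⁻¹ := by group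
    _ = m * ((m⁻¹ * s) * y) * s⁻¹ := by rw [h1.eq]
    _ = s * y * s⁻¹ := by group

theorem comm_eq {v w : V} (h : adj v w) {s m y : G} (hs : s ∈ Gs G v ⊓ Gs G w) (hs' : s ∉ Qs G v)
    (hm : m ∈ Gs G v ⊓ Gs G w) (hm' : m ∉ Qs G v) (hy : y ∈ zv G adj v) :
    ⁅m, y⁆ = ⁅s, y⁆ := by
  rw [commutatorElement_def, commutatorElement_def, A.conj_eq h hs hs' hm hm' hy]

theorem comm_absorb {v w : V} (h : adj v w) {s m y : G} (hs : s ∈ Gs G v ⊓ Gs G w)
    (hs' : s ∉ Qs G v) (hm : m ∈ Gs G v ⊓ Gs G w) (hy : y ∈ zv G adj v) :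
    ⁅m, y⁆ = 1 ∨ ⁅m, y⁆ = ⁅s, y⁆ := by
  by_cases hm' : m ∈ Qs G v
  · exact Or.inl (commutatorElement_eq_one_iff_commute.2
      (mem_centralizer_iff.1 (A.qs_centralizes v hm') y hy).symm)
  · exact Or.inr (A.comm_eq h hs hs' hm hm' hy)

end AmalB

namespace Amal0

open AmalB

variable (A : Amal0 G adj)
include A

theorem comm_smul {u w : V} (g : G) (h : Comm G adj u w) : Comm G adj (g • u) (g • w) := by
  intro y hy
  rw [A.zv_smul] at hy
  obtain ⟨y, hy, rfl⟩ := hy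
  refine mem_centralizer_iff.2 fun x hx => ?_
  rw [SetLike.mem_coe, A.zv_smul] at hx
  obtain ⟨x, hx, rfl⟩ := hx
  exact (h.commute hx hy).map _

theorem walk_even {k : ℕ} {u w : V} (h : Walk adj (2 * k) u w) : ∃ g : G, g • u = w := by
  induction k generalizing u with
  | zero => exact ⟨1, (one_smul _ _).trans h⟩
  | succ k ih =>
    obtain ⟨x, hx, y, hy, h'⟩ := h
    obtain ⟨g, -, hg⟩ := A.trans x u y (A.symm _ _ hx) hy
    obtain ⟨g', hg'⟩ := ih h'
    exact ⟨g' * g, by rw [mul_smul, hg, hg']⟩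

theorem le_qs_of_comm {u w : V} (h : zv G adj u ≤ Gs G w) (hc : Comm G adj u w) :
    zv G adj u ≤ Qs G w := fun _ hx => A.mem_qs_of_centralizes (h hx) (hc.symm hx)

theorem push {b : ℕ} (hb : Short G adj b) {n : ℕ} : ∀ {u w : V}, n ≤ b → Walk adj n u w →
    zv G adj u ≤ Gs G w := by
  induction n with
  | zero => intro u w _ h; subst h; exact A.zv_le_gs u
  | succ n ih =>
    intro u w hn h
    obtain ⟨x, hx, hxw⟩ := walk_last h
    exact (A.le_qs_of_comm (ih (by omega) hx) (hb n u x (by omega) hx)).trans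
      ((A.qs_le_edge hxw).trans inf_le_right)

theorem push_qs {b n : ℕ} (hb : Short G adj b) {u w : V} (hn : n < b) (h : Walk adj n u w) :
    zv G adj u ≤ Qs G w :=
  A.le_qs_of_comm (A.push hb hn.le h) (hb n u w hn h)

theorem push_edge {b n : ℕ} (hb : Short G adj b) {u w x : V} (hn : n + 1 ≤ b)
    (h : Walk adj n u w) (hx : adj w x) : zv G adj u ≤ Gs G x ⊓ Gs G w :=
  le_inf (A.push hb hn (walk_snoc h hx)) (A.push hb (by omega) h)

theorem exists_short (v₀ : V) : ∃ b, Short G adj b ∧ ∃ u w, Walk adj b u w ∧ ¬ Comm G adj u w := by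
  classical
  have hex : ∃ n, ∃ u w, Walk adj n u w ∧ ¬ Comm G adj u w := by
    by_contra! hall
    obtain ⟨w₀, hw₀⟩ := A.deg v₀
    set N := ⨆ v, zv G adj v with hN
    have hle : ∀ x, N ≤ Gs G x := fun x => iSup_le fun v => by
      obtain ⟨n, hn⟩ := exists_walk (A.conn v x)
      exact A.push (b := n) (fun n' u w _ h' => hall n' u w h') le_rfl hn
    have hnor : N.Normal := ⟨fun y hy g => by
      have h1 : N.map (MulAut.conj g).toMonoidHom ≤ N := by
        rw [hN, Subgroup.map_iSup]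
        refine iSup_le fun v => ?_
        show cj g (zv G adj v) ≤ _
        rw [← A.zv_smul]
        exact le_iSup (fun v => zv G adj v) (g • v)
      exact h1 ⟨y, hy, rfl⟩⟩
    have h0 := A.faith v₀ w₀ hw₀ N (le_inf (hle _) (hle _))
      (by rw [Subgroup.normalizer_eq_top N]; exact le_top)
      (by rw [Subgroup.normalizer_eq_top N]; exact le_top)
    exact A.ze_ne_bot hw₀ (le_bot_iff.1 (h0 ▸ (ze_le_zv hw₀).trans (le_iSup _ v₀)))
  refine ⟨Nat.find hex, fun n u w hn hw => ?_, Nat.find_spec hex⟩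
  by_contra hc
  exact Nat.find_min hex hn ⟨u, w, hw, hc⟩

theorem crit_symm {m : ℕ} {a a1 c a' : V} (h : Crit G adj m a a1 c a') :
    Crit G adj m a' c a1 a :=
  ⟨A.symm _ _ h.h3, A.walk_symm h.h2, A.symm _ _ h.h1, fun e => h.nc e.symm⟩

theorem crit_le {m : ℕ} (hb : Short G adj (m + 2)) {a a1 c a' : V} (h : Crit G adj m a a1 c a') :
    zv G adj a' ≤ Gs G a ⊓ Gs G a1 :=
  A.push_edge hb le_rfl (walk_cons (A.symm _ _ h.h3) (A.walk_symm h.h2)) (A.symm _ _ h.h1)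

theorem crit_mover {m : ℕ} (hb : Short G adj (m + 2)) {a a1 c a' : V}
    (h : Crit G adj m a a1 c a') :
    ∃ z ∈ zv G adj a', z ∈ Gs G a ⊓ Gs G a1 ∧ z ∉ Qs G a := by
  by_contra! hall
  exact h.nc fun z hz => A.qs_centralizes a (hall z hz (A.crit_le hb h hz))

theorem comm_mem {u x w : V} (h : adj u x) {x₁ z : G} (hx₁ : x₁ ∈ zv G adj u)
    (hx₁w : x₁ ∈ Gs G w) (hz : z ∈ zv G adj w) (hzT : z ∈ Gs G u ⊓ Gs G x) (hz' : z ∉ Qs G u) :
    ⁅x₁, z⁆ ∈ ze G u x ∧ ⁅x₁, z⁆ ∈ zv G adj w := by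
  have h1 : ⁅x₁, z⁆ ∈ zv G adj w := by
    rw [commutatorElement_def]
    exact mul_mem ((mem_normalizer_iff.1 (A.zv_normal w hx₁w) z).1 hz) (inv_mem hz)
  have h2 : ⁅x₁, z⁆ ∈ zv G adj u := by
    rw [commutatorElement_def, mul_assoc x₁, mul_assoc x₁]
    exact mul_mem hx₁ ((mem_normalizer_iff.1 (A.zv_normal u hzT.1) _).1 (inv_mem hx₁))
  exact ⟨A.mem_ze_of_commute h hzT hz' h2 (A.zv_commute hz h1), h1⟩

theorem mem_qs_iff {m : ℕ} (hb : Short G adj (m + 2)) {a a1 c a' : V}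
    (h : Crit G adj m a a1 c a') {x : G} (hx : x ∈ zv G adj a) :
    x ∈ Qs G a' ↔ x ∈ ze G a a1 := by
  refine ⟨fun hx' => ?_, fun hx' => ?_⟩
  · obtain ⟨z, hz, hzT, hz'⟩ := A.crit_mover hb h
    exact A.mem_ze_of_commute h.h1 hzT hz' hx
      (mem_centralizer_iff.1 (A.qs_centralizes a' hx') z hz)
  · refine A.mem_qs_of_centralizes (A.crit_le hb (A.crit_symm h) hx).1
      (mem_centralizer_iff.2 fun z hz => ?_)
    exact (mem_centralizer_iff.1 (ze_centralizer a a1 (A.crit_le hb h hz)) x hx').symm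

/-- If some commutators land in `Z_a`, all the `Z_a Z_n` coincide. -/
theorem pair_const {a a1 am : V} (h1 : adj a a1) (h2 : adj a am) (hne : am ≠ a1) {z : G}
    (hz : z ∈ Gs G a ⊓ Gs G a1) (hz' : z ∉ Qs G a) (hz2 : z * z = 1)
    (hcm : ∀ m ∈ zv G adj am, ⁅m, z⁆ ∈ zv G adj a) {n : V} (hn : adj a n) :
    zv G adj a ⊔ zv G adj n = zv G adj a ⊔ zv G adj am := by
  set M := zv G adj a ⊔ zv G adj am with hM
  have hcj : ∀ g ∈ Gs G a, cj g M = zv G adj a ⊔ zv G adj (g • am) := fun g hg => by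
    show Subgroup.map _ (zv G adj a ⊔ zv G adj am) = _
    rw [Subgroup.map_sup]
    show cj g _ ⊔ cj g _ = _
    rw [← A.zv_smul, ← A.zv_smul, MulAction.mem_stabilizer_iff.1 hg]
  have hzN : z ∈ normalizer (M : Set G) := by
    refine mem_normalizer_of_invol hz2 fun x hx => ?_
    have h5 : cj z M ≤ M := by
      show Subgroup.map _ (zv G adj a ⊔ zv G adj am) ≤ _
      rw [Subgroup.map_sup]
      refine sup_le ?_ ?_
      · rintro _ ⟨y, hy, rfl⟩
        exact le_sup_left (a := zv G adj a) ((mem_normalizer_iff.1 (A.zv_normal a hz.1) y).1 hy)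
      · rintro _ ⟨y, hy, rfl⟩
        show z * y * z⁻¹ ∈ M
        rw [show z * y * z⁻¹ = ⁅y, z⁆⁻¹ * y by simp [commutatorElement_def]; group]
        exact mul_mem (inv_mem (le_sup_left (a := zv G adj a) (hcm y hy)))
          (le_sup_right (a := zv G adj a) hy)
    exact h5 ⟨x, hx, rfl⟩
  have hT : Gs G a ⊓ Gs G am ≤ normalizer (M : Set G) := fun g hg => by
    rw [mem_normalizer_iff_map_conj_eq]
    show cj g M = M
    rw [hcj g hg.1, MulAction.mem_stabilizer_iff.1 hg.2]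
  obtain ⟨hmove, -⟩ := A.smul_ne h1 h2 hne.symm hz hz'
  have hle := A.le_of_edge h2 hT hz.1 hmove hzN
  obtain ⟨g, hg, rfl⟩ := A.trans a am n h2 hn
  rw [← hcj g hg]
  exact SfFree.cj_of_mem_normalizer (hle hg)

theorem case_pair {m : ℕ} (hb : Short G adj (m + 2)) {a a1 c a' am : V}
    (h : Crit G adj m a a1 c a') (hm : adj a am) (hne : am ≠ a1) (hc : Comm G adj am c) {n : V}
    (hn : adj a n) : zv G adj a ⊔ zv G adj n = zv G adj a ⊔ zv G adj am := by
  obtain ⟨z, hz, hzT, hz'⟩ := A.crit_mover hb h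
  obtain ⟨x₁, hx₁, hx₁T, hx₁'⟩ := A.crit_mover hb (A.crit_symm h)
  refine A.pair_const h.h1 hm hne hzT hz' (A.sq_one hz) (fun y hy => ?_) hn
  have h1 : zv G adj am ≤ Qs G c := A.le_qs_of_comm
    (A.push hb le_rfl (walk_cons (A.symm _ _ hm) (walk_cons h.h1 h.h2))) hc
  have h2 := A.qs_le_edge h.h3 (h1 hy)
  have hx₁w : x₁ ∈ Gs G a' := hx₁T.1
  rcases A.comm_absorb (A.symm _ _ h.h3) hx₁T hx₁' ⟨h2.2, h2.1⟩ hz with e | e
  · rw [e]; exact one_mem _
  · rw [e]; exact ze_le_zv h.h1 (A.comm_mem h.h1 hx₁ hx₁w hz hzT hz').1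

/-- At distance at least three, two extensions cannot both be critical. -/
theorem not_both {k : ℕ} (hb : Short G adj (k + 1 + 2)) {a a1 c a' d am n n' : V}
    (h : Crit G adj (k + 1) a a1 c a') (hd : Walk adj k a1 d) (hdc : adj d c) (hm : adj a am)
    (hne : am ≠ a1) (hn : adj am n) (hn' : adj am n') (hnn : n ≠ n')
    (hc : ¬ Comm G adj n d) (hc' : ¬ Comm G adj n' d) : False := by
  obtain ⟨e, hae, hed⟩ := walk_last (walk_cons h.h1 hd)
  have C1 : Crit G adj (k + 1) n am e d :=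
    ⟨A.symm _ _ hn, walk_cons (A.symm _ _ hm) hae, hed, hc⟩
  have C2 : Crit G adj (k + 1) n' am e d :=
    ⟨A.symm _ _ hn', walk_cons (A.symm _ _ hm) hae, hed, hc'⟩
  obtain ⟨y, hy, hyT, hy'⟩ := A.crit_mover hb C1
  obtain ⟨x₁, hx₁, hx₁T, hx₁'⟩ := A.crit_mover hb (A.crit_symm C1)
  obtain ⟨x₂, hx₂, hx₂T, hx₂'⟩ := A.crit_mover hb (A.crit_symm C2)
  have hyze : y ∉ ze G d e := fun e' => hy' ((A.mem_qs_iff hb (A.crit_symm C1) hy).2 e')
  have hy'' : y ∉ Qs G n' := fun e' => hyze ((A.mem_qs_iff hb (A.crit_symm C2) hy).1 e')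
  have hyT' := A.crit_le hb C2 hy
  set r := ⁅x₁, y⁆ with hr
  have hrne : r ≠ 1 := fun e' => hyze (A.mem_ze_of_commute (A.symm _ _ hed) hx₁T hx₁' hy
    (commutatorElement_eq_one_iff_commute.1 e'))
  obtain ⟨hr1, hrd⟩ := A.comm_mem C1.h1 hx₁ hx₁T.1 hy hyT hy'
  have hr2 : r ∈ ze G n' am := by
    rw [hr, A.comm_eq (A.symm _ _ hed) hx₂T hx₂' hx₁T hx₁' hy]
    exact (A.comm_mem C2.h1 hx₂ hx₂T.1 hy hyT' hy'').1
  rw [← hr, ze_comm] at hr1
  rw [ze_comm] at hr2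
  have hrD : r ∈ dv G adj am := A.mem_dv hn hn' hnn hr1 hr2
  have hrm : r ∈ ze G am a := A.dv_le_ze (A.symm _ _ hm) hrD
  rw [ze_comm] at hrm
  obtain ⟨z, hz, hzT, hz'⟩ := A.crit_mover hb h
  have hcom : Commute r z :=
    (hb 2 d a' (by omega) (walk_cons hdc (walk_one h.h3))).commute (hr ▸ hrd) hz
  have hr3 := A.mem_ze_of_commute h.h1 hzT hz' (ze_le_zv hm hrm) hcom.symm
  exact hrne (A.eq_one_of_dv (A.symm _ _ hm) hrD (A.mem_dv hm h.h1 hne hrm hr3))

end Amal0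

namespace Amal

open Amal0 AmalB

variable (A : Amal G adj)
include A

theorem case1_false {k : ℕ} (hb : Short G adj (k + 1 + 2)) {a a1 c a' d am : V}
    (h : Crit G adj (k + 1) a a1 c a') (hd : Walk adj k a1 d) (hdc : adj d c) (hm : adj a am)
    (hne : am ≠ a1) (hcomm : Comm G adj am c) : False := by
  have hP : ∀ (g : G) (n n' : V), adj (g • a) n → adj (g • a) n' →
      zv G adj (g • a) ⊔ zv G adj n = zv G adj (g • a) ⊔ zv G adj n' := by
    intro g n n' hn hn'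
    have h1 : ∀ n : V, adj (g • a) n → zv G adj (g • a) ⊔ zv G adj n
        = cj g (zv G adj a ⊔ zv G adj am) := by
      intro n hn
      have h2 := A.smul g⁻¹ _ _ hn
      rw [inv_smul_smul] at h2
      rw [← A.case_pair hb h hm hne hcomm h2]
      show _ = Subgroup.map _ _
      rw [Subgroup.map_sup]
      show _ = cj g _ ⊔ cj g _
      rw [← A.zv_smul, ← A.zv_smul, smul_inv_smul]
    rw [h1 n hn, h1 n' hn']
  rcases Nat.even_or_odd k with hk | hk
  · obtain ⟨j, hj⟩ := hk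
    have hwc : Walk adj (2 * (j + 1)) a c := by
      rw [show 2 * (j + 1) = k + 1 + 1 by omega]; exact walk_cons h.h1 h.h2
    obtain ⟨g, rfl⟩ := A.walk_even hwc
    have h1 := hP g a' d h.h3 (A.symm _ _ hdc)
    refine h.nc ((le_sup_right (a := zv G adj (g • a))).trans (h1.le.trans (sup_le ?_ ?_)))
    · exact hb (k + 1 + 1) a (g • a) (by omega) (walk_cons h.h1 h.h2)
    · exact hb (k + 1) a d (by omega) (walk_cons h.h1 hd)
  · obtain ⟨j, hj⟩ := hk
    obtain ⟨e, hae, hed⟩ := walk_last (walk_cons h.h1 hd)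
    obtain ⟨g, hg⟩ := A.walk_even (k := j + 1) (u := a) (w := d)
      (by rw [show 2 * (j + 1) = k + 1 by omega]; exact walk_cons h.h1 hd)
    subst hg
    have hPc := hP g c e hdc (A.symm _ _ hed)
    obtain ⟨t, ht, ht'⟩ := A.exists_edge_not_qs (A.symm _ _ hm)
    obtain ⟨n₀, hn₀, hn₀a⟩ := A.exists_other (A.symm _ _ hm)
    obtain ⟨hn1, hn2⟩ := A.smul_ne (A.symm _ _ hm) hn₀ hn₀a.symm ht ht'
    obtain ⟨n, hn, hna, hnd⟩ : ∃ n, adj am n ∧ n ≠ a ∧ Comm G adj n (g • a) := by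
      by_contra! hall
      exact A.not_both hb h hd hdc hm hne hn₀ (A.adj_smul_left hn₀ ht.1) hn1.symm
        (hall _ hn₀ hn₀a) (hall _ (A.adj_smul_left hn₀ ht.1) hn2)
    have hna' : Walk adj 2 n a := walk_cons (A.symm _ _ hn) (walk_one (A.symm _ _ hm))
    have hne' : Walk adj (2 + k) n e := walk_append hna' hae
    have hnd' : Walk adj (k + 1 + 2) n (g • a) := by
      rw [show k + 1 + 2 = 2 + k + 1 by omega]; exact walk_snoc hne' hed
    have hnQd := A.le_qs_of_comm (A.push hb le_rfl hnd') hnd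
    have hnc : Comm G adj n c :=
      (le_sup_right (a := zv G adj (g • a))).trans (hPc.le.trans (sup_le hnd
        (hb _ n e (by omega) hne')))
    have hnQc : zv G adj n ≤ Qs G c :=
      A.le_qs_of_comm (hnQd.trans ((A.qs_le_edge hdc).trans inf_le_right)) hnc
    obtain ⟨z, hz, hzT, hz'⟩ := A.crit_mover hb h
    obtain ⟨x₁, hx₁, hx₁T, hx₁'⟩ := A.crit_mover hb (A.crit_symm h)
    have hcn : ∀ y ∈ zv G adj n, ⁅y, z⁆ ∈ zv G adj a := fun y hy => by
      have h2 := A.qs_le_edge h.h3 (hnQc hy)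
      rcases A.comm_absorb (A.symm _ _ h.h3) hx₁T hx₁' ⟨h2.2, h2.1⟩ hz with e | e
      · rw [e]; exact one_mem _
      · rw [e]; exact ze_le_zv h.h1 (A.comm_mem h.h1 hx₁ hx₁T.1 hz hzT hz').1
    set U := ⨆ w : {w : V // adj am w}, zv G adj (w : V) with hU
    have hUmem : ∀ {w : V}, adj am w → zv G adj w ≤ U := fun {w} hw =>
      le_iSup (fun w : {w : V // adj am w} => zv G adj (w : V)) ⟨w, hw⟩
    have hUle : U ≤ Gs G am ⊓ Gs G a := iSup_le fun w =>
      (A.push_qs hb (n := 1) (by omega) (walk_one (A.symm _ _ w.2))).trans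
        (A.qs_le_edge (A.symm _ _ hm))
    have hUn : Gs G am ≤ normalizer (U : Set G) := by
      have key : ∀ g ∈ Gs G am, cj g U ≤ U := fun g hg => by
        show Subgroup.map _ _ ≤ _
        rw [hU, Subgroup.map_iSup]
        refine iSup_le fun w => ?_
        show cj g (zv G adj (w : V)) ≤ _
        rw [← A.zv_smul]
        exact hUmem (A.adj_smul_left w.2 hg)
      refine fun g hg => mem_normalizer_iff.2 fun x => ⟨fun hx => key g hg ⟨x, hx, rfl⟩,
        fun hx => ?_⟩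
      have h3 := key g⁻¹ ((Gs G am).inv_mem hg) ⟨_, hx, rfl⟩
      simpa [mul_assoc] using h3
    obtain ⟨q, hq, hq'⟩ : ∃ q ∈ Qs G a, q ∉ Qs G am := by
      refine SetLike.not_le_iff_exists.1 fun hle => ?_
      have h4 : Qs G a = Qs G am := by
        have e1 := relIndex_mul_relIndex _ _ _ hle (A.qs_le_edge (A.symm _ _ hm))
        have e3 := A.relIndex_edge (A.symm _ _ hm)
        have e4 := A.relIndex_edge hm
        rw [inf_comm] at e4
        rw [e3, e4] at e1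
        exact le_antisymm hle (relIndex_eq_one.1 (by omega))
      have h5 := A.faith a am hm (Qs G a) (A.qs_le_edge hm) (A.qs_normal a)
        (h4 ▸ A.qs_normal am)
      have h6 := A.charp a
      rw [h5] at h6
      obtain ⟨k, hk, hkw⟩ := A.exists_moves h.h1
      have hk0 : Gs G a ≤ ⊥ := le_trans (le_inf le_rfl (fun x _ =>
        mem_centralizer_iff.2 fun y hy => by rw [Subgroup.mem_bot.1 hy, one_mul, mul_one])) h6
      exact hkw (by rw [Subgroup.mem_bot.1 (hk0 hk), one_smul])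
    have hqT : q ∈ Gs G am ⊓ Gs G a := ⟨(A.qs_le_edge hm hq).2, (A.qs_le_edge hm hq).1⟩
    have hzn : ∀ y ∈ zv G adj n, z * y * z⁻¹ ∈ U := fun y hy => by
      rw [show z * y * z⁻¹ = ⁅y, z⁆⁻¹ * y by simp [commutatorElement_def]; group]
      exact mul_mem (inv_mem (hUmem (A.symm _ _ hm) (hcn y hy))) (hUmem hn hy)
    have hzU : z ∈ normalizer (U : Set G) := by
      refine mem_normalizer_of_invol (A.sq_one hz) fun x hx => ?_
      have h5 : cj z U ≤ U := by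
        show Subgroup.map _ _ ≤ _
        rw [hU, Subgroup.map_iSup]
        refine iSup_le fun w => ?_
        rintro _ ⟨y, hy, rfl⟩
        show z * y * z⁻¹ ∈ U
        by_cases hwa : (w : V) = a
        · rw [hwa] at hy
          exact hUmem (A.symm _ _ hm) ((mem_normalizer_iff.1 (A.zv_normal a hzT.1) y).1 hy)
        rcases A.nbr_cases (A.symm _ _ hm) hn w.2 hna.symm hwa hqT hq' with ew | ew
        · rw [ew] at hy; exact hzn y hy
        · rw [ew, A.zv_smul] at hy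
          obtain ⟨y₀, hy₀, rfl⟩ := hy
          set q' := z * q * z⁻¹ with hq1
          have hq'a : q' ∈ Gs G am :=
            (A.qs_le_edge hm ((mem_normalizer_iff.1 (A.qs_normal a hzT.1) q).1 hq)).2
          have h8 := (mem_normalizer_iff.1 (hUn hq'a) _).1 (hzn y₀ hy₀)
          convert h8 using 1
          show z * (q * y₀ * q⁻¹) * z⁻¹ = _
          rw [hq1]
          group
      exact h5 ⟨x, hx, rfl⟩
    have hUa : Gs G a ≤ normalizer (U : Set G) :=
      A.le_of_edge hm (fun g hg => hUn hg.2) hzT.1 (A.smul_ne h.h1 hm hne.symm hzT hz').1 hzU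
    have hU0 := A.faith am a (A.symm _ _ hm) U hUle hUn hUa
    exact A.ze_ne_bot h.h1 (le_bot_iff.1 (hU0 ▸ (ze_le_zv h.h1).trans (hUmem (A.symm _ _ hm))))

theorem no_crit_ge_three {k : ℕ} (hb : Short G adj (k + 1 + 2)) {a a1 c a' : V}
    (h : Crit G adj (k + 1) a a1 c a') : False := by
  obtain ⟨d, hd, hdc⟩ := walk_last h.h2
  obtain ⟨am, hm, hne⟩ := A.exists_other h.h1
  by_cases hcomm : Comm G adj am c
  · exact A.case1_false hb h hd hdc hm hne hcomm
  have C1 : Crit G adj (k + 1) am a d c :=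
    ⟨A.symm _ _ hm, walk_cons h.h1 hd, hdc, hcomm⟩
  obtain ⟨e, hae, hed⟩ := walk_last C1.h2
  have hall : ∀ n, adj am n → n ≠ a → ¬ Comm G adj n d := fun n hn hna hnd =>
    A.case1_false hb C1 hae hed hn hna hnd
  obtain ⟨t, ht, ht'⟩ := A.exists_edge_not_qs (A.symm _ _ hm)
  obtain ⟨n₀, hn₀, hn₀a⟩ := A.exists_other (A.symm _ _ hm)
  obtain ⟨hn1, hn2⟩ := A.smul_ne (A.symm _ _ hm) hn₀ hn₀a.symm ht ht'
  exact A.not_both hb h hd hdc hm hne hn₀ (A.adj_smul_left hn₀ ht.1) hn1.symm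
    (hall _ hn₀ hn₀a) (hall _ (A.adj_smul_left hn₀ ht.1) hn2)

theorem all_pairs {a a1 a' : V} (h : Crit G adj 0 a a1 a1 a') {n n' : V} (hn : adj a1 n)
    (hn' : adj a1 n') (hne : n ≠ n') : ¬ Comm G adj n n' := by
  have ha : adj a1 a := A.symm _ _ h.h1
  have hne0 : a' ≠ a := fun e => h.nc (e ▸ fun x hx => mem_centralizer_iff.2 fun y hy =>
    (A.zv_commute hy hx).eq)
  obtain ⟨t, ht, ht'⟩ := A.exists_edge_not_qs h.h3
  obtain ⟨s, hs, hs'⟩ := A.exists_edge_not_qs ha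
  obtain ⟨ht1, ht2⟩ := A.smul_ne h.h3 ha hne0 ht ht'
  obtain ⟨hs1, hs2⟩ := A.smul_ne ha h.h3 hne0.symm hs hs'
  have hsa : s • a' = t • a := (A.nbr_cases h.h3 ha (A.adj_smul_left h.h3 hs.1) hne0 hs1
    ht ht').resolve_left hs2
  have c2 : ¬ Comm G adj (t • a) a' := fun hc => h.nc <| by
    have h1 := A.comm_smul t⁻¹ hc
    rwa [inv_smul_smul, inv_smul_eq_iff.2 (MulAction.mem_stabilizer_iff.1 ht.2).symm] at h1
  have c3 : ¬ Comm G adj a (t • a) := fun hc => h.nc <| by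
    have h1 := A.comm_smul s⁻¹ hc
    rwa [← hsa, inv_smul_smul, inv_smul_eq_iff.2 (MulAction.mem_stabilizer_iff.1 hs.2).symm] at h1
  have cases : ∀ x, adj a1 x → x = a' ∨ x = a ∨ x = t • a := fun x hx => by
    by_cases hxa : x = a'
    · exact Or.inl hxa
    · exact Or.inr (A.nbr_cases h.h3 ha hx hne0 hxa ht ht')
  intro hc
  rcases cases n hn with rfl | rfl | rfl <;> rcases cases n' hn' with rfl | rfl | rfl
  exacts [hne rfl, h.nc hc.symm, c2 hc.symm, h.nc hc, hne rfl, c3 hc, c2 hc, c3 hc.symm, hne rfl]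

theorem dv_false {a a1 a' : V} (hb : Short G adj (0 + 2)) (h : Crit G adj 0 a a1 a1 a') {z x₁ : G}
    (hz : z ∈ zv G adj a') (hzT : z ∈ Gs G a ⊓ Gs G a1) (hz' : z ∉ Qs G a)
    (hx₁T : x₁ ∈ Gs G a' ⊓ Gs G a1) (hx₁' : x₁ ∉ Qs G a') (hr : ⁅x₁, z⁆ ∈ dv G adj a) : False := by
  obtain ⟨x, hx, hxd⟩ := A.not_comm_dv h.h1 hzT hz'
  refine hxd ?_
  rw [show x⁻¹ * (z * x * z⁻¹) = ⁅x⁻¹, z⁆ by rw [commutatorElement_def]; group]
  have h2 := A.crit_le hb (A.crit_symm h) (inv_mem hx)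
  rcases A.comm_absorb (A.symm _ _ h.h3) hx₁T hx₁' h2 hz with e0 | e0
  · rw [e0]; exact one_mem _
  · rw [e0]; exact hr

theorem case1_two (hb : Short G adj (0 + 2)) {a a1 a' am : V} (h : Crit G adj 0 a a1 a1 a')
    (hm : adj a am) (hne : am ≠ a1) (hcomm : Comm G adj am a1) : False := by
  obtain ⟨z, hz, hzT, hz'⟩ := A.crit_mover hb h
  obtain ⟨x₁, hx₁, hx₁T, hx₁'⟩ := A.crit_mover hb (A.crit_symm h)
  set r := ⁅x₁, z⁆ with hr
  obtain ⟨hr1, -⟩ := A.comm_mem h.h1 hx₁ hx₁T.1 hz hzT hz'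
  obtain ⟨q, hq, hq'⟩ : ∃ q ∈ Qs G a, q ∉ Qs G a1 := by
    refine SetLike.not_le_iff_exists.1 fun hle => hx₁' ?_
    exfalso
    have h4 : Qs G a = Qs G a1 := by
      have e1 := relIndex_mul_relIndex _ _ _ hle (A.qs_le_edge (A.symm _ _ h.h1))
      have e3 := A.relIndex_edge (A.symm _ _ h.h1)
      have e4 := A.relIndex_edge h.h1
      rw [inf_comm] at e4
      rw [e3, e4] at e1
      exact le_antisymm hle (relIndex_eq_one.1 (by omega))
    have h5 := A.faith a a1 h.h1 (Qs G a) (A.qs_le_edge h.h1) (A.qs_normal a)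
      (h4 ▸ A.qs_normal a1)
    exact A.ze_ne_bot h.h1 (le_bot_iff.1 (h5 ▸ (A.ze_le_qs h.h1).trans inf_le_left))
  have hqT : q ∈ Gs G a1 ⊓ Gs G a := ⟨(A.qs_le_edge h.h1 hq).2, (A.qs_le_edge h.h1 hq).1⟩
  have hne0 : a ≠ a' := fun e => h.nc (e ▸ fun x hx => mem_centralizer_iff.2 fun y hy =>
    (A.zv_commute hy hx).eq)
  obtain ⟨hq1, hq2⟩ := A.smul_ne (A.symm _ _ h.h1) h.h3 hne0 hqT hq'
  have ha'' : adj a1 (q • a') := A.adj_smul_left h.h3 hqT.1
  have hpair := A.all_pairs h ha'' h.h3 hq1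
  have C2 : Crit G adj 0 (q • a') a1 a1 a' := ⟨A.symm _ _ ha'', rfl, h.h3, hpair⟩
  set w' := q * z * q⁻¹ with hw'
  have hw'z : w' ∈ zv G adj (q • a') := by rw [A.zv_smul]; exact ⟨z, hz, rfl⟩
  have hw'T : w' ∈ Gs G a' ⊓ Gs G a1 := A.crit_le hb (A.crit_symm C2) hw'z
  have hw'Q : w' ∉ Qs G a' := fun e => by
    have h1 := (A.mem_qs_iff hb C2 hw'z).1 e
    conv at h1 => rw [← MulAction.mem_stabilizer_iff.1 hqT.1, ze_smul, SfFree.mem_cj]
    rw [hw', show q⁻¹ * (q * z * q⁻¹) * q = z by group] at h1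
    exact hz' ((A.mem_qs_iff hb (A.crit_symm h) hz).2 h1)
  set e := z * w' with he
  have hee : e * e = ⁅w', z⁆⁻¹ := by
    rw [he, commutatorElement_def, A.inv_eq hz, A.inv_eq hw'z]
    simp only [mul_inv_rev, A.inv_eq hz, A.inv_eq hw'z, mul_assoc]
  have hee' : e * e = r⁻¹ := by
    rw [hee, hr, A.comm_eq (A.symm _ _ h.h3) hx₁T hx₁' hw'T hw'Q hz]
  have hrne : r ≠ 1 := fun e' => hz' <| (A.mem_qs_iff hb (A.crit_symm h) hz).2
    (A.mem_ze_of_commute (A.symm _ _ h.h3) hx₁T hx₁' hz (commutatorElement_eq_one_iff_commute.1 e'))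
  have he1 : e ∈ Qs G a := by
    rw [he, hw', show z * (q * z * q⁻¹) = (z * q * z) * q⁻¹ by group]
    nth_rewrite 2 [← A.inv_eq hz]
    exact mul_mem ((mem_normalizer_iff.1 (A.qs_normal a hzT.1) q).1 hq) (inv_mem hq)
  have he2 : e ∈ Qs G a1 := by
    rw [he, hw', show z * (q * z * q⁻¹) = (z * q * z) * q⁻¹ by group]
    nth_rewrite 2 [← A.inv_eq hz]
    have hza : z ∈ Gs G a1 ⊓ Gs G a := ⟨hzT.2, hzT.1⟩
    refine A.mul_mem_qs (A.symm _ _ h.h1) ((Gs G a1 ⊓ Gs G a).mul_mem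
      ((Gs G a1 ⊓ Gs G a).mul_mem hza hqT) ((Gs G a1 ⊓ Gs G a).inv_mem hza))
      ((Gs G a1 ⊓ Gs G a).inv_mem hqT) (fun e' => hq' ?_) (fun e' => hq' (inv_mem_iff.1 e'))
    exact (mem_normalizer_iff.1 (A.qs_normal a1 hzT.2) q).2 e'
  obtain ⟨k, hk, hka⟩ := A.trans a a1 am h.h1 hm
  set e' := k⁻¹ * e * k with he'
  have he'1 : e' ∈ Qs G a := by
    have := (mem_normalizer_iff.1 (A.qs_normal a ((Gs G a).inv_mem hk)) e).1 he1
    rwa [inv_inv] at this
  have hcM : zv G adj a ⊔ zv G adj a1 ≤ centralizer (zpowers e : Set G) :=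
    sup_le (Subgroup.le_centralizer_iff.1 (zpowers_le.2 (A.qs_centralizes a he1)))
      (Subgroup.le_centralizer_iff.1 (zpowers_le.2 (A.qs_centralizes a1 he2)))
  have he'2 : e' ∈ Qs G a1 := by
    refine A.mem_qs_of_centralizes (A.qs_le_edge h.h1 he'1).2 (mem_centralizer_iff.2 fun y hy => ?_)
    have h2 : k * y * k⁻¹ ∈ zv G adj am := by rw [← hka, A.zv_smul]; exact ⟨y, hy, rfl⟩
    have h3 : k * y * k⁻¹ ∈ zv G adj a ⊔ zv G adj a1 := by
      rw [A.case_pair hb h hm hne hcomm h.h1]; exact le_sup_right (a := zv G adj a) h2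
    have h4 : e * (k * y * k⁻¹) = k * y * k⁻¹ * e :=
      mem_centralizer_iff.1 (hcM h3) e (mem_zpowers e)
    calc y * e' = k⁻¹ * (k * y * k⁻¹ * e) * k := by rw [he']; group
      _ = k⁻¹ * (e * (k * y * k⁻¹)) * k := by rw [h4]
      _ = e' * y := by rw [he']; group
  have hy' : ⁅e'⁻¹, z⁆ ∈ zv G adj a := by
    have h2 := A.qs_le_edge h.h3 (inv_mem he'2)
    rcases A.comm_absorb (A.symm _ _ h.h3) hx₁T hx₁' ⟨h2.2, h2.1⟩ hz with e0 | e0
    · rw [e0]; exact one_mem _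
    · rw [e0, ← hr]; exact ze_le_zv h.h1 hr1
  set y := k * ⁅e'⁻¹, z⁆ * k⁻¹ with hy
  have hyZ : y ∈ zv G adj a := (mem_normalizer_iff.1 (A.zv_normal a hk) _).1 hy'
  set z' := k * z * k⁻¹ with hz'def
  have hz'T : z' ∈ Gs G a ⊓ Gs G am := by
    refine ⟨(Gs G a).mul_mem ((Gs G a).mul_mem hk hzT.1) ((Gs G a).inv_mem hk), ?_⟩
    rw [← hka, gs_smul]
    exact ⟨z, hzT.2, rfl⟩
  have hz'Q : z' ∉ Qs G a := fun h0 => hz' ((mem_normalizer_iff.1 (A.qs_normal a hk) z).2 h0)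
  have hconj : z' * e * z'⁻¹ = e * y := by
    rw [hy, hz'def, he', commutatorElement_def]; group
  have hey : Commute e y := (mem_centralizer_iff.1 (A.qs_centralizes a he1) y hyZ).symm
  have h2 : z' * r * z'⁻¹ = r := by
    have h3 : z' * (e * e) * z'⁻¹ = e * e := by
      rw [show z' * (e * e) * z'⁻¹ = (z' * e * z'⁻¹) * (z' * e * z'⁻¹) by group, hconj,
        hey.symm.mul_mul_mul_comm, A.sq_one hyZ, mul_one]
    rw [hee', A.inv_eq (ze_le_zv h.h1 hr1)] at h3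
    exact h3
  exact A.dv_false hb h hz hzT hz' hx₁T hx₁' (A.mem_dv hm h.h1 hne
    (A.mem_ze_of_commute hm hz'T hz'Q (ze_le_zv h.h1 hr1) (mul_inv_eq_iff_eq_mul.1 h2)) hr1)

theorem shift_two (hb : Short G adj (0 + 2)) {a a1 a' am : V} (h : Crit G adj 0 a a1 a1 a')
    (hm : adj a am) (hne : am ≠ a1) (hnc : ¬ Comm G adj am a1) : False := by
  obtain ⟨z, hz, hzT, hz'⟩ := A.crit_mover hb h
  obtain ⟨x₁, hx₁, hx₁T, hx₁'⟩ := A.crit_mover hb (A.crit_symm h)
  obtain ⟨hr1, -⟩ := A.comm_mem h.h1 hx₁ hx₁T.1 hz hzT hz'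
  have C0 : Crit G adj 0 am a a a1 := ⟨A.symm _ _ hm, rfl, h.h1, hnc⟩
  obtain ⟨u, hu, huT, hu'⟩ := A.crit_mover hb (A.crit_symm C0)
  obtain ⟨hn1, -⟩ := A.smul_ne h.h1 hm hne.symm hzT hz'
  have hadj1 : adj a (z • am) := A.adj_smul_left hm hzT.1
  have C1 : Crit G adj 0 am a a (z • am) :=
    ⟨A.symm _ _ hm, rfl, hadj1, A.all_pairs C0 hm hadj1 hn1.symm⟩
  set v := z * u * z⁻¹ with hv
  have hvz : v ∈ zv G adj (z • am) := by rw [A.zv_smul]; exact ⟨u, hu, rfl⟩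
  have hvT : v ∈ Gs G am ⊓ Gs G a := A.crit_le hb C1 hvz
  have hvQ : v ∉ Qs G am := fun e => by
    have h1 := (A.mem_qs_iff hb (A.crit_symm C1) hvz).1 e
    conv at h1 => rw [← MulAction.mem_stabilizer_iff.1 hzT.1, ze_smul, SfFree.mem_cj]
    rw [hv, show z⁻¹ * (z * u * z⁻¹) * z = u by group] at h1
    exact hu' ((A.mem_qs_iff hb C0 hu).2 h1)
  have huw : u ∈ Gs G (z • am) := (A.crit_le hb (A.crit_symm C1) hu).1
  obtain ⟨hr2, -⟩ := A.comm_mem (A.symm _ _ hm) hu huw hvz hvT hvQ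
  have hne0 : a ≠ a' := fun e => h.nc (e ▸ fun x hx => mem_centralizer_iff.2 fun y hy =>
    (A.zv_commute hy hx).eq)
  obtain ⟨hu1, -⟩ := A.smul_ne (A.symm _ _ h.h1) h.h3 hne0 huT hu'
  have hadj2 : adj a1 (u • a') := A.adj_smul_left h.h3 huT.1
  have C3 : Crit G adj 0 a' a1 a1 (u • a') :=
    ⟨A.symm _ _ h.h3, rfl, hadj2, A.all_pairs h h.h3 hadj2 hu1.symm⟩
  set w' := u * z * u⁻¹ with hw'
  have hw'z : w' ∈ zv G adj (u • a') := by rw [A.zv_smul]; exact ⟨z, hz, rfl⟩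
  have hw'T : w' ∈ Gs G a' ⊓ Gs G a1 := A.crit_le hb C3 hw'z
  have hw'Q : w' ∉ Qs G a' := fun e => by
    have h1 := (A.mem_qs_iff hb (A.crit_symm C3) hw'z).1 e
    conv at h1 => rw [← MulAction.mem_stabilizer_iff.1 huT.1, ze_smul, SfFree.mem_cj]
    rw [hw', show u⁻¹ * (u * z * u⁻¹) * u = z by group] at h1
    exact hz' ((A.mem_qs_iff hb (A.crit_symm h) hz).2 h1)
  have heq : ⁅u, v⁆ = ⁅w', z⁆ := by
    rw [hv, hw', commutatorElement_def, commutatorElement_def]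
    simp only [mul_inv_rev, A.inv_eq hz, A.inv_eq hu, mul_assoc]
  rw [heq, A.comm_eq (A.symm _ _ h.h3) hx₁T hx₁' hw'T hw'Q hz, ze_comm] at hr2
  exact A.dv_false hb h hz hzT hz' hx₁T hx₁' (A.mem_dv hm h.h1 hne hr2 hr1)

theorem no_crit_two (hb : Short G adj (0 + 2)) {a a1 c a' : V} (h : Crit G adj 0 a a1 c a') :
    False := by
  obtain rfl : a1 = c := h.h2
  obtain ⟨am, hm, hne⟩ := A.exists_other h.h1
  by_cases hc : Comm G adj am a1
  · exact A.case1_two hb h hm hne hc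
  · exact A.shift_two hb h hm hne hc

/-- Some adjacent `Z`'s do not commute. -/
theorem exists_adj_noncomm (v₀ : V) : ∃ u w, adj u w ∧ ¬ Comm G adj u w := by
  obtain ⟨b, hb, u, w, hw, hnc⟩ := A.exists_short v₀
  match b, hb, hw with
  | 0, _, hw =>
    obtain rfl : u = w := hw
    exact absurd (fun x hx => mem_centralizer_iff.2 fun y hy => (A.zv_commute hy hx).eq) hnc
  | 1, _, hw =>
    obtain ⟨x, hx, rfl⟩ := hw
    exact ⟨u, x, hx, hnc⟩
  | 2, hb, hw =>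
    obtain ⟨x, hx, y, hy, rfl⟩ := hw
    exact (A.no_crit_two hb ⟨hx, rfl, hy, hnc⟩).elim
  | k + 3, hb, hw =>
    obtain ⟨x, hx, hxw⟩ := hw
    obtain ⟨c, hxc, hc⟩ := walk_last hxw
    exact (A.no_crit_ge_three (k := k) hb ⟨hx, hxc, hc, hnc⟩).elim

end Amal

end Cfsg.Agent.S4Amal
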