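import Cfsg.Agent.S4Amalgam.Critical

/-!
# A critical pair forces degree three
-/

set_option autoImplicit false

namespace Cfsg.Agent.S4Amal

open Subgroup
open scoped commutatorElement
open SfFree (cj)

variable {G : Type*} [Group G] {V : Type*} [MulAction G V] {adj : V → V → Prop}

namespace Amal0

open AmalB

variable (A : Amal0 G adj)
include A

/-- A hyperplane edge at `v` forces degree three at `v`. -/
theorem three_of_index_le {v w : V} (h : adj v w)
    (h2 : (ze G v w).relIndex (zv G adj v) ≤ 2) :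
    (Gs G v ⊓ Gs G w).relIndex (Gs G v) = 3 := by
  have := A.fin v
  obtain ⟨-, hp, hp2⟩ := A.syl v w h
  set p := (Gs G v ⊓ Gs G w).relIndex (Gs G v) with hpd
  have : Fact p.Prime := ⟨hp⟩
  obtain ⟨w', hw', hne⟩ := A.exists_other h
  obtain ⟨g, hg, hgw⟩ := A.trans v w w' h hw'
  have hZ : cj g (zv G adj v) = zv G adj v := by
    rw [← A.zv_smul, MulAction.mem_stabilizer_iff.1 hg]
  have h2' : (ze G v w').relIndex (zv G adj v) ≤ 2 := by
    have e : (cj g (ze G v w)).relIndex (cj g (zv G adj v)) = (ze G v w).relIndex (zv G adj v) :=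
      relIndex_map_map_of_injective _ _ (MulAut.conj g).injective
    rw [hZ, ← ze_smul, MulAction.mem_stabilizer_iff.1 hg, hgw] at e
    omega
  have h4 : (dv G adj v).relIndex (zv G adj v) ≤ 4 := by
    have hle : ze G v w ⊓ ze G v w' = dv G adj v :=
      le_antisymm (fun d hd => A.mem_dv h hw' hne.symm hd.1 hd.2)
        (fun d hd => ⟨A.dv_le_ze h hd, A.dv_le_ze hw' hd⟩)
    rw [← hle]
    exact relIndex_inf_le.trans (Nat.mul_le_mul h2 h2')
  obtain ⟨x, hx⟩ := exists_prime_orderOf_dvd_card' (G := Gs G v) p (index_dvd_card _)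
  set Z' := (zv G adj v).subgroupOf (Gs G v) with hZ'
  set D' := (dv G adj v).subgroupOf (Gs G v) with hD'
  have : Z'.Normal := normal_subgroupOf_of_le_normalizer (A.zv_normal v)
  have : D'.Normal := normal_subgroupOf_of_le_normalizer fun y hy => mem_normalizer_iff.2 fun d => by
    constructor
    · intro hd
      rwa [mem_centralizer_iff.1 hd.2 y hy, mul_inv_cancel_right]
    · intro hd
      have h7 := mem_centralizer_iff.1 hd.2 y⁻¹ ((Gs G v).inv_mem hy)
      have h8 : y⁻¹ * (y * d * y⁻¹) * y = y * d * y⁻¹ := by rw [h7]; group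
      rw [show y⁻¹ * (y * d * y⁻¹) * y = d by group] at h8
      exact h8.symm ▸ hd
  set W := Z'.map (QuotientGroup.mk' D') with hW
  have : W.Normal := Normal.map inferInstance _ (QuotientGroup.mk'_surjective _)
  have hD'Z : D' ≤ Z' := fun y hy => hy.1
  have hWcard : Nat.card W ≤ 4 := by
    rw [hW, ← relIndex_ker, QuotientGroup.ker_mk', hD', hZ',
      relIndex_subgroupOf (A.zv_le_gs v)]
    exact h4
  let ρ : Gs G v ⧸ D' →* Equiv.Perm W :=
    (MulAut.toPerm (M := W)).comp (MulAut.conjNormal (H := W))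
  set σ := ρ (QuotientGroup.mk' D' x) with hσ
  have hσp : σ ^ p = 1 := by
    rw [hσ, ← map_pow, ← map_pow, ← hx, pow_orderOf_eq_one, map_one, map_one]
  by_contra h3
  have hσ1 : σ = 1 := by
    rcases (Nat.dvd_prime hp).1 (orderOf_dvd_of_pow_eq_one hσp) with e | e
    · exact orderOf_eq_one_iff.1 e
    exfalso
    have hd : orderOf σ ∣ (Nat.card W).factorial := by
      rw [← Nat.card_perm]; exact orderOf_dvd_natCard σ
    rw [e] at hd
    have hp4 := le_trans ((Nat.Prime.dvd_factorial hp).1 hd) hWcard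
    have := hp.two_le
    interval_cases p
    · exact hp2 rfl
    · exact h3 rfl
    · norm_num at hp
  have hxn : (x : G) ^ p = 1 := by
    rw [← hx, ← Subgroup.orderOf_coe]; exact pow_orderOf_eq_one _
  have hx1 := A.eq_one_of_mod x.2 (hp.odd_of_ne_two hp2) hxn fun z hz => by
    set zz : W := ⟨QuotientGroup.mk' D' ⟨z, A.zv_le_gs v hz⟩, ⟨_, hz, rfl⟩⟩ with hzz
    have h5 : QuotientGroup.mk' D' x * (zz : Gs G v ⧸ D') * (QuotientGroup.mk' D' x)⁻¹ = zz :=
      (MulAut.conjNormal_apply _ _).symm.trans (congrArg Subtype.val (Equiv.Perm.congr_fun hσ1 zz))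
    rw [hzz, ← map_inv, ← map_mul, ← map_mul] at h5
    exact mem_subgroupOf.1 (QuotientGroup.eq.1 h5.symm)
  rw [← Subgroup.orderOf_coe, hx1, orderOf_one] at hx
  exact hp.one_lt.ne hx

theorem exists_three (v₀ : V) :
    ∃ u w, adj u w ∧ (Gs G u ⊓ Gs G w).relIndex (Gs G u) = 3 := by
  obtain ⟨b, hb, u, w, hw, hnc⟩ := A.exists_short v₀
  cases b with
  | zero =>
    obtain rfl : u = w := hw
    exact absurd (fun x hx => mem_centralizer_iff.2 fun y hy => (A.zv_commute hy hx).eq) hnc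
  | succ k =>
    obtain ⟨x, hx, hxw⟩ := hw
    obtain ⟨y, huy, hyw⟩ := walk_last (walk_cons hx hxw)
    have hw' : zv G adj w ≤ Gs G u ⊓ Gs G x :=
      A.push_edge hb le_rfl (A.walk_symm hxw) (A.symm _ _ hx)
    have hu' : zv G adj u ≤ Gs G w ⊓ Gs G y := A.push_edge hb le_rfl huy hyw
    obtain ⟨z, hz, hz'⟩ : ∃ z ∈ zv G adj w, z ∉ Qs G u := by
      by_contra! hall
      exact hnc fun z hz => A.qs_centralizes u (hall z hz)
    have hze : ∀ s ∈ zv G adj u, s ∈ Qs G w → s ∈ ze G u x := fun s hs hsw =>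
      A.mem_ze_of_commute hx (hw' hz) hz' hs (mem_centralizer_iff.1 (A.qs_centralizes w hsw) z hz)
    refine ⟨u, x, hx, A.three_of_index_le hx ?_⟩
    by_cases h1 : (ze G u x).relIndex (zv G adj u) = 1
    · omega
    obtain ⟨a, ha, ha'⟩ := SetLike.not_le_iff_exists.1 (fun hle => h1 (relIndex_eq_one.2 hle))
    refine le_of_eq (index_eq_two_iff.2 ⟨⟨a, ha⟩, fun c => ?_⟩)
    by_cases hc : (c : G) ∈ ze G u x
    · refine Or.inr ⟨mem_subgroupOf.2 hc, fun hca => ha' ?_⟩
      exact ((ze G u x).mul_mem_cancel_left hc).1 (mem_subgroupOf.1 hca)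
    · refine Or.inl ⟨mem_subgroupOf.2 ?_, fun h0 => hc (mem_subgroupOf.1 h0)⟩
      show (c : G) * a ∈ ze G u x
      have hcQ : (c : G) ∉ Qs G w := fun e => hc (hze _ c.2 e)
      have haQ : a ∉ Qs G w := fun e => ha' (hze _ ha e)
      exact hze _ (mul_mem c.2 ha)
        (A.mul_mem_qs (A.symm _ _ hyw) (hu' c.2) (hu' ha) hcQ haQ)

end Amal0

end Cfsg.Agent.S4Amal
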