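import Cfsg.Agent.S4Amalgam.GoldShift

/-!
# No odd critical distance above three
-/

set_option autoImplicit false

namespace Cfsg.Agent.S4Amal

open Subgroup
open scoped commutatorElement
open SfFree (cj)

variable {G : Type*} [Group G] {V : Type*} [MulAction G V] {adj : V → V → Prop} {tA : V → Prop}

theorem Conj.pred (A : Gold G adj tA) {n : ℕ} (h : Conj G adj tA (n + 1) True) :
    Conj G adj tA n False := by
  intro p q hp hq hps hqs
  have hp0 : ¬ tA (p 0) := fun e => hps.1 e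
  have hq0 : ¬ tA (q 0) := fun e => hqs.1 e
  have ext : ∀ {p : ℕ → V}, IsPath adj n p → ∃ v, IsPath adj (n + 1) (pcons v p) ∧ adj v (p 0) := by
    intro p hp
    obtain ⟨w, hw⟩ := A.deg (p 0)
    by_cases hn : 1 ≤ n
    · obtain ⟨v, hv, hne⟩ := A.exists_other (hp.step 0 (by omega))
      exact ⟨v, hp.pcons (A.symm _ _ hv) (fun _ => hne), A.symm _ _ hv⟩
    · exact ⟨w, hp.pcons (A.symm _ _ hw) (fun e => absurd e hn), A.symm _ _ hw⟩
  obtain ⟨v, hv, hva⟩ := ext hp
  obtain ⟨u, hu, hua⟩ := ext hq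
  obtain ⟨k, hk⟩ := h _ _ hv hu
    (iff_of_true (A.tA_of_not (A.symm _ _ hva) hp0) trivial)
    (iff_of_true (A.tA_of_not (A.symm _ _ hua) hq0) trivial)
  exact ⟨k, fun i hi => hk (i + 1) (by omega)⟩

theorem Conf.smul {A : Gold G adj tA} {b : ℕ} {f : ℕ → V} (h : Conf G adj tA b f) (g : G) :
    Conf G adj tA b (fun i => g • f i) :=
  ⟨h.path.smul (A := A.toAmalB) g, (A.tA_smul g).2 h.hA, fun e => h.crit ((A.le_smul_iff g _ _).1 e)⟩

namespace Gold

open AmalB

variable (A : Gold G adj tA)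
include A

theorem comm_invol {a c : G} (ha : a * a = 1) (hc : c * c = 1) : ⁅a, c⁆ = a * (c * a * c⁻¹) ∧
    ⁅a, c⁆ = a * c * a⁻¹ * c := by
  have := A
  rw [commutatorElement_def, inv_eq_of_mul_eq_one_right ha, inv_eq_of_mul_eq_one_right hc]
  exact ⟨by group, rfl⟩

theorem conj_not_mem {δ : V} (hδ : ¬ tA δ) {g v : G} (hg : g ∈ Gs G δ) (hv : v ∉ zv G adj δ) :
    g * v * g⁻¹ ∉ zv G adj δ := fun e => hv (by
  have h9 := mem_centralizer_iff.1 (A.centralB' hδ hg) _ e
  rwa [show v = g * v * g⁻¹ from by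
    calc v = g⁻¹ * ((g * v * g⁻¹) * g) := by group
      _ = g⁻¹ * (g * (g * v * g⁻¹)) := by rw [h9]
      _ = g * v * g⁻¹ := by group])

section
variable {b : ℕ} (hb : Short1 G adj tA b) (hodd : Odd b) (h3 : 3 ≤ b)
include hb hodd h3

theorem xz_facts (hu : Uniq G adj tA) {f : ℕ → V} (h : Conf G adj tA b f) {x z : G}
    (hx : x ∈ zv G adj (f 0)) (hx' : x ∉ zv G adj (f 1))
    (hz : z ∈ zv G adj (f (b + 1))) (hz' : z ∉ zv G adj (f b)) :
    x ∉ Qs G (f b) ∧ z ∉ Qs G (f 1) ∧ ⁅x, z⁆ ∈ vv G adj (f 1) ∧ ⁅x, z⁆ ∈ vv G adj (f b) ∧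
      ⁅x, z⁆ ∉ zv G adj (f 1) := by
  have hpb : IsPath adj b f := (h.path.sub 0 (by omega : 0 + b ≤ b + 1)).congr
    fun i _ => by rw [zero_add]
  have hr := A.conf_rev hb hodd (by omega) h
  have hzQ : z ∉ Qs G (f 1) := fun e => hz' (by
    have hpr : IsPath adj b (rev (b + 1) f) := (hr.path.sub 0 (by omega : 0 + b ≤ b + 1)).congr
      fun i _ => by rw [zero_add]
    have := A.kernel hu hb (by omega) hpr hr.hA hr.crit (x := z) (by simpa [rev] using hz)
      (by simpa [rev] using e)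
    simpa [rev] using this)
  have h1 := h.path.step 0 (by omega)
  have hbe := h.path.step b (by omega)
  have hz1 := A.z_gs hb hodd (by omega) h hz le_rfl (by omega)
  have hxb := A.x_gs hb hodd (by omega) h hx le_rfl
  have hzx : z * x * z⁻¹ ∈ zv G adj (z • f 0) := by rw [A.zv_smul]; exact ⟨x, hx, rfl⟩
  have hzn := A.adj_smul_left (A.symm _ _ h1) hz1
  have hδ : ¬ tA (f 1) := A.tA_not h1 h.hA
  obtain ⟨e1, e2⟩ := A.comm_invol (A.sq_one hx) (A.sq_one hz)
  refine ⟨fun e => hx' (A.kernel hu hb (by omega) hpb h.hA h.crit hx e), hzQ, ?_, ?_, fun e => ?_⟩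
  · rw [e1]; exact mul_mem (zv_le_vv (A.symm _ _ h1) hx) (zv_le_vv hzn hzx)
  · rw [e2]
    refine mul_mem (zv_le_vv (A.adj_smul_left hbe hxb) ?_) (zv_le_vv hbe hz)
    rw [A.zv_smul]; exact ⟨z, hz, rfl⟩
  · rw [e1] at e
    have h0 : z * x * z⁻¹ ∈ zv G adj (f 0) :=
      ((zv G adj (f 0)).mul_mem_cancel_left hx).1 (A.zvB_le h1 h.hA e)
    exact A.conj_not_mem hδ hz1 hx'
      (A.zv_inter hδ (A.symm _ _ h1) hzn (A.z_move hb hodd (by omega) h hz hzQ).1.symm h0 hzx)

end

variable {b : ℕ} (hb : Short1 G adj tA b) (hodd : Odd b) (h5 : 5 ≤ b)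
include hb hodd h5

/-- Without full conjugacy the commutator drops to the third edge. -/
theorem w_notfull (hu : Uniq G adj tA) {f : ℕ → V} (h : Conf G adj tA b f)
    (hF : ¬ Conj G adj tA b True) {x z : G} (hx : x ∈ zv G adj (f 0)) (hx' : x ∉ zv G adj (f 1))
    (hz : z ∈ zv G adj (f (b + 1))) : ⁅x, z⁆ ∈ zv G adj (f 3) := by
  obtain ⟨g, hg, hgi⟩ := A.conf_right hb hodd (by omega) h
  have e0 : g 0 = f 2 := hgi 0 (by omega)
  have e1 : g 1 = f 3 := hgi 1 (by omega)
  have he : g (b - 1) = f (b + 1) := by rw [hgi _ le_rfl]; congr 1; omega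
  have hδ : adj (g 0) (f 1) := e0 ▸ A.symm _ _ (h.path.step 1 (by omega))
  have hne : f 1 ≠ g 1 := e1 ▸ h.path.nobt 1 (by omega)
  have hγ : adj (f 1) (f 0) := A.symm _ _ (h.path.step 0 (by omega))
  have hγne : f 0 ≠ g 0 := e0 ▸ h.path.nobt 0 (by omega)
  obtain ⟨t, ht, ht'⟩ := A.exists_edge_not_qs (hg.path.step 0 (by omega))
  obtain ⟨hn1, hn2⟩ := A.smul_ne (hg.path.step 0 (by omega)) hδ hne.symm ht ht'
  set δ' := t • f 1 with hδ'def
  have hδ' : adj (g 0) δ' := A.adj_smul_left hδ ht.1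
  obtain ⟨γ', hγ', hγne'⟩ := A.exists_other (A.symm _ _ hδ')
  have hδB' := A.tA_not hδ' hg.hA
  obtain ⟨m', hm, hm'⟩ : ∃ m' ∈ zv G adj γ', m' ∉ zv G adj δ' := SetLike.not_le_iff_exists.1
    fun hle => A.zv_ne hδB' hγ' (A.symm _ _ hδ') hγne' (hle.trans (A.zvB_le hδ' hg.hA))
  have key : ∀ {δ γ : V} {m : G}, adj (g 0) δ → δ ≠ g 1 → adj δ γ → γ ≠ g 0 →
      m ∈ zv G adj γ → m ∉ zv G adj δ → m ∉ Qs G (g (b - 2)) ∧
        m ∈ Gs G (g (b - 2)) ⊓ Gs G (g (b - 3)) := by
    intro δ γ m h1 h2 h3 h4 hm1 hm2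
    have hc := A.conf_left hb hodd (by omega) hg h1 h2 h3 h4
    have hpb : IsPath adj b (pcons γ (pcons δ g)) := (hc.path.sub 0 (by omega : 0 + b ≤ b + 1)).congr
      fun i _ => by rw [zero_add]
    refine ⟨fun e => hm2 (A.kernel hu hb (by omega) hpb hc.hA hc.crit hm1
      (by rw [pcons_add_two _ _ _ (by omega : 2 ≤ b)]; exact e)), ?_, ?_⟩
    · have := A.x_gs hb hodd (by omega) hc hm1 (j := b) le_rfl
      rwa [pcons_add_two _ _ _ (by omega : 2 ≤ b)] at this
    · have := A.x_gs hb hodd (by omega) hc hm1 (j := b - 1) (by omega)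
      rwa [pcons_add_two _ _ _ (by omega : 2 ≤ b - 1), show b - 1 - 2 = b - 3 by omega] at this
  obtain ⟨hxn, hxT⟩ := key hδ hne hγ hγne hx hx'
  obtain ⟨hmn, hmT⟩ := key hδ' hn2 hγ' hγne' hm hm'
  have h32 : adj (g (b - 2)) (g (b - 3)) := by
    have := hg.path.step (b - 3) (by omega)
    rw [show b - 3 + 1 = b - 2 by omega] at this
    exact A.symm _ _ this
  have hpW : x * m' ∈ ww G adj (g 0) :=
    mul_mem (vv_le_ww hδ (zv_le_vv hγ hx)) (vv_le_ww hδ' (zv_le_vv hγ' hm))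
  have hpQ := (A.half_facts hb hodd (by omega) hg hF).1 _ hpW (A.mul_mem_qs h32 hxT hmT hxn hmn)
  have hc : Commute (x * m') z := A.commute_qs hpQ (he ▸ hz)
  have hwalk : ∀ {δ : V}, adj (g 0) δ → Walk adj b (g (b - 1)) δ := fun {δ} hd => by
    have := A.path_walk hg.path (i := b - 1) (j := 0) (by omega) (by omega)
    have h9 := walk_snoc this hd
    rwa [show 0 - (b - 1) + (b - 1 - 0) + 1 = b by omega] at h9
  have hzA : tA (g (b - 1)) := he ▸ (A.tA_even h le_rfl).2 hodd.add_one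
  have hz1 : ∀ {δ : V}, adj (g 0) δ → z ∈ Gs G δ := fun {δ} hd =>
    A.push1 hb le_rfl hzA (hwalk hd) (he ▸ hz)
  obtain ⟨ex, ex2⟩ := A.comm_invol (A.sq_one hx) (A.sq_one hz)
  have hv1 : ⁅x, z⁆ ∈ vv G adj (f 1) := by
    rw [ex]
    refine mul_mem (zv_le_vv hγ hx) (zv_le_vv (A.adj_smul_left hγ (hz1 hδ)) ?_)
    rw [A.zv_smul]; exact ⟨x, hx, rfl⟩
  have hv2 : ⁅x, z⁆ ∈ vv G adj δ' := by
    have hm2 := A.sq_one hm
    have hzm : z * m' * z⁻¹ ∈ zv G adj (z • γ') := by rw [A.zv_smul]; exact ⟨m', hm, rfl⟩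
    have hzm2 : (z * m' * z⁻¹) * (z * m' * z⁻¹) = 1 := by
      rw [show (z * m' * z⁻¹) * (z * m' * z⁻¹) = z * (m' * m') * z⁻¹ by group, hm2, mul_one,
        mul_inv_cancel]
    have e : z * x * z⁻¹ * (z * m' * z⁻¹) = x * m' := by
      rw [show z * x * z⁻¹ * (z * m' * z⁻¹) = z * (x * m') * z⁻¹ by group, hc.symm.eq,
        mul_inv_cancel_right]
    have e' : ⁅x, z⁆ = m' * (z * m' * z⁻¹) := by
      have e2 : z * x * z⁻¹ = x * m' * (z * m' * z⁻¹) := by
        calc z * x * z⁻¹ = z * x * z⁻¹ * ((z * m' * z⁻¹) * (z * m' * z⁻¹)) := by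
              rw [hzm2, mul_one]
          _ = x * m' * (z * m' * z⁻¹) := by rw [← mul_assoc, e]
      rw [ex, e2, mul_assoc x m', ← mul_assoc x x, A.sq_one hx, one_mul]
    rw [e']
    exact mul_mem (zv_le_vv hγ' hm) (zv_le_vv (A.adj_smul_left hγ' (hz1 hδ')) hzm)
  have h0 := A.vv_inter hb (by omega) hu hg.hA hδ hδ' hn1.symm hv1 hv2
  have hQ : ⁅x, z⁆ ∈ Qs G (g b) := by
    have h21 : adj (g (b - 2)) (g (b - 1)) := by
      have := hg.path.step (b - 2) (by omega)
      rwa [show b - 2 + 1 = b - 1 by omega] at this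
    have h1b : adj (g (b - 1)) (g b) := by
      have := hg.path.step (b - 1) (by omega)
      rwa [show b - 1 + 1 = b by omega] at this
    have hle : vv G adj (g (b - 2)) ≤ Qs G (g b) := iSup_le fun w =>
      hb 3 (w : V) (g b) (by omega) (A.tA_of_not w.2 fun e => (A.alt _ _ h21).1 hzA e)
        (walk_cons (A.symm _ _ w.2) (walk_cons h21 (walk_one h1b)))
    refine hle ?_
    rw [ex2]
    refine mul_mem (zv_le_vv (A.adj_smul_left h21 hxT.1) ?_) (zv_le_vv h21 (he ▸ hz))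
    rw [A.zv_smul]; exact ⟨z, he ▸ hz, rfl⟩
  have hpb : IsPath adj b g := (hg.path.sub 0 (by omega : 0 + b ≤ b + 1)).congr
    fun i _ => by rw [zero_add]
  rw [← e1]
  exact A.kernel hu hb (by omega) hpb hg.hA hg.crit h0 hQ

/-- With full conjugacy the commutator lies in the last but one `Z`. -/
theorem w_full_aux (hu : Uniq G adj tA) {f : ℕ → V} (h : Conf G adj tA b f)
    (hF : Conj G adj tA b True) {x z : G} (hx : x ∈ zv G adj (f 0)) (hx' : x ∉ zv G adj (f 1))
    (hz : z ∈ zv G adj (f (b + 1))) (hz' : z ∉ zv G adj (f b)) :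
    ⁅x, z⁆ ∈ zv G adj (f (b - 1)) ∧
      ∃ ε, adj (f (b + 1)) ε ∧ ε ≠ f b ∧ ⁅x, z⁆ ∈ Qs G ε := by
  obtain ⟨-, hzQ, hw1, hwb, -⟩ := A.xz_facts hb hodd (by omega) hu h hx hx' hz hz'
  have h21 : adj (f (b - 1)) (f (b - 2)) := by
    have := h.path.step (b - 2) (by omega)
    rw [show b - 2 + 1 = b - 1 by omega] at this
    exact A.symm _ _ this
  have h1b : adj (f (b - 1)) (f b) := by
    have := h.path.step (b - 1) (by omega)
    rwa [show b - 1 + 1 = b by omega] at this
  have hbe := h.path.step b (by omega)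
  have hne2 : f (b - 2) ≠ f b := by
    have := h.path.nobt (b - 2) (by omega)
    rwa [show b - 2 + 2 = b by omega] at this
  have hne3 : f (b - 1) ≠ f (b + 1) := by
    have := h.path.nobt (b - 1) (by omega)
    rwa [show b - 1 + 2 = b + 1 by omega] at this
  have hA1 : tA (f (b - 1)) := by
    rw [A.tA_even h (by omega), Nat.even_sub (by omega)]
    simp [Nat.not_even_iff_odd.2 hodd]
  have heA : tA (f (b + 1)) := (A.tA_even h le_rfl).2 hodd.add_one
  have hbB : ¬ tA (f b) := A.tA_not h1b hA1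
  obtain ⟨t, ht, ht'⟩ := A.exists_edge_not_qs h21
  obtain ⟨hn1, hn2⟩ := A.smul_ne h21 h1b hne2 ht ht'
  set a'' := t • f b with ha''def
  have ha : adj (f (b - 1)) a'' := A.adj_smul_left h1b ht.1
  have haB : ¬ tA a'' := A.tA_not ha hA1
  have h1B : ¬ tA (f (1 + 0)) := by
    rw [A.tA_even h (by omega)]; decide
  have hp : IsPath adj (b - 1) (fun i => f (1 + i)) := h.path.sub 1 (by omega)
  have hp' : IsPath adj (b - 1) (fun i => if i < b - 1 then f (1 + i) else a'') := by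
    refine ⟨fun i hi => ?_, fun i hi => ?_⟩
    · rcases Nat.lt_or_ge (i + 1) (b - 1) with hlt | hge
      · simpa [show i < b - 1 by omega, hlt, add_assoc] using h.path.step (1 + i) (by omega)
      · simpa [show i < b - 1 by omega, show ¬ (i + 1 < b - 1) by omega,
          show 1 + i = b - 1 by omega] using ha
    · rcases Nat.lt_or_ge (i + 2) (b - 1) with hlt | hge
      · simpa [show i < b - 1 by omega, hlt, add_assoc] using h.path.nobt (1 + i) (by omega)
      · simpa [show i < b - 1 by omega, show ¬ (i + 2 < b - 1) by omega,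
          show 1 + i = b - 2 by omega] using hn2.symm
  have hC : Conj G adj tA (b - 1) False := by
    refine Conj.pred A ?_
    rwa [show b - 1 + 1 = b by omega]
  obtain ⟨g, hg⟩ := hC _ _ hp hp' (iff_false_intro h1B)
    (by simpa [show 0 < b - 1 by omega] using h1B)
  have hgf : ∀ i, 1 ≤ i → i ≤ b - 1 → g • f i = f i := fun i h1' h2' => by
    have := hg (i - 1) (by omega)
    simpa [show 1 + (i - 1) = i by omega, show i - 1 < b - 1 by omega] using this
  have hgb : g • f b = a'' := by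
    have := hg (b - 1) le_rfl
    simpa [show 1 + (b - 1) = b by omega] using this
  set w := ⁅x, z⁆ with hw
  have hwB : g * w * g⁻¹ ∈ vv G adj a'' := by
    rw [← hgb, A.vv_smul]; exact ⟨w, hwb, rfl⟩
  have h01 := h.path.step 0 (by omega)
  have hf1B : ¬ tA (f 1) := A.tA_not h01 h.hA
  have hg1 : g ∈ Gs G (f 1) := MulAction.mem_stabilizer_iff.2 (hgf 1 le_rfl (by omega))
  have hz1 := A.z_gs hb hodd (by omega) h hz le_rfl (by omega)
  obtain ⟨hzm1, hzm2⟩ := A.z_move hb hodd (by omega) h hz hzQ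
  obtain ⟨ew, ew2⟩ := A.comm_invol (A.sq_one hx) (A.sq_one hz)
  have hzn := A.adj_smul_left (A.symm _ _ h01) hz1
  have hzx : z * x * z⁻¹ ∈ zv G adj (z • f 0) := by rw [A.zv_smul]; exact ⟨x, hx, rfl⟩
  have hzx' : z * x * z⁻¹ ∉ zv G adj (f 1) := A.conj_not_mem hf1B hz1 hx'
  have hsame : w * (g * w * g⁻¹) ∈ zv G adj (f 1) := by
    have hmem : ∀ {v : V} {p : G}, p ∈ zv G adj v → g * p * g⁻¹ ∈ zv G adj (g • v) :=
      fun {v p} hp => by rw [A.zv_smul]; exact ⟨p, hp, rfl⟩
    have hnbr : ∀ {v : V}, adj (f 1) v → v ≠ f 2 → g • v = f 0 ∨ g • v = z • f 0 := by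
      intro v hv hv2
      rcases A.nbr3 (A.symm _ _ h01) (h.path.step 1 (by omega)) hzn (A.adj_smul_left hv hg1)
        (h.path.nobt 0 (by omega)) hzm1.symm hzm2.symm with e | e | e
      · exact Or.inl e
      · exact absurd (smul_left_cancel g (e.trans (hgf 2 (by omega) (by omega)).symm)) hv2
      · exact Or.inr e
    have hA0 := h.hA
    have hAz : tA (z • f 0) := (A.tA_smul z).2 h.hA
    have ix := hmem hx
    have iz := hmem hzx
    have cx := A.conj_not_mem hf1B hg1 hx'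
    have cz := A.conj_not_mem hf1B hg1 hzx'
    have hV : ∀ {v : V}, adj (f 1) v → zv G adj v ≤ vv G adj (f 1) := fun hv => zv_le_vv hv
    have hxV := hV (A.symm _ _ h01) hx
    have hzV := hV hzn hzx
    have ixV := hV (A.adj_smul_left (A.symm _ _ h01) hg1) ix
    have izV := hV (A.adj_smul_left hzn hg1) iz
    rw [hw, ew, show g * (x * (z * x * z⁻¹)) * g⁻¹ = (g * x * g⁻¹) * (g * (z * x * z⁻¹) * g⁻¹) by group]
    rcases hnbr (A.symm _ _ h01) (h.path.nobt 0 (by omega)) with e | e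
    · rw [e] at ix
      have e' : g • z • f 0 = z • f 0 := by
        rcases hnbr hzn hzm2 with e' | e'
        · exact absurd (smul_left_cancel g (e'.trans e.symm)) hzm1
        · exact e'
      rw [e'] at iz
      rw [(A.vv_commute hb (by omega) hf1B hzV ixV).mul_mul_mul_comm]
      exact mul_mem (A.coset hu h01 hA0 hx ix hx' cx)
        (A.coset hu (A.symm _ _ hzn) hAz hzx iz hzx' cz)
    · rw [e] at ix
      have e' : g • z • f 0 = f 0 := by
        rcases hnbr hzn hzm2 with e' | e'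
        · exact e'
        · exact absurd (smul_left_cancel g (e'.trans e.symm)) hzm1
      rw [e'] at iz
      rw [(A.vv_commute hb (by omega) hf1B ixV izV).eq,
        (A.vv_commute hb (by omega) hf1B hzV izV).mul_mul_mul_comm]
      exact mul_mem (A.coset hu h01 hA0 hx iz hx' cz)
        (A.coset hu (A.symm _ _ hzn) hAz hzx ix hzx' cx)
  obtain ⟨ε, hε, hεne⟩ := A.exists_other (A.symm _ _ hbe)
  have hwQ : w ∈ Qs G ε := by
    refine (iSup_le fun v => ?_ : vv G adj (f b) ≤ Qs G ε) hwb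
    exact hb 3 (v : V) ε (by omega) (A.tA_of_not v.2 hbB)
      (walk_cons (A.symm _ _ v.2) (walk_cons hbe (walk_one hε)))
  have hwQ' : g * w * g⁻¹ ∈ Qs G ε := by
    rcases (show b = 5 ∨ 6 ≤ b by omega) with rfl | h6
    · have hxb := A.x_gs hb hodd (by omega) h hx le_rfl
      have hx4 : x ∈ Gs G (f 4) := A.x_gs hb hodd (by omega) h hx (by omega)
      have key : ∀ {u : V} {p : G}, adj (f 5) u → u ≠ f 4 → p ∈ zv G adj u → p ∉ zv G adj (f 5) →
          g * p * g⁻¹ ∉ Qs G ε ∧ g * p * g⁻¹ ∈ Gs G ε ⊓ Gs G (f 6) := by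
        intro u p hu1 hu2 hp1 hp2
        have hua : adj a'' (g • u) := hgb ▸ A.smul g _ _ hu1
        have hu4 : g • u ≠ f 4 := fun e =>
          hu2 (smul_left_cancel g (e.trans (hgf 4 (by omega) (by omega)).symm))
        let q : ℕ → V := pcons (g • u) (pcons a'' (pcons (f 4) (pcons (f 5) (pcons (f 6) fun _ => ε))))
        have hq : IsPath adj 5 q := by
          refine ⟨fun i hi => ?_, fun i hi => ?_⟩
          · match i, hi with
            | 0, _ => exact A.symm _ _ hua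
            | 1, _ => exact A.symm _ _ ha
            | 2, _ => exact h1b
            | 3, _ => exact hbe
            | 4, _ => exact hε
          · match i, hi with
            | 0, _ => exact hu4
            | 1, _ => exact hn1
            | 2, _ => exact hne3
            | 3, _ => exact hεne.symm
        have hqA : tA (q 0) := A.tA_of_not hua haB
        have hp3 : g * p * g⁻¹ ∈ zv G adj (q 0) := by
          show _ ∈ zv G adj (g • u)
          rw [A.zv_smul]; exact ⟨p, hp1, rfl⟩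
        have hp4 : g * p * g⁻¹ ∉ zv G adj (q 1) := fun e => hp2 (by
          have e' : g * p * g⁻¹ ∈ zv G adj (g • f 5) := by rw [hgb]; exact e
          rw [A.zv_smul] at e'
          obtain ⟨p2, h2, h2e⟩ := e'
          rwa [show p = p2 from ((MulAut.conj g).injective h2e).symm])
        exact ⟨fun e => hp4 (A.kernel hu hb (by omega) hq hqA (A.crit_of_full h hF hq hqA) hp3 e),
          A.path_gs hb hq hqA (j := 5) (by omega) le_rfl (by omega) (by omega) hp3,
          A.path_gs hb hq hqA (j := 4) (by omega) (by omega) (by omega) (by omega) hp3⟩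
      have hxzx : x * z * x⁻¹ ∈ zv G adj (x • f 6) := by rw [A.zv_smul]; exact ⟨z, hz, rfl⟩
      obtain ⟨k1, k2⟩ := key (A.adj_smul_left hbe hxb) (fun e => hne3
        ((smul_left_cancel x (e.trans (MulAction.mem_stabilizer_iff.1 hx4).symm)).symm)) hxzx
        (A.conj_not_mem hbB hxb hz')
      obtain ⟨k3, k4⟩ := key hbe hne3.symm hz hz'
      rw [hw, ew2, show g * (x * z * x⁻¹ * z) * g⁻¹ = (g * (x * z * x⁻¹) * g⁻¹) * (g * z * g⁻¹) by group]
      exact A.mul_mem_qs (A.symm _ _ hε) k2 k4 k1 k3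
    · refine (iSup_le fun v => ?_ : vv G adj a'' ≤ Qs G ε) hwB
      exact hb 5 (v : V) ε (by omega) (A.tA_of_not v.2 haB)
        (walk_cons (A.symm _ _ v.2) (walk_cons (A.symm _ _ ha) (walk_cons h1b
          (walk_cons hbe (walk_one hε)))))
  let q : ℕ → V := fun i => if i < b then f (2 + i) else ε
  have hq : IsPath adj b q := by
    refine ⟨fun i hi => ?_, fun i hi => ?_⟩
    · rcases Nat.lt_or_ge (i + 1) b with hlt | hge
      · simpa [q, show i < b by omega, hlt, add_assoc] using h.path.step (2 + i) (by omega)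
      · simpa [q, show i < b by omega, show ¬ (i + 1 < b) by omega,
          show 2 + i = b + 1 by omega] using hε
    · rcases Nat.lt_or_ge (i + 2) b with hlt | hge
      · simpa [q, show i < b by omega, hlt, add_assoc] using h.path.nobt (2 + i) (by omega)
      · simpa [q, show i < b by omega, show ¬ (i + 2 < b) by omega,
          show 2 + i = b by omega] using hεne.symm
  have hq0 : q 0 = f 2 := if_pos (by omega)
  have hq1 : q 1 = f 3 := if_pos (by omega)
  have hqb : q b = ε := if_neg (lt_irrefl b)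
  have hA2 : tA (f 2) := by rw [A.tA_even h (by omega)]; decide
  have hy : w * (g * w * g⁻¹) = 1 := by
    refine A.yDisj (A.symm _ _ (h.path.step 1 (by omega))) (h.path.step 2 (by omega))
      (h.path.nobt 1 (by omega)) hA2 hsame ?_
    rw [← hq1]
    refine A.kernel hu hb (by omega) hq (hq0 ▸ hA2) (A.crit_of_full h hF hq (hq0 ▸ hA2)) ?_ ?_
    · rw [hq0]; exact A.zvB_le (A.symm _ _ (h.path.step 1 (by omega))) hA2 hsame
    · rw [hqb]; exact mul_mem hwQ hwQ'
  have hww : g * w * g⁻¹ = w := by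
    rw [eq_inv_of_mul_eq_one_right hy]
    exact inv_eq_of_mul_eq_one_right (A.vv_sq hb (by omega) hf1B hw1)
  rw [hww] at hwB
  exact ⟨A.vv_inter hb (by omega) hu hA1 h1b ha hn1.symm hwb hwB, ε, hε, hεne, hwQ⟩

theorem w_mem (hu : Uniq G adj tA) {f : ℕ → V} (h : Conf G adj tA b f) {x z : G}
    (hx : x ∈ zv G adj (f 0)) (hx' : x ∉ zv G adj (f 1))
    (hz : z ∈ zv G adj (f (b + 1))) (hz' : z ∉ zv G adj (f b)) :
    ⁅x, z⁆ ∈ zv G adj (f 3) := by
  by_cases hF : Conj G adj tA b True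
  swap
  · exact A.w_notfull hb hodd h5 hu h hF hx hx' hz
  obtain ⟨-, ε, hε, hεne, hwQ⟩ := A.w_full_aux hb hodd h5 hu h hF hx hx' hz hz'
  obtain ⟨hr, -⟩ := A.w_full_aux hb hodd h5 hu (A.conf_rev hb hodd (by omega) h) hF
    (x := z) (z := x) (by simpa [rev] using hz) (by simpa [rev] using hz')
    (by simpa [rev] using hx) (by simpa [rev, show b + 1 - b = 1 by omega] using hx')
  rw [show rev (b + 1) f (b - 1) = f 2 by simp only [rev]; congr 1; omega] at hr
  have h2 : ⁅x, z⁆ ∈ zv G adj (f 2) := by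
    rw [← commutatorElement_inv]; exact inv_mem hr
  let q : ℕ → V := fun i => if i < b then f (2 + i) else ε
  have hq : IsPath adj b q := by
    refine ⟨fun i hi => ?_, fun i hi => ?_⟩
    · rcases Nat.lt_or_ge (i + 1) b with hlt | hge
      · simpa [q, show i < b by omega, hlt, add_assoc] using h.path.step (2 + i) (by omega)
      · simpa [q, show i < b by omega, show ¬ (i + 1 < b) by omega,
          show 2 + i = b + 1 by omega] using hε
    · rcases Nat.lt_or_ge (i + 2) b with hlt | hge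
      · simpa [q, show i < b by omega, hlt, add_assoc] using h.path.nobt (2 + i) (by omega)
      · simpa [q, show i < b by omega, show ¬ (i + 2 < b) by omega,
          show 2 + i = b by omega] using hεne.symm
  have hq0 : q 0 = f 2 := if_pos (by omega)
  have hq1 : q 1 = f 3 := if_pos (by omega)
  have hA2 : tA (f 2) := by rw [A.tA_even h (by omega)]; decide
  rw [← hq1]
  exact A.kernel hu hb (by omega) hq (hq0 ▸ hA2) (A.crit_of_full h hF hq (hq0 ▸ hA2))
    (by rw [hq0]; exact h2) (by rw [show q b = ε from if_neg (lt_irrefl b)]; exact hwQ)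

/-- Odd distances above three do not occur. -/
theorem no_five {f : ℕ → V} (h : Conf G adj tA b f) : False := by
  have hu : Uniq G adj tA := fun δ hδ p q hp hq hp1 hq1 =>
    A.uniq hb hodd (by omega) h hδ hp hq hp1 hq1
  have hout : ∀ {δ γ : V}, tA γ → adj γ δ → ∃ m ∈ zv G adj γ, m ∉ zv G adj δ := by
    intro δ γ hγ hd
    obtain ⟨δ', hδ', hne⟩ := A.exists_other hd
    obtain ⟨y, hy, hy1⟩ := A.ze_ne_bot hδ'
    rw [← A.zvB' hδ' hγ] at hy
    exact ⟨y, A.zvB_le hδ' hγ hy, fun e => hy1 (A.yDisj hd hδ' hne.symm hγ e hy)⟩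
  have h01 := h.path.step 0 (by omega)
  obtain ⟨x, hx, hx'⟩ := hout h.hA h01
  obtain ⟨z, hz, hz'⟩ := hout ((A.tA_even h le_rfl).2 hodd.add_one)
    (A.symm _ _ (h.path.step b (by omega)))
  obtain ⟨-, hzQ, -, hwb, hw1⟩ := A.xz_facts hb hodd (by omega) hu h hx hx' hz hz'
  rcases (show b = 5 ∨ 7 ≤ b by obtain ⟨k, rfl⟩ := hodd; omega) with rfl | h7
  swap
  · have hw3 := A.w_mem hb hodd h5 hu h hx hx' hz hz'
    obtain ⟨g, hg, hgi⟩ := A.conf_right hb hodd (by omega) h
    obtain ⟨k, hk, hki⟩ := A.conf_right hb hodd (by omega) hg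
    have hk' : ∀ i, i ≤ b - 3 → k i = f (i + 4) := fun i hi => by
      rw [hki i (by omega), hgi (i + 2) (by omega)]
    have hA4 : tA (f 4) := by rw [A.tA_even h (by omega)]; decide
    have hkb : k (b - 4) = f b := by rw [hk' _ (by omega)]; congr 1; omega
    have hle : vv G adj (f b) ≤ Qs G (k b) := iSup_le fun v => by
      have := A.path_walk hk.path (i := b - 4) (j := b) (by omega) (by omega)
      rw [hkb] at this
      refine hb _ (v : V) (k b) (by omega) (A.tA_of_not v.2 fun e =>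
        Nat.not_even_iff_odd.2 hodd ((A.tA_even h (by omega)).1 e))
        (walk_cons (A.symm _ _ v.2) this)
    have hpk : IsPath adj b k := (hk.path.sub 0 (by omega : 0 + b ≤ b + 1)).congr
      fun i _ => by rw [zero_add]
    have hw4 : ⁅x, z⁆ ∈ zv G adj (k 0) := by
      rw [hk' 0 (by omega)]
      exact A.zvB_le (A.symm _ _ (h.path.step 3 (by omega))) hA4 hw3
    have hw5 := A.kernel hu hb (by omega) hpk hk.hA hk.crit hw4 (hle hwb)
    rw [hk' 1 (by omega)] at hw5
    have := A.yDisj (A.symm _ _ (h.path.step 3 (by omega))) (h.path.step 4 (by omega))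
      (h.path.nobt 3 (by omega)) hA4 hw3 hw5
    exact hw1 (by rw [this]; exact one_mem _)
  obtain ⟨δ, hδ, hne⟩ := A.exists_other h01
  obtain ⟨γ, hγ, hγne⟩ := A.exists_other (A.symm _ _ hδ)
  have hl := A.conf_left hb hodd (by omega) h hδ hne hγ hγne
  obtain ⟨δ2, hδ2, hne2⟩ := A.exists_other (hl.path.step 0 (by omega))
  obtain ⟨γ2, hγ2, hγne2⟩ := A.exists_other (A.symm _ _ hδ2)
  have hl2 := A.conf_left hb hodd (by omega) hl hδ2 hne2 hγ2 hγne2
  obtain ⟨q, hq, hq'⟩ := SetLike.not_le_iff_exists.1 hl2.crit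
  have hq0 : q ∈ Gs G (f 0) := A.x_gs hb hodd (by omega) hl2 hq (j := 4) (by omega)
  have hq1 : q ∈ Gs G (f 1) := A.x_gs hb hodd (by omega) hl2 hq (j := 5) le_rfl
  have hz1 := A.z_gs hb hodd (by omega) h hz le_rfl (by omega)
  obtain ⟨hzm0, hzm2⟩ := A.z_move hb hodd (by omega) h hz hzQ
  have h12 := h.path.step 1 (by omega)
  have hα0 : q • f 2 = z • f 0 := A.third (A.symm _ _ h01) h12
    (A.adj_smul_left (A.symm _ _ h01) hz1) (h.path.nobt 0 (by omega)) hzm0 hzm2 ⟨hq1, hq0⟩ hq'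
  have hzz : z⁻¹ = z := A.inv_eq hz
  have hδ0 : adj (z • f 0) (q • f 3) := hα0 ▸ A.smul q _ _ (h.path.step 2 (by omega))
  have hδ1 : adj (f 0) (z • q • f 3) := by
    have := A.smul z _ _ hδ0
    rwa [← mul_smul z z, A.sq_one hz, one_smul] at this
  have hδ1ne : z • q • f 3 ≠ f 1 := fun e => h.path.nobt 1 (by omega) (by
    have e1 : z • q • f 3 = z • q • f 1 := by
      rw [MulAction.mem_stabilizer_iff.1 hq1, MulAction.mem_stabilizer_iff.1 hz1]; exact e
    exact (smul_left_cancel q (smul_left_cancel z e1)).symm)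
  set δ1 := z • q • f 3 with hδ1def
  have hδ3 : adj (f 0) (q⁻¹ • δ1) := by
    have := A.smul q⁻¹ _ _ hδ1
    rwa [inv_smul_eq_iff.2 (MulAction.mem_stabilizer_iff.1 hq0).symm] at this
  have hδ3ne : q⁻¹ • δ1 ≠ f 1 := fun e => hδ1ne (by
    rw [inv_smul_eq_iff, MulAction.mem_stabilizer_iff.1 hq1] at e
    exact e)
  obtain ⟨γ3, hγ3, hγne3⟩ := A.exists_other (A.symm _ _ hδ3)
  have hc3 := (A.conf_left hb hodd (by omega) h hδ3 hδ3ne hγ3 hγne3).smul (A := A) q
  set γ1 := q • γ3 with hγ1def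
  have hγ1 : adj δ1 γ1 := by
    have := A.smul q _ _ hγ3
    rwa [smul_inv_smul] at this
  have hγ1ne : γ1 ≠ f 0 := fun e =>
    hγne3 (smul_left_cancel q (e.trans (MulAction.mem_stabilizer_iff.1 hq0).symm))
  have hδ1B := A.tA_not hδ1 h.hA
  let g2 : ℕ → V :=
    pcons γ1 (pcons δ1 (pcons (f 0) (pcons (f 1) (pcons (z • f 0) (pcons (q • f 3) fun _ => z • γ1)))))
  have hg2 : Conf G adj tA 5 g2 := by
    refine ⟨⟨fun i hi => ?_, fun i hi => ?_⟩, A.tA_of_not hγ1 hδ1B, ?_⟩
    · match i, hi with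
      | 0, _ => exact A.symm _ _ hγ1
      | 1, _ => exact A.symm _ _ hδ1
      | 2, _ => exact h01
      | 3, _ => exact A.adj_smul_left (A.symm _ _ h01) hz1
      | 4, _ => exact hδ0
      | 5, _ =>
        show adj (q • f 3) (z • γ1)
        have := A.smul z _ _ hγ1
        rwa [hδ1def, ← mul_smul z z, A.sq_one hz, one_smul] at this
    · match i, hi with
      | 0, _ => exact hγ1ne
      | 1, _ => exact hδ1ne
      | 2, _ => exact hzm0.symm
      | 3, _ =>
        exact fun e => h.path.nobt 1 (by omega)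
          (smul_left_cancel q ((MulAction.mem_stabilizer_iff.1 hq1).trans e))
      | 4, _ => exact fun e => hγ1ne (smul_left_cancel z e).symm
    · exact hc3.crit
  obtain ⟨m, hm, hm'⟩ := hout (A.tA_of_not hγ1 hδ1B) (A.symm _ _ hγ1)
  have hzmz : z * m * z⁻¹ ∈ zv G adj (g2 6) := by
    show _ ∈ zv G adj (z • γ1)
    rw [A.zv_smul]; exact ⟨m, hm, rfl⟩
  have hzmz' : z * m * z⁻¹ ∉ zv G adj (g2 5) := fun e => hm' (by
    have e' : z * m * z⁻¹ ∈ zv G adj (z • δ1) := by
      rw [hδ1def, ← mul_smul z z, A.sq_one hz, one_smul]; exact e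
    rw [A.zv_smul] at e'
    obtain ⟨p, hp, hpe⟩ := e'
    rwa [show m = p from ((MulAut.conj z).injective hpe).symm])
  have hr1 : ⁅m, z * m * z⁻¹⁆ ∈ zv G adj (f 1) := A.w_mem hb hodd h5 hu hg2 hm hm' hzmz hzmz'
  have hr0 : ⁅m, z * m * z⁻¹⁆ ≠ 1 := fun e =>
    (A.xz_facts hb hodd (by omega) hu hg2 hm hm' hzmz hzmz').2.2.2.2 (by rw [e]; exact one_mem _)
  set r := ⁅m, z * m * z⁻¹⁆ with hrdef
  have hreq : r = ⁅m * z * m⁻¹, z⁆ := by
    rw [hrdef, commutatorElement_def, commutatorElement_def]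
    simp only [mul_inv_rev, hzz, inv_inv, A.inv_eq hm]
    group
  have hc1 := A.conf_left hb hodd (by omega) h hδ1 hδ1ne hγ1 hγ1ne
  obtain ⟨hm3', -⟩ : m ∉ Qs G (f 3) ∧ True := by
    refine ⟨fun e => hm' ?_, trivial⟩
    exact A.kernel hu hb (by omega)
      ((hc1.path.sub 0 (by omega : 0 + 5 ≤ 5 + 1)).congr fun i _ => by rw [zero_add])
      hc1.hA hc1.crit hm e
  have hm2 : m ∈ Gs G (f 2) := A.x_gs hb hodd (by omega) hc1 hm (j := 4) (by omega)
  have hm3 : m ∈ Gs G (f 3) := A.x_gs hb hodd (by omega) hc1 hm (j := 5) le_rfl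
  have h34 := h.path.step 3 (by omega)
  obtain ⟨hm4, -⟩ := A.smul_ne (A.symm _ _ (h.path.step 2 (by omega))) h34
    (h.path.nobt 2 (by omega)) ⟨hm3, hm2⟩ hm3'
  have hA2 : tA (f 2) := by rw [A.tA_even h (by omega)]; decide
  have hA4 : tA (f 4) := by rw [A.tA_even h (by omega)]; decide
  have hA6 : tA (f 6) := by rw [A.tA_even h (by omega)]; decide
  have hyd : ∀ {p : G}, p ∈ zv G adj (f 1) → p ∈ zv G adj (f 3) → p = 1 := fun {p} a c =>
    A.yDisj (A.symm _ _ h12) (h.path.step 2 (by omega)) (h.path.nobt 1 (by omega)) hA2 a c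
  let g3 : ℕ → V :=
    pcons (m • f 6) (pcons (m • f 5) (pcons (m • f 4) (pcons (f 3) (pcons (f 4)
      (pcons (f 5) fun _ => f 6)))))
  have hg3 : IsPath adj 6 g3 := by
    refine ⟨fun i hi => ?_, fun i hi => ?_⟩
    · match i, hi with
      | 0, _ => exact A.smul m _ _ (A.symm _ _ (h.path.step 5 (by omega)))
      | 1, _ => exact A.smul m _ _ (A.symm _ _ (h.path.step 4 (by omega)))
      | 2, _ =>
        have := A.smul m _ _ (A.symm _ _ h34)
        rwa [MulAction.mem_stabilizer_iff.1 hm3] at this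
      | 3, _ => exact h34
      | 4, _ => exact h.path.step 4 (by omega)
      | 5, _ => exact h.path.step 5 (by omega)
    · match i, hi with
      | 0, _ => exact fun e => h.path.nobt 4 (by omega) (smul_left_cancel m e).symm
      | 1, _ =>
        exact fun e => h.path.nobt 3 (by omega)
          (smul_left_cancel m ((MulAction.mem_stabilizer_iff.1 hm3).trans e.symm))
      | 2, _ => exact hm4
      | 3, _ => exact h.path.nobt 3 (by omega)
      | 4, _ => exact h.path.nobt 4 (by omega)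
  have hmzm : m * z * m⁻¹ ∈ zv G adj (m • f 6) := by rw [A.zv_smul]; exact ⟨z, hz, rfl⟩
  by_cases hc : zv G adj (m • f 6) ≤ Qs G (f 5)
  swap
  · have hz5 : m * z * m⁻¹ ∉ zv G adj (m • f 5) := fun e => hz' (by
      rw [A.zv_smul] at e
      obtain ⟨p, hp, hpe⟩ := e
      rwa [show z = p from ((MulAut.conj m).injective hpe).symm])
    have := A.w_mem hb hodd h5 hu (f := g3) ⟨hg3, (A.tA_smul m).2 hA6, hc⟩ hmzm hz5 hz hz'
    rw [← hreq] at this
    exact hr0 (hyd hr1 this)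
  have h56 := h.path.step 5 (by omega)
  have hT : m * z * m⁻¹ ∈ Gs G (f 6) ⊓ Gs G (f 5) :=
    ⟨(A.qs_le_edge h56 (hc hmzm)).2, qs_le _ (hc hmzm)⟩
  have hnQ : m * z * m⁻¹ ∉ Qs G (f 6) := fun e => hr0 (by
    rw [hreq]; exact commutatorElement_eq_one_iff_commute.2 (A.commute_qs e hz))
  have hr6 : r ∈ zv G adj (f 6) := by
    rw [hreq, commutatorElement_def]
    exact mul_mem ((mem_normalizer_iff.1 (A.zv_normal _ hT.1) z).1 hz) (inv_mem hz)
  have hr5 : r ∈ zv G adj (f 5) := by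
    refine A.mem_zvB_of_commute (A.symm _ _ h56) hA6 hT hnQ hr6 (mul_inv_eq_iff_eq_mul.1 ?_)
    rw [A.inv_eq hmzm]
    have e2 : r = m * z * m⁻¹ * z * (m * z * m⁻¹) * z := by
      rw [hreq, commutatorElement_def, A.inv_eq hmzm, hzz]
    calc m * z * m⁻¹ * r * (m * z * m⁻¹)
        = (m * z * m⁻¹ * (m * z * m⁻¹)) * (z * (m * z * m⁻¹) * z * (m * z * m⁻¹)) := by
          rw [e2]; group
      _ = z * (m * z * m⁻¹) * z * (m * z * m⁻¹) := by rw [A.sq_one hmzm, one_mul]
      _ = r⁻¹ := by rw [hreq, commutatorElement_inv, commutatorElement_def, A.inv_eq hmzm, hzz]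
      _ = r := A.inv_eq hr6
  have hr4 : r ∈ zv G adj (f 4) := A.zvB_le (h.path.step 4 (by omega)) hA4 hr5
  have hrev := A.conf_rev hb hodd (by omega) hl
  have hr3 : r ∈ zv G adj (f 3) := A.kernel hu hb (by omega)
    ((hrev.path.sub 0 (by omega : 0 + 5 ≤ 5 + 1)).congr fun i _ => by rw [zero_add])
    hrev.hA hrev.crit (x := r) hr4
    (hb 1 (f 0) δ (by omega) h.hA (walk_one hδ) (A.zvB_le h01 h.hA hr1))
  exact hr0 (hyd hr1 hr3)

end Gold

end Cfsg.Agent.S4Amal
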