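import Cfsg.Agent.S4Amalgam.Typed

/-!
# Critical distance one, two, and even
-/

set_option autoImplicit false

namespace Cfsg.Agent.S4Amal

open Subgroup
open scoped commutatorElement
open SfFree (cj)

variable {G : Type*} [Group G] {V : Type*} [MulAction G V] {adj : V → V → Prop} {tA : V → Prop}

/-- Paths of a given length and starting type are conjugate. -/
def Conj (G : Type*) [Group G] [MulAction G V] (adj : V → V → Prop) (tA : V → Prop) (n : ℕ)
    (s : Prop) : Prop :=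
  ∀ f g : ℕ → V, IsPath adj n f → IsPath adj n g → (tA (f 0) ↔ s) → (tA (g 0) ↔ s) →
    ∃ k : G, ∀ i, i ≤ n → k • f i = g i

namespace Gold

open AmalB

variable (A : Gold G adj tA)
include A

theorem conj_one (s : Prop) : Conj G adj tA 1 s := by
  intro f g hf hg hfs hgs
  obtain ⟨k, hk⟩ := A.orbit (hfs.trans hgs.symm)
  have h1 : adj (g 0) (k • f 1) := hk ▸ A.smul k _ _ (hf.step 0 (by omega))
  obtain ⟨k', hk', hk1⟩ := A.trans _ _ _ h1 (hg.step 0 (by omega))
  refine ⟨k' * k, fun i hi => ?_⟩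
  rcases (show i = 0 ∨ i = 1 by omega) with rfl | rfl
  · rw [mul_smul, hk, MulAction.mem_stabilizer_iff.1 hk']
  · rw [mul_smul, hk1]

theorem conj_extend {n : ℕ} {s : Prop} (hn : 1 ≤ n) (hc : Conj G adj tA n s) {p : ℕ → V}
    (hp : IsPath adj (n + 1) p) (hps : tA (p 0) ↔ ¬ s) {g : G}
    (hfix : ∀ i, i ≤ n → g • p (i + 1) = p (i + 1)) (hmove : g • p 0 ≠ p 0) :
    Conj G adj tA (n + 1) (¬ s) := by
  have hsub : ∀ {q : ℕ → V}, IsPath adj (n + 1) q → (tA (q 0) ↔ ¬ s) →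
      IsPath adj n (fun i => q (1 + i)) ∧ (tA (q 1) ↔ s) := fun {q} hq hqs => by
    refine ⟨hq.sub 1 (by omega), ?_⟩
    rw [A.alt _ _ (hq.step 0 (by omega)), hqs, not_not]
  have hall : ∀ q, IsPath adj (n + 1) q → (tA (q 0) ↔ ¬ s) →
      ∃ k : G, ∀ i, i ≤ n + 1 → k • q i = p i := by
    intro q hq hqs
    obtain ⟨hq1, hq2⟩ := hsub hq hqs
    obtain ⟨hp1, hp2⟩ := hsub hp hps
    obtain ⟨k, hk⟩ := hc _ _ hq1 hp1 hq2 hp2
    have hk' : ∀ i, 1 ≤ i → i ≤ n + 1 → k • q i = p i := fun i h1 h2 => by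
      have := hk (i - 1) (by omega)
      simp only [show 1 + (i - 1) = i by omega] at this
      exact this
    have ha : adj (p 1) (k • q 0) := by
      rw [← hk' 1 le_rfl (by omega)]
      exact A.smul k _ _ (A.symm _ _ (hq.step 0 (by omega)))
    have hg2 : g • p 2 = p 2 := hfix 1 hn
    have hg1 : g • p 1 = p 1 := hfix 0 (by omega)
    have ha2 := hp.step 1 (by omega)
    have ha0 := A.symm _ _ (hp.step 0 (by omega))
    have hag : adj (p 1) (g • p 0) := A.adj_smul_left ha0 (MulAction.mem_stabilizer_iff.2 hg1)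
    have hne : g • p 0 ≠ p 2 := fun e => hp.nobt 0 (by omega)
      (smul_left_cancel g (e.trans hg2.symm))
    have hk0 : k • q 0 ≠ p 2 := fun e => hq.nobt 0 (by omega)
      (smul_left_cancel k (e.trans (hk' 2 (by omega) (by omega)).symm))
    rcases A.nbr3 ha0 hag ha2 ha hmove.symm (hp.nobt 0 (by omega)) hne with e | e | e
    · refine ⟨k, fun i hi => ?_⟩
      rcases Nat.eq_zero_or_pos i with rfl | hpos
      · exact e
      · exact hk' i hpos hi
    · refine ⟨g⁻¹ * k, fun i hi => ?_⟩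
      rw [mul_smul, inv_smul_eq_iff]
      rcases Nat.eq_zero_or_pos i with rfl | hpos
      · exact e
      · rw [hk' i hpos hi]
        have := hfix (i - 1) (by omega)
        rw [show i - 1 + 1 = i by omega] at this
        exact this.symm
    · exact absurd e hk0
  intro f q hf hq hfs hqs
  obtain ⟨k, hk⟩ := hall f hf hfs
  obtain ⟨k', hk'⟩ := hall q hq hqs
  exact ⟨k'⁻¹ * k, fun i hi => by rw [mul_smul, hk i hi, inv_smul_eq_iff, hk' i hi]⟩

/-- Two movers at the two kinds of path ends make all short paths conjugate. -/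
theorem conj_both {N : ℕ} {pA pB : ℕ → V} (hA : IsPath adj N pA) (hB : IsPath adj N pB)
    (hAs : tA (pA 0)) (hBs : ¬ tA (pB 0)) {gA gB : G}
    (hgA : ∀ i, 1 ≤ i → i ≤ N → gA • pA i = pA i) (hgA0 : gA • pA 0 ≠ pA 0)
    (hgB : ∀ i, 1 ≤ i → i ≤ N → gB • pB i = pB i) (hgB0 : gB • pB 0 ≠ pB 0) :
    ∀ n, 1 ≤ n → n ≤ N → Conj G adj tA n True ∧ Conj G adj tA n False := by
  intro n hn
  induction n, hn using Nat.le_induction with
  | base => exact fun _ => ⟨A.conj_one _, A.conj_one _⟩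
  | succ n hn ih =>
    intro hN
    obtain ⟨ihT, ihF⟩ := ih (by omega)
    refine ⟨?_, ?_⟩
    · have h1 := A.conj_extend hn ihF (p := pA) (g := gA)
        ((hA.sub 0 (by omega : 0 + (n + 1) ≤ N)).congr fun i _ => by rw [zero_add])
        (by simpa using hAs) (fun i hi => hgA (i + 1) (by omega) (by omega)) hgA0
      simpa using h1
    · have h1 := A.conj_extend hn ihT (p := pB) (g := gB)
        ((hB.sub 0 (by omega : 0 + (n + 1) ≤ N)).congr fun i _ => by rw [zero_add])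
        (by simpa using hBs) (fun i hi => hgB (i + 1) (by omega) (by omega)) hgB0
      simpa using h1

theorem le_smul_iff (k : G) (u w : V) :
    zv G adj (k • u) ≤ Qs G (k • w) ↔ zv G adj u ≤ Qs G w := by
  rw [A.zv_smul, qs_smul]
  exact map_le_map_iff_of_injective (MulAut.conj k).injective

theorem crit_conj {n : ℕ} {s : Prop} (hc : Conj G adj tA n s) {f g : ℕ → V}
    (hf : IsPath adj n f) (hg : IsPath adj n g) (hfs : tA (f 0) ↔ s) (hgs : tA (g 0) ↔ s)
    (h : zv G adj (f 0) ≤ Qs G (f n)) : zv G adj (g 0) ≤ Qs G (g n) := by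
  obtain ⟨k, hk⟩ := hc f g hf hg hfs hgs
  rw [← hk 0 (by omega), ← hk n le_rfl, A.le_smul_iff]
  exact h

/-- A mover at the far end of a critical path between active vertices. -/
theorem mover_back {b : ℕ} (hb : Short1 G adj tA b) {f : ℕ → V} (hf : IsPath adj b f)
    (hA : tA (f 0)) (hA' : tA (f b)) (hc : ¬ zv G adj (f 0) ≤ Qs G (f b)) :
    ∃ z ∈ zv G adj (f b), z ∉ Qs G (f 0) := by
  by_contra! hall
  exact hc fun x hx => A.qs_cA hA' (A.path_gs hb hf hA (Nat.zero_le _) le_rfl (by omega) (by omega) hx)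
    (mem_centralizer_iff.2 fun z hz => (A.commute_qs (hall z hz) hx).eq)

/-- The commutator of a critical pair of active vertices lies in both first edges. -/
theorem crit_r {b : ℕ} (hb2 : 2 ≤ b) (hb : Short1 G adj tA b) {f : ℕ → V} (hf : IsPath adj b f)
    (hA : tA (f 0)) (hA' : tA (f b)) (hc : ¬ zv G adj (f 0) ≤ Qs G (f b)) :
    ∃ r ∈ zv G adj (f 1), r ∈ zv G adj (f (b - 1)) ∧ r ≠ 1 := by
  obtain ⟨z, hz, hz'⟩ := A.mover_back hb hf hA hA' hc
  obtain ⟨x, hx, hx'⟩ := SetLike.not_le_iff_exists.1 hc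
  have hzG : ∀ j, j ≤ b → z ∈ Gs G (f j) := fun j hj =>
    A.path_gs hb hf hA' le_rfl hj (by omega) (by omega) hz
  have hxG : ∀ j, j ≤ b → x ∈ Gs G (f j) := fun j hj =>
    A.path_gs hb hf hA (Nat.zero_le _) hj (by omega) (by omega) hx
  have h1 := hf.step 0 (by omega)
  have h2 : adj (f b) (f (b - 1)) := by
    have := hf.step (b - 1) (by omega)
    rw [show b - 1 + 1 = b by omega] at this
    exact A.symm _ _ this
  have hr0 : ⁅x, z⁆ ∈ zv G adj (f 0) := by
    rw [commutatorElement_def, mul_assoc x, mul_assoc x]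
    exact mul_mem hx ((mem_normalizer_iff.1 (A.zv_normal _ (hzG 0 (by omega))) _).1 (inv_mem hx))
  have hrb : ⁅x, z⁆ ∈ zv G adj (f b) := by
    rw [commutatorElement_def]
    exact mul_mem ((mem_normalizer_iff.1 (A.zv_normal _ (hxG b le_rfl)) z).1 hz) (inv_mem hz)
  refine ⟨⁅x, z⁆, A.mem_zvB_of_commute h1 hA ⟨hzG 0 (by omega), hzG 1 (by omega)⟩ hz' hr0
    (A.zv_commute hz hrb), A.mem_zvB_of_commute h2 hA' ⟨hxG b le_rfl, hxG (b - 1) (by omega)⟩ hx'
    hrb (A.zv_commute hx hr0), fun e => hx' ?_⟩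
  have hx1 : x ∈ zv G adj (f 1) := A.mem_zvB_of_commute h1 hA ⟨hzG 0 (by omega), hzG 1 (by omega)⟩
    hz' hx (commutatorElement_eq_one_iff_commute.1 e).symm
  have hA2 : tA (f 2) := (A.tA_path hf (by omega)).2 (iff_of_true hA ⟨1, rfl⟩)
  exact A.path_qs hb hf hA2 (by omega) le_rfl (by omega) (by omega)
    (A.zvB_le (A.symm _ _ (hf.step 1 (by omega))) hA2 hx1)

/-- The kernel used for the bound in distance one. -/
theorem bound_one (hb : Short1 G adj tA 1) {f : ℕ → V} (hf : IsPath adj 1 f) (hA : tA (f 0))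
    (hc : ¬ zv G adj (f 0) ≤ Qs G (f 1)) {a β : V} (ha : tA a) (hβ : adj a β) :
    Nat.card ↥(Gs G a ⊓ Gs G β) ≤ 128 := by
  have hnc : ∀ {u w : V}, tA u → adj u w → ¬ zv G adj u ≤ Qs G w := fun {u w} hu huw hle => by
    have hp : IsPath adj 1 (fun i => if i = 0 then u else w) :=
      ⟨fun i hi => by obtain rfl : i = 0 := by omega
                      simpa using huw, fun i hi => absurd hi (by omega)⟩
    exact hc (A.crit_conj (A.conj_one True) hp hf (iff_of_true (by simpa using hu) trivial)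
      (iff_of_true hA trivial) (by simpa using hle))
  have hH : ∀ {α δ : V}, tA α → adj α δ → ∀ {h : G}, h ∈ zv G adj α → h ∈ Qs G δ →
      h ∈ zv G adj δ := by
    intro α δ hα hd h hh hhQ
    have hδ := A.tA_not hd hα
    obtain ⟨α', hα', hne⟩ := A.exists_other (A.symm _ _ hd)
    have hα'A : tA α' := A.tA_of_not hα' hδ
    obtain ⟨z, hz, hz'⟩ := SetLike.not_le_iff_exists.1 (hnc hα'A (A.symm _ _ hα'))
    have hzG : z ∈ Gs G δ ⊓ Gs G α' :=
      ⟨A.push1 hb le_rfl hα'A (walk_one (A.symm _ _ hα')) hz, A.zv_le_gs α' hz⟩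
    obtain ⟨hmove, -⟩ := A.smul_ne hα' (A.symm _ _ hd) hne hzG hz'
    have hh2 := A.sq_one hh
    have hhT : h ∈ Gs G α' ⊓ Gs G δ :=
      ⟨(A.qs_le_edge hα' hhQ).2, (A.qs_le_edge hα' hhQ).1⟩
    have hc1 : ⁅h, z⁆ ∈ zv G adj δ := by
      by_cases hq : h ∈ Qs G α'
      · rw [commutatorElement_eq_one_iff_commute.2 (A.commute_qs hq hz)]; exact one_mem _
      have hhz : h * z * h⁻¹ ∈ zv G adj α' := (mem_normalizer_iff.1 (A.zv_normal _ hhT.1) z).1 hz
      have hcm : ⁅h, z⁆ ∈ zv G adj α' := by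
        rw [commutatorElement_def]; exact mul_mem hhz (inv_mem hz)
      refine A.mem_zvB_of_commute (A.symm _ _ hα') hα'A hhT hq hcm (mul_inv_eq_iff_eq_mul.1 ?_)
      rw [commutatorElement_def, show h * (h * z * h⁻¹ * z⁻¹) * h⁻¹ =
        (h * h) * z * (h * h)⁻¹ * (h * z * h⁻¹)⁻¹ by group, hh2, inv_one, one_mul, mul_one,
        A.inv_eq hhz, A.inv_eq hz]
      exact (A.zv_commute hhz hz).eq.symm
    have hmem : z * h * z⁻¹ ∈ zv G adj α := by
      rw [show z * h * z⁻¹ = ⁅h, z⁆⁻¹ * h by rw [commutatorElement_def]; group]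
      exact mul_mem (inv_mem (A.zvB_le hd hα hc1)) hh
    have hY : z * h * z⁻¹ ∈ zv G adj δ := A.zv_inter hδ (A.symm _ _ hd)
      (A.adj_smul_left (A.symm _ _ hd) hzG.1) hmove.symm hmem
      (by rw [A.zv_smul]; exact ⟨h, hh, rfl⟩)
    have := mem_centralizer_iff.1 (A.centralB' hδ hzG.1) _ hY
    rwa [show h = z * h * z⁻¹ from by
      calc h = z⁻¹ * ((z * h * z⁻¹) * z) := by group
        _ = z⁻¹ * (z * (z * h * z⁻¹)) := by rw [this]
        _ = z * h * z⁻¹ := by group]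
  obtain ⟨δ, hδ, hne⟩ := A.exists_other hβ
  obtain ⟨t, ht, ht'⟩ := A.exists_edge_not_qs hβ
  obtain ⟨hn1, hn2⟩ := A.smul_ne hβ hδ hne.symm ht ht'
  set δ' := t • δ with hδ'd
  have hδ' : adj a δ' := A.adj_smul_left hδ ht.1
  set K : Subgroup G := Qs G a ⊓ Qs G δ ⊓ Qs G δ' with hK
  have hKbot : K = ⊥ := by
    by_contra hne0
    have hKn : Gs G a ⊓ Gs G β ≤ normalizer (K : Set G) := by
      intro g hg
      rw [mem_normalizer_iff_map_conj_eq]
      show cj g K = K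
      rw [hK, SfFree.cj_inf, SfFree.cj_inf, ← qs_smul, ← qs_smul, ← qs_smul,
        MulAction.mem_stabilizer_iff.1 hg.1]
      have e1 := A.nbr3 hβ hδ hδ' (A.adj_smul_left hδ hg.1) hne.symm hn2.symm hn1.symm
      have e2 := A.nbr3 hβ hδ hδ' (A.adj_smul_left hδ' hg.1) hne.symm hn2.symm hn1.symm
      have hgb : g • β = β := MulAction.mem_stabilizer_iff.1 hg.2
      have hne3 : g • δ ≠ g • δ' := fun e => hn1 (smul_left_cancel g e).symm
      rcases e1.resolve_left (fun e => hne (smul_left_cancel g (e.trans hgb.symm))) with e1 | e1 <;>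
        rcases e2.resolve_left (fun e => hn2 (smul_left_cancel g (e.trans hgb.symm))) with e2 | e2
      · exact absurd (e1.trans e2.symm) hne3
      · rw [e1, e2]
      · rw [e1, e2]; exact inf_right_comm _ _ _
      · exact absurd (e1.trans e2.symm) hne3
    obtain ⟨y, hy, hye, hy1⟩ := A.tnorm hβ
      (show K ≤ _ from fun g hg => A.qs_le_edge hβ hg.1.1) hKn hne0
    rw [← A.zvB' hβ ha] at hye
    exact hy1 (A.yDisj hβ hδ hne.symm ha hye (hH ha hδ (A.zvB_le hβ ha hye) hy.1.2))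
  have := A.fin a
  have := A.finite_sub (qs_le (G := G) a)
  have hle1 := A.relIndex_qs_le (A.symm _ _ hδ) (H := Qs G a)
    (fun g hg => ⟨(A.qs_le_edge hδ hg).2, (A.qs_le_edge hδ hg).1⟩)
  have hle2 := A.relIndex_qs_le (A.symm _ _ hδ') (H := Qs G a)
    (fun g hg => ⟨(A.qs_le_edge hδ' hg).2, (A.qs_le_edge hδ' hg).1⟩)
  have h4 : (Qs G δ ⊓ Qs G δ').relIndex (Qs G a) ≤ 4 :=
    relIndex_inf_le.trans (Nat.mul_le_mul hle1 hle2)
  rw [← inf_relIndex_left, ← inf_assoc, ← hK, hKbot, relIndex_bot_left] at h4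
  rw [A.card_edge hβ]
  omega

/-- The bound in distance two. -/
theorem bound_two (hb : Short1 G adj tA 2) {f : ℕ → V} (hf : IsPath adj 2 f) (hA : tA (f 0))
    (hc : ¬ zv G adj (f 0) ≤ Qs G (f 2)) {a β : V} (ha : tA a) (hβ : adj a β) :
    Nat.card ↥(Gs G a ⊓ Gs G β) ≤ 128 := by
  have hd : ¬ tA (f 1) := A.tA_not (hf.step 0 (by omega)) hA
  have n0 := A.symm _ _ (hf.step 0 (by omega))
  have n2 : adj (f 1) (f 2) := hf.step 1 (by omega)
  have h02 : f 0 ≠ f 2 := hf.nobt 0 le_rfl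
  have hnc' : ¬ zv G adj (f 2) ≤ Qs G (f 0) := fun hle =>
    hc fun x hx => A.qs_cA (A.tA_of_not n2 hd)
      (A.path_gs hb hf hA (Nat.zero_le _) le_rfl (by omega) (by omega) hx)
      (mem_centralizer_iff.2 fun z hz => (A.commute_qs (hle hz) hx).eq)
  have hall1 : ∀ u w, adj (f 1) u → adj (f 1) w → u ≠ w → ¬ zv G adj u ≤ Qs G w := by
    obtain ⟨q, hq, hq'⟩ := SetLike.not_le_iff_exists.1 (A.qs_ne (hf.step 0 (by omega)))
    have hqT : q ∈ Gs G (f 1) ⊓ Gs G (f 0) :=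
      ⟨(A.qs_le_edge (hf.step 0 (by omega)) hq).2, (A.qs_le_edge (hf.step 0 (by omega)) hq).1⟩
    obtain ⟨q2, hq2, hq2'⟩ := SetLike.not_le_iff_exists.1 (A.qs_ne (A.symm _ _ n2))
    have hq2T : q2 ∈ Gs G (f 1) ⊓ Gs G (f 2) :=
      ⟨(A.qs_le_edge (A.symm _ _ n2) hq2).2, (A.qs_le_edge (A.symm _ _ n2) hq2).1⟩
    obtain ⟨hne1, hne2⟩ := A.smul_ne n0 n2 h02 hqT hq'
    have h3 := A.third n2 n0 (A.adj_smul_left n2 hqT.1) h02.symm hne1 hne2 hq2T hq2'
    have e0 : q • f 0 = f 0 := MulAction.mem_stabilizer_iff.1 hqT.2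
    have e2 : q2 • f 2 = f 2 := MulAction.mem_stabilizer_iff.1 hq2T.2
    intro u w hu hw huw hle
    rcases A.nbr3 n0 n2 (A.adj_smul_left n2 hqT.1) hu h02 hne2.symm hne1.symm with rfl | rfl | rfl <;>
      rcases A.nbr3 n0 n2 (A.adj_smul_left n2 hqT.1) hw h02 hne2.symm hne1.symm with rfl | rfl | rfl
    all_goals try exact huw rfl
    · exact hc hle
    · exact hc ((A.le_smul_iff q _ _).1 (by rwa [e0]))
    · exact hnc' hle
    · exact hnc' ((A.le_smul_iff q2 _ _).1 (by rwa [e2, h3]))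
    · exact hnc' ((A.le_smul_iff q _ _).1 (by rwa [e0]))
    · exact hc ((A.le_smul_iff q2 _ _).1 (by rwa [e2, h3]))
  have hnc : ∀ {d u w : V}, ¬ tA d → adj d u → adj d w → u ≠ w → ¬ zv G adj u ≤ Qs G w := by
    intro d u w hd' hu hw huw hle
    obtain ⟨g, hg⟩ := A.orbit (iff_of_false hd' hd)
    exact hall1 (g • u) (g • w) (hg ▸ A.smul g _ _ hu) (hg ▸ A.smul g _ _ hw)
      (fun e => huw (smul_left_cancel g e)) ((A.le_smul_iff g u w).2 hle)
  let Kd : V → Subgroup G := fun d => Qs G d ⊓ ⨅ w : {w : V // adj d w ∧ w ≠ a}, Qs G (w : V)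
  let K : Subgroup G := Qs G a ⊓ ⨅ d : {d : V // adj a d ∧ d ≠ β}, Kd (d : V)
  have hmemK : ∀ {p : G}, p ∈ K ↔ p ∈ Qs G a ∧ ∀ d, adj a d → d ≠ β →
      p ∈ Qs G d ∧ ∀ w, adj d w → w ≠ a → p ∈ Qs G w := fun {p} => by
    simp only [K, Kd, Subgroup.mem_inf, Subgroup.mem_iInf]
    exact ⟨fun h => ⟨h.1, fun d h1 h2 => ⟨(h.2 ⟨d, h1, h2⟩).1,
      fun w h3 h4 => (h.2 ⟨d, h1, h2⟩).2 ⟨w, h3, h4⟩⟩⟩,
      fun h => ⟨h.1, fun d => ⟨(h.2 d d.2.1 d.2.2).1, fun w => (h.2 d d.2.1 d.2.2).2 w w.2.1 w.2.2⟩⟩⟩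
  obtain ⟨δ, hδ, hne⟩ := A.exists_other hβ
  obtain ⟨t, ht, ht'⟩ := A.exists_edge_not_qs hβ
  obtain ⟨hn1, hn2⟩ := A.smul_ne hβ hδ hne.symm ht ht'
  set δ' := t • δ with hδ'd
  have hδ' : adj a δ' := A.adj_smul_left hδ ht.1
  have hKbot : K = ⊥ := by
    by_contra hne0
    have hKn : Gs G a ⊓ Gs G β ≤ normalizer (K : Set G) := by
      have key : ∀ g ∈ Gs G a ⊓ Gs G β, ∀ p ∈ K, g * p * g⁻¹ ∈ K := by
        intro g hg p hp
        have hga : g⁻¹ • a = a := inv_smul_eq_iff.2 (MulAction.mem_stabilizer_iff.1 hg.1).symm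
        have hgb : g⁻¹ • β = β := inv_smul_eq_iff.2 (MulAction.mem_stabilizer_iff.1 hg.2).symm
        obtain ⟨h1, h2⟩ := hmemK.1 hp
        have hQ : ∀ v : V, p ∈ Qs G (g⁻¹ • v) → g * p * g⁻¹ ∈ Qs G v := fun v hv => by
          have e := qs_smul g (g⁻¹ • v)
          rw [smul_inv_smul] at e
          rw [e]
          exact ⟨p, hv, rfl⟩
        refine hmemK.2 ⟨hQ a (by rwa [hga]), fun d hd hdb => ?_⟩
        have hd2 : adj a (g⁻¹ • d) := by
          have := A.smul g⁻¹ _ _ hd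
          rwa [hga] at this
        have hdb2 : g⁻¹ • d ≠ β := fun e => hdb (smul_left_cancel g⁻¹ (e.trans hgb.symm))
        obtain ⟨h3, h4⟩ := h2 _ hd2 hdb2
        exact ⟨hQ d h3, fun w hw hwa => hQ w (h4 _ (A.smul g⁻¹ _ _ hw)
          (fun e => hwa (smul_left_cancel g⁻¹ (e.trans hga.symm))))⟩
      refine fun g hg => mem_normalizer_iff.2 fun p => ⟨key g hg p, fun hp => ?_⟩
      have := key _ ((Gs G a ⊓ Gs G β).inv_mem hg) _ hp
      simpa [mul_assoc] using this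
    obtain ⟨y, hy, hye, hy1⟩ := A.tnorm hβ
      (fun g hg => A.qs_le_edge hβ (hmemK.1 hg).1) hKn hne0
    rw [← A.zvB' hβ ha] at hye
    obtain ⟨γ, hγ, hγne⟩ := A.exists_other (A.symm _ _ hδ)
    have hδB := A.tA_not hδ ha
    have hγA := A.tA_of_not hγ hδB
    obtain ⟨z, hz, hz'⟩ := SetLike.not_le_iff_exists.1 (hnc hδB hγ (A.symm _ _ hδ) hγne)
    have hzT : z ∈ Gs G a ⊓ Gs G δ :=
      ⟨A.push1 hb le_rfl hγA (walk_cons (A.symm _ _ hγ) (walk_one (A.symm _ _ hδ))) hz,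
       A.push1 hb (by omega) hγA (walk_one (A.symm _ _ hγ)) hz⟩
    have hyQ : y ∈ Qs G γ := ((hmemK.1 hy).2 δ hδ hne).2 γ hγ hγne
    exact hy1 (A.yDisj hβ hδ hne.symm ha hye (A.mem_zvB_of_commute hδ ha hzT hz'
      (A.zvB_le hβ ha hye) (A.commute_qs hyQ hz).symm))
  obtain ⟨γ, hγ, hγne⟩ := A.exists_other (A.symm _ _ hδ)
  obtain ⟨γ', hγ', hγne'⟩ := A.exists_other (A.symm _ _ hδ')
  obtain ⟨s, hs, hs'⟩ := A.exists_edge_not_qs (A.symm _ _ hδ)
  obtain ⟨hs1, hs2⟩ := A.smul_ne (A.symm _ _ hδ) hγ hγne.symm hs hs'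
  obtain ⟨s', hs3, hs3'⟩ := A.exists_edge_not_qs (A.symm _ _ hδ')
  obtain ⟨hs4, hs5⟩ := A.smul_ne (A.symm _ _ hδ') hγ' hγne'.symm hs3 hs3'
  have hγ2 := A.adj_smul_left hγ hs.1
  have hγ2' := A.adj_smul_left hγ' hs3.1
  set H2 : Subgroup G := Qs G a ⊓ (Qs G δ ⊓ Qs G δ') with hH2
  set M : Subgroup G := (Qs G γ ⊓ Qs G (s • γ)) ⊓ (Qs G γ' ⊓ Qs G (s' • γ')) with hM
  have hsub : H2 ⊓ M ≤ K := by
    rintro p ⟨⟨hpa, hpd, hpd'⟩, ⟨hp1, hp2⟩, hp3, hp4⟩
    refine hmemK.2 ⟨hpa, fun d hd hdb => ?_⟩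
    rcases (A.nbr3 hβ hδ hδ' hd hne.symm hn2.symm hn1.symm).resolve_left hdb with rfl | rfl
    · refine ⟨hpd, fun w hw hwa => ?_⟩
      rcases (A.nbr3 (A.symm _ _ hδ) hγ hγ2 hw hγne.symm hs2.symm hs1.symm).resolve_left hwa
        with rfl | rfl
      exacts [hp1, hp2]
    · refine ⟨hpd', fun w hw hwa => ?_⟩
      rcases (A.nbr3 (A.symm _ _ hδ') hγ' hγ2' hw hγne'.symm hs5.symm hs4.symm).resolve_left hwa
        with rfl | rfl
      exacts [hp3, hp4]
  have := A.finite_sub (qs_le (G := G) a)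
  have hle1 := A.relIndex_qs_le (A.symm _ _ hδ) (H := Qs G a)
    (fun g hg => ⟨(A.qs_le_edge hδ hg).2, (A.qs_le_edge hδ hg).1⟩)
  have hle2 := A.relIndex_qs_le (A.symm _ _ hδ') (H := Qs G a)
    (fun g hg => ⟨(A.qs_le_edge hδ' hg).2, (A.qs_le_edge hδ' hg).1⟩)
  have h4 : H2.relIndex (Qs G a) ≤ 4 := by
    rw [hH2, inf_relIndex_left]
    exact relIndex_inf_le.trans (Nat.mul_le_mul hle1 hle2)
  have hQ : ∀ {d w : V}, adj d w → H2 ≤ Qs G d → (Qs G w).relIndex H2 ≤ 2 := fun {d w} h hle =>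
    A.relIndex_qs_le (A.symm _ _ h) fun g hg =>
      ⟨(A.qs_le_edge h (hle hg)).2, (A.qs_le_edge h (hle hg)).1⟩
  have hd1 : H2 ≤ Qs G δ := inf_le_right.trans inf_le_left
  have hd2 : H2 ≤ Qs G δ' := inf_le_right.trans inf_le_right
  have h16 : M.relIndex H2 ≤ 2 * 2 * (2 * 2) :=
    relIndex_inf_le.trans (Nat.mul_le_mul
      (relIndex_inf_le.trans (Nat.mul_le_mul (hQ hγ hd1) (hQ hγ2 hd1)))
      (relIndex_inf_le.trans (Nat.mul_le_mul (hQ hγ' hd2) (hQ hγ2' hd2))))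
  rw [← inf_relIndex_left, le_bot_iff.1 (hsub.trans hKbot.le), relIndex_bot_left] at h16
  have e := Coprime.card_mul_relIndex_of_le (show H2 ≤ Qs G a from inf_le_left)
  rw [A.card_edge hβ]
  have := Nat.mul_le_mul h16 h4
  omega

theorem no_even (b : ℕ) (h4 : 4 ≤ b) (hb : Short1 G adj tA b) {f : ℕ → V} (hf : IsPath adj b f)
    (hA : tA (f 0)) (heven : Even b) (hc : ¬ zv G adj (f 0) ≤ Qs G (f b)) : False := by
  have hAi : ∀ {i}, i ≤ b → (tA (f i) ↔ Even i) := fun {i} hi => by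
    rw [A.tA_path hf hi]; simp [hA]
  have hA2 : tA (f (b - 2)) := by
    rw [hAi (by omega), Nat.even_sub (by omega)]; simp [heven]
  have hAb : tA (f b) := (hAi le_rfl).2 heven
  have h1 := hf.step 0 (by omega)
  have hcd : adj (f (b - 2)) (f (b - 1)) := by
    have := hf.step (b - 2) (by omega)
    rwa [show b - 2 + 1 = b - 1 by omega] at this
  have hcb : adj (f (b - 1)) (f b) := by
    have := hf.step (b - 1) (by omega)
    rwa [show b - 1 + 1 = b by omega] at this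
  obtain ⟨δ, hδ, hne⟩ := A.exists_other h1
  have hδB := A.tA_not hδ hA
  have hpath : ∀ {γ}, adj δ γ → γ ≠ f 0 →
      IsPath adj b (fun i => if i = 0 then γ else if i = 1 then δ else f (i - 2)) := by
    intro γ hγ hγne
    have h2 := ((hf.sub 0 (by omega : 0 + (b - 2) ≤ b)).cons (v := δ)
      (by simpa using A.symm _ _ hδ) (fun _ => by simpa using hne)).cons (v := γ)
      (by simpa using A.symm _ _ hγ) (fun _ => by simpa using hγne)
    rw [show b - 2 + 1 + 1 = b by omega] at h2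
    refine h2.congr fun i _ => ?_
    by_cases h0 : i = 0
    · simp [h0]
    by_cases h1 : i = 1
    · simp [h1]
    simp [h0, h1, show i - 1 ≠ 0 by omega, show i - 1 - 1 = i - 2 by omega]
  have hnon : ∀ γ, adj δ γ → zv G adj γ ≤ Qs G (f (b - 2)) := by
    intro γ hγ
    by_cases hγ0 : γ = f 0
    · rw [hγ0]; exact A.path_qs hb hf hA (Nat.zero_le _) (by omega) (by omega) (by omega)
    by_contra hnc
    obtain ⟨r, hr1, hr2, hr0⟩ := A.crit_r (by omega) hb (hpath hγ hγ0)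
      (by simpa using A.tA_of_not hγ hδB)
      (by simpa [show b ≠ 0 by omega, show b ≠ 1 by omega] using hA2)
      (by simpa [show b ≠ 0 by omega, show b ≠ 1 by omega] using hnc)
    simp only [show (1:ℕ) ≠ 0 by omega, if_false, if_true, show b - 1 ≠ 0 by omega,
      show b - 1 ≠ 1 by omega, show b - 1 - 2 = b - 3 by omega] at hr1 hr2
    obtain ⟨z, hz, hz'⟩ := A.mover_back hb hf hA hAb hc
    have hr3 : r ∈ zv G adj (f (b - 2)) := by
      have := hf.step (b - 3) (by omega)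
      rw [show b - 3 + 1 = b - 2 by omega] at this
      exact A.zvB_le (A.symm _ _ this) hA2 hr2
    refine hr0 (A.yDisj hδ h1 hne hA hr1 (A.mem_zvB_of_commute h1 hA ?_ hz'
      (A.zvB_le hδ hA hr1) ?_))
    · exact ⟨A.path_gs hb hf hAb le_rfl (by omega) (by omega) (by omega) hz,
        A.path_gs hb hf hAb le_rfl (by omega) (by omega) (by omega) hz⟩
    · exact (A.comm1 hb (n := 2) (by omega) hA2
        (walk_cons hcd (walk_one hcb)) hr3 hz).symm
  obtain ⟨z, hz, hz'⟩ := A.mover_back hb hf hA hAb hc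
  obtain ⟨x, hx, hx'⟩ := SetLike.not_le_iff_exists.1 hc
  have hzG : ∀ j, j ≤ b → z ∈ Gs G (f j) := fun j hj =>
    A.path_gs hb hf hAb le_rfl hj (by omega) (by omega) hz
  have hzT : z ∈ Gs G (f 0) ⊓ Gs G (f 1) := ⟨hzG 0 (by omega), hzG 1 (by omega)⟩
  obtain ⟨hmove, -⟩ := A.smul_ne h1 hδ hne.symm hzT hz'
  obtain ⟨γ, hγ, m, hm, hm'⟩ : ∃ γ, adj δ γ ∧ ∃ m ∈ zv G adj γ, m ∉ Qs G (f (b - 1)) := by
    by_contra! hall
    set U := ⨆ w : {w : V // adj δ w}, zv G adj (w : V) with hU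
    have hUmem : ∀ {w : V}, adj δ w → zv G adj w ≤ U := fun {w} hw =>
      le_iSup (fun w : {w : V // adj δ w} => zv G adj (w : V)) ⟨w, hw⟩
    have hUT : U ≤ Gs G δ ⊓ Gs G (f 0) := iSup_le fun w =>
      (hb 1 (w : V) δ (by omega) (A.tA_of_not w.2 hδB) (walk_one (A.symm _ _ w.2))).trans
        (A.qs_le_edge (A.symm _ _ hδ))
    have hUn : Gs G δ ≤ normalizer (U : Set G) := by
      have key : ∀ g ∈ Gs G δ, cj g U ≤ U := fun g hg => by
        show Subgroup.map _ _ ≤ _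
        rw [hU, Subgroup.map_iSup]
        refine iSup_le fun w => ?_
        show cj g (zv G adj (w : V)) ≤ _
        rw [← A.zv_smul]
        exact hUmem (A.adj_smul_left w.2 hg)
      refine fun g hg => mem_normalizer_iff.2 fun y => ⟨fun hy => key g hg ⟨y, hy, rfl⟩,
        fun hy => ?_⟩
      have h3 := key g⁻¹ ((Gs G δ).inv_mem hg) ⟨_, hy, rfl⟩
      simpa [mul_assoc] using h3
    have hcm : ∀ {w : V}, adj δ w → ∀ y ∈ zv G adj w, z * y * z⁻¹ ∈ U := by
      intro w hw y hy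
      have h2 := A.qs_le_edge hcb (hall w hw y hy)
      have hcr : ⁅y, z⁆ ∈ zv G adj (f 0) := by
        rcases A.comm_absorb (A.symm _ _ hcb) (s := x)
          ⟨A.path_gs hb hf hA (Nat.zero_le _) le_rfl (by omega) (by omega) hx,
           A.path_gs hb hf hA (Nat.zero_le _) (by omega) (by omega) (by omega) hx⟩
          hx' ⟨h2.2, h2.1⟩ hz with e | e
        · rw [e]; exact one_mem _
        · rw [e, commutatorElement_def, mul_assoc x, mul_assoc x]
          exact mul_mem hx ((mem_normalizer_iff.1 (A.zv_normal _ hzT.1) _).1 (inv_mem hx))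
      rw [show z * y * z⁻¹ = ⁅y, z⁆⁻¹ * y by rw [commutatorElement_def]; group]
      exact mul_mem (inv_mem (hUmem (A.symm _ _ hδ) hcr)) (hUmem hw hy)
    have hzU : z ∈ normalizer (U : Set G) := by
      refine mem_normalizer_of_invol (A.sq_one hz) fun y hy => ?_
      have h5 : cj z U ≤ U := by
        show Subgroup.map _ _ ≤ _
        rw [hU, Subgroup.map_iSup]
        refine iSup_le fun w => ?_
        rintro _ ⟨p, hp, rfl⟩
        exact hcm w.2 p hp
      exact h5 ⟨y, hy, rfl⟩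
    have hUa : Gs G (f 0) ≤ normalizer (U : Set G) :=
      A.le_of_edge hδ (fun g hg => hUn hg.2) hzT.1 hmove hzU
    obtain ⟨y, hy, hy1⟩ := A.ze_ne_bot h1
    have hU0 := A.faith δ (f 0) (A.symm _ _ hδ) U hUT hUn hUa
    exact hy1 (Subgroup.mem_bot.1 (hU0.le (hUmem (A.symm _ _ hδ) (ze_le_zv h1 hy))))
  have hγne : γ ≠ f 0 := fun e => hm'
    (A.path_qs hb hf hA (Nat.zero_le _) (by omega) (by omega) (by omega) (e ▸ hm))
  have hmT : m ∈ Gs G (f (b - 1)) ⊓ Gs G (f (b - 2)) :=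
    ⟨(A.qs_le_edge hcd (hnon γ hγ hm)).2, qs_le _ (hnon γ hγ hm)⟩
  have hmb : m • f b ≠ f b := by
    refine (A.smul_ne (A.symm _ _ hcd) hcb ?_ hmT hm').1
    have := hf.nobt (b - 2) (by omega)
    rwa [show b - 2 + 2 = b by omega] at this
  have hγp := hpath hγ hγne
  have hγA : tA γ := A.tA_of_not hγ hδB
  have hmfix : ∀ j, j ≤ b → m ∈ Gs G (if j = 0 then γ else if j = 1 then δ else f (j - 2)) :=
    fun j hj => A.path_gs hb hγp (i := 0) (by simpa using hγA) (Nat.zero_le _) hj (by omega)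
      (by omega) (by simpa using hm)
  have hpB : IsPath adj (b + 1) (fun i => if i = 0 then δ else f (i - 1)) :=
    hf.cons (A.symm _ _ hδ) (fun _ => hne)
  have hpA : IsPath adj (b + 1) (fun i => if i ≤ b then f (b - i) else δ) := by
    refine ⟨fun i hi => ?_, fun i hi => ?_⟩
    · rcases Nat.lt_or_ge i b with hlt | hge
      · have := hf.step (b - (i + 1)) (by omega)
        rw [show b - (i + 1) + 1 = b - i by omega] at this
        simpa [show i ≤ b by omega, show i + 1 ≤ b by omega] using A.symm _ _ this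
      · obtain rfl : i = b := by omega
        simpa using hδ
    · rcases Nat.lt_or_ge (i + 1) b with hlt | hge
      · have := hf.nobt (b - (i + 2)) (by omega)
        rw [show b - (i + 2) + 2 = b - i by omega] at this
        simpa [show i ≤ b by omega, show i + 2 ≤ b by omega] using this.symm
      · simpa [show i ≤ b by omega, show ¬ (i + 2 ≤ b) by omega, show b - i = 1 by omega] using
          hne.symm
  obtain ⟨hcA, -⟩ := A.conj_both hpA hpB (by simpa using hAb) (by simpa using hδB)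
    (gA := m) (gB := z)
    (fun i h1' h2 => by
      refine MulAction.mem_stabilizer_iff.1 ?_
      by_cases hib : i ≤ b
      · simp only [hib, if_true]
        by_cases h1i : i = 1
        · subst h1i; exact hmT.1
        · have := hmfix (b - i + 2) (by omega)
          simpa [show b - i + 2 ≠ 0 by omega, show b - i + 2 ≠ 1 by omega] using this
      · simp only [hib, if_false]
        simpa using hmfix 1 (by omega))
    (by simpa using hmb)
    (fun i h1' h2 => by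
      simpa [show i ≠ 0 by omega] using MulAction.mem_stabilizer_iff.1 (hzG (i - 1) (by omega)))
    (by simpa using hmove) b (by omega) (by omega)
  refine hc (A.crit_conj hcA hγp hf (iff_of_true (by simpa using hγA) trivial)
    (iff_of_true hA trivial) ?_)
  simpa [show b ≠ 0 by omega, show b ≠ 1 by omega] using hnon γ hγ

end Gold

end Cfsg.Agent.S4Amal
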