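import Cfsg.Agent.S4Amalgam.GoldThree

/-!
# The edge bound
-/

set_option autoImplicit false

namespace Cfsg.Agent.S4Amal

open Subgroup

variable {G : Type*} [Group G] {V : Type*} [MulAction G V] {adj : V → V → Prop} {tA : V → Prop}

namespace Gold

open AmalB

variable (A : Gold G adj tA)
include A

/-- Edge groups have order at most `2 ^ 7`. -/
theorem card_edge_le {a β : V} (ha : tA a) (hβ : adj a β) :
    Nat.card ↥(Gs G a ⊓ Gs G β) ≤ 128 := by
  obtain ⟨b, h1, hb, f, hf, hA, hc⟩ := A.exists_crit a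
  rcases (show b = 1 ∨ b = 2 ∨ 3 ≤ b by omega) with rfl | rfl | h3
  · exact A.bound_one hb hf hA hc ha hβ
  · exact A.bound_two hb hf hA hc ha hβ
  rcases Nat.even_or_odd b with he | ho
  · exact (A.no_even b (by obtain ⟨k, rfl⟩ := he; omega) hb hf hA he hc).elim
  obtain ⟨m, rfl⟩ : ∃ m, b = m + 1 := ⟨b - 1, by omega⟩
  obtain ⟨v, hv, hne⟩ := A.exists_other (A.symm _ _ (hf.step m (by omega)))
  let g : ℕ → V := fun i => if i ≤ m + 1 then f i else v
  have hg : Conf G adj tA (m + 1) g := by
    refine ⟨⟨fun i hi => ?_, fun i hi => ?_⟩, by simpa [g] using hA, by simpa [g] using hc⟩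
    · rcases Nat.lt_or_ge i (m + 1) with hlt | hge
      · simpa [g, show i ≤ m + 1 by omega, show i + 1 ≤ m + 1 by omega, show i ≤ m by omega]
          using hf.step i hlt
      · obtain rfl : i = m + 1 := by omega
        simpa [g] using hv
    · rcases Nat.lt_or_ge (i + 1) (m + 1) with hlt | hge
      · simpa [g, show i ≤ m + 1 by omega, show i + 2 ≤ m + 1 by omega, show i + 1 ≤ m by omega]
          using hf.nobt i hlt
      · obtain rfl : i = m := by omega
        simpa [g] using hne.symm
  rcases (show m + 1 = 3 ∨ 5 ≤ m + 1 by obtain ⟨k, hk⟩ := ho; omega) with e | h5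
  · obtain rfl : m = 2 := by omega
    exact A.bound_three hb hg ha hβ
  · exact (A.no_five hb ho h5 hg).elim

end Gold

end Cfsg.Agent.S4Amal
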