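import Cfsg.Agent.S4Amalgam.GoldLow

/-!
# Odd critical distance
-/

set_option autoImplicit false

namespace Cfsg.Agent.S4Amal

open Subgroup
open scoped commutatorElement
open SfFree (cj)

variable {G : Type*} [Group G] {V : Type*} [MulAction G V] {adj : V → V → Prop} {tA : V → Prop}

/-- A critical path from an active vertex, extended by one step. -/
structure Conf (G : Type*) [Group G] [MulAction G V] (adj : V → V → Prop) (tA : V → Prop) (b : ℕ)
    (f : ℕ → V) : Prop where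
  path : IsPath adj (b + 1) f
  hA : tA (f 0)
  crit : ¬ zv G adj (f 0) ≤ Qs G (f b)

/-- The reversed path. -/
def rev (n : ℕ) (f : ℕ → V) : ℕ → V := fun i => f (n - i)

/-- Prepend a vertex. -/
def pcons (v : V) (f : ℕ → V) : ℕ → V
  | 0 => v
  | i + 1 => f i

theorem IsPath.reverse (A : AmalB G adj) {n : ℕ} {f : ℕ → V} (h : IsPath adj n f) :
    IsPath adj n (rev n f) := by
  refine ⟨fun i hi => ?_, fun i hi => ?_⟩
  · have := h.step (n - (i + 1)) (by omega)
    rw [show n - (i + 1) + 1 = n - i by omega] at this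
    exact A.symm _ _ this
  · have := h.nobt (n - (i + 2)) (by omega)
    rw [show n - (i + 2) + 2 = n - i by omega] at this
    exact this.symm

theorem IsPath.pcons {n : ℕ} {f : ℕ → V} (h : IsPath adj n f) {v : V} (hv : adj v (f 0))
    (hne : 1 ≤ n → v ≠ f 1) : IsPath adj (n + 1) (pcons v f) :=
  (h.cons hv hne).congr fun i _ => by cases i <;> rfl

/-- The join of the active `Z`'s at a vertex. -/
abbrev vv (G : Type*) [Group G] [MulAction G V] (adj : V → V → Prop) (δ : V) : Subgroup G :=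
  ⨆ w : {w : V // adj δ w}, zv G adj (w : V)

/-- The join of the `vv`'s around a vertex. -/
abbrev ww (G : Type*) [Group G] [MulAction G V] (adj : V → V → Prop) (α : V) : Subgroup G :=
  ⨆ d : {d : V // adj α d}, vv G adj (d : V)

namespace Gold

open AmalB

variable (A : Gold G adj tA)
include A

omit A in
theorem zv_le_vv {δ w : V} (h : adj δ w) : zv G adj w ≤ vv G adj δ :=
  le_iSup (fun w : {w : V // adj δ w} => zv G adj (w : V)) ⟨w, h⟩

omit A in
theorem vv_le_ww {α δ : V} (h : adj α δ) : vv G adj δ ≤ ww G adj α :=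
  le_iSup (fun d : {d : V // adj α d} => vv G adj (d : V)) ⟨δ, h⟩

theorem vv_smul (g : G) (δ : V) : vv G adj (g • δ) = cj g (vv G adj δ) := by
  have key : ∀ (g : G) (δ : V), cj g (vv G adj δ) ≤ vv G adj (g • δ) := fun g δ => by
    show Subgroup.map _ _ ≤ _
    rw [Subgroup.map_iSup]
    refine iSup_le fun w => ?_
    show cj g (zv G adj (w : V)) ≤ _
    rw [← A.zv_smul]
    exact zv_le_vv (A.smul g _ _ w.2)
  refine le_antisymm (fun x hx => ?_) (key g δ)
  have := key g⁻¹ (g • δ) ⟨x, hx, rfl⟩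
  rw [inv_smul_smul] at this
  exact ⟨_, this, by show g * (g⁻¹ * x * g⁻¹⁻¹) * g⁻¹ = x; group⟩

theorem ww_smul (g : G) (α : V) : ww G adj (g • α) = cj g (ww G adj α) := by
  have key : ∀ (g : G) (α : V), cj g (ww G adj α) ≤ ww G adj (g • α) := fun g α => by
    show Subgroup.map _ _ ≤ _
    rw [Subgroup.map_iSup]
    refine iSup_le fun d => ?_
    show cj g (vv G adj (d : V)) ≤ _
    rw [← A.vv_smul]
    exact vv_le_ww (A.smul g _ _ d.2)
  refine le_antisymm (fun x hx => ?_) (key g α)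
  have := key g⁻¹ (g • α) ⟨x, hx, rfl⟩
  rw [inv_smul_smul] at this
  exact ⟨_, this, by show g * (g⁻¹ * x * g⁻¹⁻¹) * g⁻¹ = x; group⟩

theorem tA_even {b : ℕ} {f : ℕ → V} (h : Conf G adj tA b f) {i : ℕ} (hi : i ≤ b + 1) :
    tA (f i) ↔ Even i := by
  rw [A.tA_path h.path hi]; simp [h.hA]

theorem full_of_mover {b : ℕ} (hb : Short1 G adj tA b) (hodd : Odd b) {f : ℕ → V}
    (h : Conf G adj tA b f) {p : ℕ → V} (hp : IsPath adj (b + 1) p) (hp0 : ¬ tA (p 0)) {g : G}
    (hfix : ∀ i, 1 ≤ i → i ≤ b + 1 → g • p i = p i) (hmove : g • p 0 ≠ p 0) :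
    ∀ n, 1 ≤ n → n ≤ b + 1 → Conj G adj tA n True ∧ Conj G adj tA n False := by
  obtain ⟨x, hx, hx'⟩ := SetLike.not_le_iff_exists.1 h.crit
  have hb1 : 1 ≤ b := hodd.pos
  have hxG : ∀ j, j ≤ b → x ∈ Gs G (f j) := fun j hj =>
    A.path_gs hb h.path h.hA (Nat.zero_le _) (by omega) (by omega) (by omega) hx
  have h1 := h.path.step (b - 1) (by omega)
  rw [show b - 1 + 1 = b by omega] at h1
  have h3 := h.path.nobt (b - 1) (by omega)
  rw [show b - 1 + 2 = b + 1 by omega] at h3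
  refine A.conj_both (h.path.reverse A.toAmalB) hp ((A.tA_even h le_rfl).2 hodd.add_one) hp0
    (gA := x) (fun i h1' h2 => MulAction.mem_stabilizer_iff.1 (hxG _ (by omega))) ?_ hfix hmove
  exact (A.smul_ne (A.symm _ _ h1) (h.path.step b (by omega)) h3
    ⟨hxG b le_rfl, hxG (b - 1) (by omega)⟩ hx').1

theorem crit_of_full {b : ℕ} {f : ℕ → V} (h : Conf G adj tA b f)
    (hF : Conj G adj tA b True) {g : ℕ → V} (hg : IsPath adj b g) (hA : tA (g 0)) :
    ¬ zv G adj (g 0) ≤ Qs G (g b) := fun hle =>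
  h.crit (A.crit_conj hF hg ((h.path.sub 0 (by omega : 0 + b ≤ b + 1)).congr
    fun i _ => by rw [zero_add]) (iff_of_true hA trivial) (iff_of_true h.hA trivial) hle)

variable {b : ℕ} (hb : Short1 G adj tA b) (hodd : Odd b) (h3 : 3 ≤ b)
include hb hodd h3

/-- Critical configurations reverse. -/
theorem conf_rev {f : ℕ → V} (h : Conf G adj tA b f) : Conf G adj tA b (rev (b + 1) f) := by
  have he : tA (f (b + 1)) := (A.tA_even h le_rfl).2 hodd.add_one
  refine ⟨h.path.reverse A.toAmalB, by simpa [rev] using he, ?_⟩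
  rw [show rev (b + 1) f 0 = f (b + 1) from rfl, show rev (b + 1) f b = f 1 by simp [rev]]
  intro hall
  obtain ⟨x, hx, hx'⟩ := SetLike.not_le_iff_exists.1 h.crit
  have h0 := h.path.step 0 (by omega)
  have hbe := h.path.step b (by omega)
  have hfb : ¬ tA (f b) := fun e => (Nat.not_even_iff_odd.2 hodd) ((A.tA_even h (by omega)).1 e)
  obtain ⟨z, hz, hz'⟩ : ∃ z ∈ zv G adj (f (b + 1)), z ∉ Qs G (f 0) := by
    by_contra! hle
    have h1 := h.path.step (b - 1) (by omega)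
    rw [show b - 1 + 1 = b by omega] at h1
    have hne := h.path.nobt (b - 1) (by omega)
    rw [show b - 1 + 2 = b + 1 by omega] at hne
    have hxT : x ∈ Gs G (f b) ⊓ Gs G (f (b - 1)) :=
      ⟨A.path_gs hb h.path h.hA (Nat.zero_le _) (by omega) (by omega) (by omega) hx,
       A.path_gs hb h.path h.hA (Nat.zero_le _) (by omega) (by omega) (by omega) hx⟩
    refine (A.smul_ne (A.symm _ _ h1) hbe hne hxT hx').1 (A.fix_of_normalizes hfb hbe hxT.1 ?_)
    intro p hp
    have hpx := A.commute_qs (hle p hp) hx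
    rw [hpx.symm.eq, mul_inv_cancel_right]
    exact hp
  have hzT : z ∈ Gs G (f 0) ⊓ Gs G (f 1) :=
    ⟨(A.qs_le_edge (A.symm _ _ h0) (hall hz)).2, qs_le _ (hall hz)⟩
  obtain ⟨δ, hδ, hne⟩ := A.exists_other h0
  obtain ⟨hmove, -⟩ := A.smul_ne h0 hδ hne.symm hzT hz'
  have hp : IsPath adj (b + 1) (pcons δ f) :=
    ((h.path.sub 0 (by omega : 0 + b ≤ b + 1)).congr fun i _ => by rw [zero_add]).pcons
      (A.symm _ _ hδ) (fun _ => hne)
  have hF := A.full_of_mover hb hodd h hp (A.tA_not hδ h.hA) (g := z) ?_ hmove b (by omega) (by omega)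
  · refine A.crit_of_full h hF.1 ((h.path.reverse A.toAmalB).sub 0 (by omega : 0 + b ≤ b + 1))
      (by simpa [rev] using he) ?_
    simpa [rev] using hall
  · intro i h1' h2
    obtain ⟨i, rfl⟩ : ∃ j, i = j + 1 := ⟨i - 1, by omega⟩
    show z • f i = f i
    refine MulAction.mem_stabilizer_iff.1 ?_
    rcases Nat.eq_zero_or_pos i with rfl | hpos
    · exact hzT.1
    · exact A.path_gs hb h.path he le_rfl (by omega) (by omega) (by omega) hz

theorem x_gs {f : ℕ → V} (h : Conf G adj tA b f) {x : G} (hx : x ∈ zv G adj (f 0)) {j : ℕ}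
    (hj : j ≤ b) : x ∈ Gs G (f j) :=
  A.path_gs hb h.path h.hA (Nat.zero_le _) (by omega) (by omega) (by omega) hx

theorem z_gs {f : ℕ → V} (h : Conf G adj tA b f) {z : G} (hz : z ∈ zv G adj (f (b + 1))) {j : ℕ}
    (hj : 1 ≤ j) (hj' : j ≤ b + 1) : z ∈ Gs G (f j) :=
  A.path_gs hb h.path ((A.tA_even h le_rfl).2 hodd.add_one) le_rfl hj' (by omega) (by omega) hz

theorem z_move {f : ℕ → V} (h : Conf G adj tA b f) {z : G} (hz : z ∈ zv G adj (f (b + 1)))
    (hz' : z ∉ Qs G (f 1)) : z • f 0 ≠ f 0 ∧ z • f 0 ≠ f 2 :=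
  A.smul_ne (h.path.step 1 (by omega)) (A.symm _ _ (h.path.step 0 (by omega)))
    (h.path.nobt 0 (by omega)).symm
    ⟨A.z_gs hb hodd h3 h hz le_rfl (by omega), A.z_gs hb hodd h3 h hz (by omega) (by omega)⟩ hz'

/-- The `Z` of an inactive vertex has order two. -/
theorem uniq {f : ℕ → V} (h : Conf G adj tA b f) {δ : V} (hδ : ¬ tA δ) {p q : G}
    (hp : p ∈ zv G adj δ) (hq : q ∈ zv G adj δ) (hp1 : p ≠ 1) (hq1 : q ≠ 1) : p = q := by
  by_contra hpq
  have key : ∀ {g : ℕ → V}, Conf G adj tA b g →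
      ∃ u ∈ zv G adj (g 0), u ∈ Qs G (g b) ∧ u ∉ zv G adj (g 1) := by
    intro g hg
    obtain ⟨δ', hδ', hne⟩ := A.exists_other (hg.path.step 0 (by omega))
    obtain ⟨k, hk⟩ := A.orbit (iff_of_false hδ (A.tA_not hδ' hg.hA))
    have hmem : ∀ {a : G}, a ∈ zv G adj δ → a ≠ 1 →
        k * a * k⁻¹ ∈ zv G adj δ' ∧ k * a * k⁻¹ ≠ 1 := fun {a} ha ha1 => by
      refine ⟨by rw [← hk, A.zv_smul]; exact ⟨a, ha, rfl⟩, fun e => ha1 ?_⟩
      have := congrArg (fun y => k⁻¹ * y * k) e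
      simpa [mul_assoc] using this
    obtain ⟨hp', hp1'⟩ := hmem hp hp1
    obtain ⟨hq', hq1'⟩ := hmem hq hq1
    have hpq' : k * p * k⁻¹ * (k * q * k⁻¹) ≠ 1 := fun e => hpq <| by
      have h1 := mul_eq_one_iff_eq_inv.1 e
      rw [A.inv_eq hq'] at h1
      exact mul_left_cancel (mul_right_cancel h1)
    have hout : ∀ {a : G}, a ∈ zv G adj δ' → a ≠ 1 → a ∈ Qs G (g b) →
        ∃ u ∈ zv G adj (g 0), u ∈ Qs G (g b) ∧ u ∉ zv G adj (g 1) := fun {a} ha ha1 haQ =>
      ⟨a, A.zvB_le hδ' hg.hA ha, haQ, fun e =>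
        ha1 (A.yDisj hδ' (hg.path.step 0 (by omega)) hne hg.hA ha e)⟩
    have h1 := hg.path.step (b - 1) (by omega)
    rw [show b - 1 + 1 = b by omega] at h1
    by_cases c1 : k * p * k⁻¹ ∈ Qs G (g b)
    · exact hout hp' hp1' c1
    by_cases c2 : k * q * k⁻¹ ∈ Qs G (g b)
    · exact hout hq' hq1' c2
    refine hout (mul_mem hp' hq') hpq' (A.mul_mem_qs (A.symm _ _ h1) ?_ ?_ c1 c2)
    · exact ⟨A.x_gs hb hodd h3 hg (A.zvB_le hδ' hg.hA hp') le_rfl,
        A.x_gs hb hodd h3 hg (A.zvB_le hδ' hg.hA hp') (by omega)⟩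
    · exact ⟨A.x_gs hb hodd h3 hg (A.zvB_le hδ' hg.hA hq') le_rfl,
        A.x_gs hb hodd h3 hg (A.zvB_le hδ' hg.hA hq') (by omega)⟩
  have hout : ∀ {g : ℕ → V}, Conf G adj tA b g → ∀ {u : G}, u ∈ zv G adj (g 0) →
      u ∈ Qs G (g b) → u ∉ zv G adj (g 1) → ∃ z ∈ zv G adj (g (b + 1)), z ∉ Qs G (g 1) ∧
        u ∈ Gs G (g (b + 1)) ∧ u ∉ Qs G (g (b + 1)) ∧ ¬ Commute u z := by
    intro g hg u hu huQ hu1
    obtain ⟨z, hz, hz'⟩ := SetLike.not_le_iff_exists.1
      (show ¬ zv G adj (g (b + 1)) ≤ Qs G (g 1) by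
        have := (A.conf_rev hb hodd h3 hg).crit
        simpa [rev] using this)
    have hnc : ¬ Commute u z := fun hc => hu1 <| by
      refine A.zv_inter (fun e => absurd ((A.tA_even hg (by omega)).1 e) (by norm_num))
        (A.symm _ _ (hg.path.step 0 (by omega)))
        (A.adj_smul_left (A.symm _ _ (hg.path.step 0 (by omega)))
          (A.z_gs hb hodd h3 hg hz le_rfl (by omega)))
        (A.z_move hb hodd h3 hg hz hz').1.symm hu ?_
      rw [A.zv_smul]
      exact ⟨u, hu, mul_inv_eq_iff_eq_mul.2 hc.symm.eq⟩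
    exact ⟨z, hz, hz', (A.qs_le_edge (hg.path.step b (by omega)) huQ).2,
      fun e => hnc (A.commute_qs e hz), hnc⟩
  obtain ⟨u, hu, huQ, hu1⟩ := key h
  obtain ⟨z, hz, hz', hue, hue', hnc⟩ := hout h hu huQ hu1
  have hbe := h.path.step b (by omega)
  have heA := (A.tA_even h le_rfl).2 hodd.add_one
  have hfb : adj (f (b - 1)) (f b) := by
    have := h.path.step (b - 1) (by omega)
    rwa [show b - 1 + 1 = b by omega] at this
  have hbA : tA (f (b - 1)) := by
    rw [A.tA_even h (by omega), Nat.even_sub (by omega)]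
    simp [Nat.not_even_iff_odd.2 hodd]
  rcases (show b = 3 ∨ 5 ≤ b by obtain ⟨k, rfl⟩ := hodd; omega) with rfl | h5
  · obtain ⟨u', hu', huQ', hu1'⟩ := key (A.conf_rev hb hodd h3 h)
    obtain ⟨z', hz2, hz2', hue2, hue2', -⟩ := hout (A.conf_rev hb hodd h3 h) hu' huQ' hu1'
    simp only [rev] at hu' huQ' hu1' hue2 hue2'
    norm_num at hu' huQ' hu1' hue2 hue2'
    have huT : u ∈ Gs G (f 4) ⊓ Gs G (f 3) := ⟨hue, qs_le _ huQ⟩
    have huT' : u' ∈ Gs G (f 0) ⊓ Gs G (f 1) := ⟨hue2, qs_le _ huQ'⟩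
    have r0 : ⁅u, u'⁆ ∈ zv G adj (f 0) := by
      rw [commutatorElement_def, mul_assoc u, mul_assoc u]
      exact mul_mem hu ((mem_normalizer_iff.1 (A.zv_normal _ huT'.1) _).1 (inv_mem hu))
    have r4 : ⁅u, u'⁆ ∈ zv G adj (f 4) := by
      rw [commutatorElement_def]
      exact mul_mem ((mem_normalizer_iff.1 (A.zv_normal _ huT.1) u').1 hu') (inv_mem hu')
    have c3 := A.mem_zvB_of_commute (A.symm _ _ hbe) heA huT hue' r4 (A.zv_commute hu r0)
    have c1 := A.mem_zvB_of_commute (h.path.step 0 (by omega)) h.hA huT' hue2' r0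
      (A.zv_commute hu' r4)
    have r1 := A.yDisj (A.symm _ _ (h.path.step 1 (by omega))) (h.path.step 2 (by omega))
      (h.path.nobt 1 (by omega)) hbA c1 c3
    exact hu1' (A.mem_zvB_of_commute (A.symm _ _ hbe) heA huT hue' hu'
      (commutatorElement_eq_one_iff_commute.1 r1))
  obtain ⟨ε, hε, hεne⟩ := A.exists_other (A.symm _ _ hbe)
  have huT : u ∈ Gs G (f (b + 1)) ⊓ Gs G (f b) := ⟨hue, qs_le _ huQ⟩
  obtain ⟨humove, -⟩ := A.smul_ne (A.symm _ _ hbe) hε hεne.symm huT hue'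
  have hpB : IsPath adj (b + 1 + 1) (pcons ε (rev (b + 1) f)) :=
    (h.path.reverse A.toAmalB).pcons (by simpa [rev] using A.symm _ _ hε)
      (fun _ => by simpa [rev] using hεne)
  have hF := A.full_of_mover hb hodd h
    ((hpB.sub 0 (by omega : 0 + (b + 1) ≤ b + 1 + 1)).congr fun i _ => by rw [zero_add])
    (A.tA_not hε heA) (g := u) ?_ humove b (by omega) (by omega)
  swap
  · intro i h1 h2
    obtain ⟨i, rfl⟩ : ∃ j, i = j + 1 := ⟨i - 1, by omega⟩
    show u • f (b + 1 - i) = f (b + 1 - i)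
    refine MulAction.mem_stabilizer_iff.1 ?_
    rcases Nat.eq_zero_or_pos i with rfl | hpos
    · exact hue
    · exact A.x_gs hb hodd h3 h hu (by omega)
  obtain ⟨δ', hδ', hne⟩ := A.exists_other (h.path.step 0 (by omega))
  obtain ⟨γ, hγ, hγne⟩ := A.exists_other (A.symm _ _ hδ')
  have hq' : IsPath adj (b + 1) (rev (b + 1) (pcons γ (pcons δ' f))) := by
    have h1 : IsPath adj (b - 1 + 1 + 1) (pcons γ (pcons δ' f)) :=
      (((h.path.sub 0 (by omega : 0 + (b - 1) ≤ b + 1)).congr fun i _ => by rw [zero_add]).pcons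
        (A.symm _ _ hδ') (fun _ => hne)).pcons (A.symm _ _ hγ) (fun _ => hγne)
    rw [show b - 1 + 1 + 1 = b + 1 by omega] at h1
    exact h1.reverse A.toAmalB
  have e0 : rev (b + 1) (pcons γ (pcons δ' f)) 0 = f (b - 1) := by
    obtain ⟨m, rfl⟩ : ∃ m, b = m + 1 := ⟨b - 1, by omega⟩
    rfl
  have hconf : Conf G adj tA b (rev (b + 1) (pcons γ (pcons δ' f))) := by
    refine ⟨hq', by rw [e0]; exact hbA, A.crit_of_full h hF.1
      ((hq'.sub 0 (by omega : 0 + b ≤ b + 1)).congr fun i _ => by rw [zero_add])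
      (by rw [e0]; exact hbA)⟩
  obtain ⟨z2, hz2, hz2'⟩ := SetLike.not_le_iff_exists.1
    (A.conf_rev hb hodd h3 hconf).crit
  have e2 : pcons γ (pcons δ' f) b = f (b - 2) := by
    obtain ⟨m, rfl⟩ : ∃ m, b = m + 2 := ⟨b - 2, by omega⟩
    rfl
  simp only [rev] at hz2 hz2'
  rw [show b + 1 - (b + 1 - b) = b by omega, e2] at hz2'
  rw [show b + 1 - (b + 1 - 0) = 0 by omega] at hz2
  have hz2G : z2 ∈ Gs G (f (b - 2)) ⊓ Gs G (f (b - 3)) := by
    have h1 : ∀ j, j ≤ b → z2 ∈ Gs G (pcons γ (pcons δ' f) j) := fun j hj => by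
      have hpp := hq'.reverse A.toAmalB
      have := A.path_gs hb hpp (i := 0) (j := j) (by
        show tA (rev (b + 1) (rev (b + 1) (pcons γ (pcons δ' f))) 0)
        simp only [rev, show b + 1 - (b + 1 - 0) = 0 by omega]
        exact A.tA_of_not hγ (A.tA_not hδ' h.hA)) (Nat.zero_le _) (by omega) (by omega) (by omega)
        (x := z2) (by simpa [rev, show b + 1 - (b + 1) = 0 by omega] using hz2)
      simpa [rev, show b + 1 - (b + 1 - j) = j by omega] using this
    constructor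
    · have := h1 b le_rfl
      rwa [e2] at this
    · have := h1 (b - 1) (by omega)
      obtain ⟨m, rfl⟩ : ∃ m, b = m + 3 := ⟨b - 3, by omega⟩
      exact this
  have hd2 : adj (f (b - 2)) (f (b - 1)) := by
    have := h.path.step (b - 2) (by omega)
    rwa [show b - 2 + 1 = b - 1 by omega] at this
  have hd3 : adj (f (b - 2)) (f (b - 3)) := by
    have := h.path.step (b - 3) (by omega)
    rw [show b - 3 + 1 = b - 2 by omega] at this
    exact A.symm _ _ this
  have hne3 : f (b - 3) ≠ f (b - 1) := by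
    have := h.path.nobt (b - 3) (by omega)
    rwa [show b - 3 + 2 = b - 1 by omega] at this
  obtain ⟨hmv, -⟩ := A.smul_ne hd3 hd2 hne3 hz2G hz2'
  have hre : ⁅u, z⁆ ∈ zv G adj (f (b + 1)) := by
    rw [commutatorElement_def]
    exact mul_mem ((mem_normalizer_iff.1 (A.zv_normal _ hue) z).1 hz) (inv_mem hz)
  have hrb : ⁅u, z⁆ ∈ zv G adj (f b) := by
    refine A.mem_zvB_of_commute (A.symm _ _ hbe) heA huT hue' hre ?_
    have huz : z * u⁻¹ * z⁻¹ ∈ zv G adj (z • f 0) := by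
      rw [A.zv_smul]; exact ⟨u⁻¹, inv_mem hu, rfl⟩
    rw [commutatorElement_def, mul_assoc u, mul_assoc u]
    refine (Commute.refl u).mul_right ?_
    exact A.comm1 hb (n := 2) (by omega) h.hA
      (walk_cons (h.path.step 0 (by omega)) (walk_one (A.adj_smul_left
        (A.symm _ _ (h.path.step 0 (by omega))) (A.z_gs hb hodd h3 h hz le_rfl (by omega))))) hu huz
  have hrz : Commute z2 ⁅u, z⁆ := by
    have hγA : tA γ := A.tA_of_not hγ (A.tA_not hδ' h.hA)
    rw [commutatorElement_def, mul_assoc u, mul_assoc u]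
    refine (A.comm1 hb (n := 2) (by omega) hγA
      (walk_cons (A.symm _ _ hγ) (walk_one (A.symm _ _ hδ'))) hz2 hu).mul_right ?_
    refine A.comm1 hb (n := 4) (by omega) hγA
      (walk_cons (A.symm _ _ hγ) (walk_cons (A.symm _ _ hδ') (walk_cons (h.path.step 0 (by omega))
        (walk_one (A.adj_smul_left (A.symm _ _ (h.path.step 0 (by omega)))
          (A.z_gs hb hodd h3 h hz le_rfl (by omega))))))) hz2 ?_
    rw [A.zv_smul]; exact ⟨u⁻¹, inv_mem hu, rfl⟩
  have hrA : ⁅u, z⁆ ∈ zv G adj (f (b - 1)) := A.zvB_le hfb hbA hrb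
  have hr2 := A.zv_inter (fun e => (A.alt _ _ hd2).1 hbA e) hd2
    (A.adj_smul_left hd2 hz2G.1) hmv.symm hrA
    (by rw [A.zv_smul]; exact ⟨_, hrA, mul_inv_eq_iff_eq_mul.2 hrz.eq⟩)
  have hne4 : f (b - 2) ≠ f b := by
    have := h.path.nobt (b - 2) (by omega)
    rwa [show b - 2 + 2 = b by omega] at this
  exact hnc (commutatorElement_eq_one_iff_commute.1
    (A.yDisj (A.symm _ _ hd2) hfb hne4 hbA hr2 hrb))

end Gold

end Cfsg.Agent.S4Amal
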