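import Cfsg.Agent.S4Amalgam.GoldVV

/-!
# Shifting critical configurations
-/

set_option autoImplicit false

namespace Cfsg.Agent.S4Amal

open Subgroup
open scoped commutatorElement
open SfFree (cj)

variable {G : Type*} [Group G] {V : Type*} [MulAction G V] {adj : V → V → Prop} {tA : V → Prop}

theorem pcons_add_two (γ δ : V) (f : ℕ → V) {i : ℕ} (hi : 2 ≤ i) :
    pcons γ (pcons δ f) i = f (i - 2) := by
  obtain ⟨m, rfl⟩ : ∃ m, i = m + 2 := ⟨i - 2, by omega⟩
  rfl

namespace Gold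

open AmalB

variable (A : Gold G adj tA)
include A

theorem shift_path {b : ℕ} (h1 : 1 ≤ b) {f : ℕ → V} (hf : IsPath adj (b + 1) f) {δ γ : V}
    (hδ : adj (f 0) δ) (hne : δ ≠ f 1) (hγ : adj δ γ) (hγne : γ ≠ f 0) :
    IsPath adj (b + 1) (pcons γ (pcons δ f)) := by
  have h2 : IsPath adj (b - 1 + 1 + 1) (pcons γ (pcons δ f)) :=
    (((hf.sub 0 (by omega : 0 + (b - 1) ≤ b + 1)).congr fun i _ => by rw [zero_add]).pcons
      (A.symm _ _ hδ) (fun _ => hne)).pcons (A.symm _ _ hγ) (fun _ => hγne)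
  rwa [show b - 1 + 1 + 1 = b + 1 by omega] at h2

variable {b : ℕ} (hb : Short1 G adj tA b) (hodd : Odd b) (h3 : 3 ≤ b)
include hb hodd h3

/-- Without full conjugacy, the left half of `W` is fixed by the far `Z`. -/
theorem half_facts {f : ℕ → V} (h : Conf G adj tA b f) (hF : ¬ Conj G adj tA b True) :
    (∀ p ∈ ww G adj (f 0), p ∈ Qs G (f (b - 2)) → p ∈ Qs G (f (b - 1))) ∧
    (∀ p ∈ ww G adj (f 0), p ∈ Qs G (f (b - 2)) → p ∈ Qs G (f b) →
      ∀ z ∈ zv G adj (f (b + 1)), Commute p z) := by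
  have hfA := h.hA
  have heA : tA (f (b + 1)) := (A.tA_even h le_rfl).2 hodd.add_one
  have hWG : ∀ {j : ℕ}, j ≤ b - 2 → ww G adj (f 0) ≤ Gs G (f j) := fun {j} hj =>
    iSup_le fun d => iSup_le fun w => A.push1 hb (n := 2 + (j - 0 + (0 - j))) (by omega)
      (A.tA_of_not w.2 (A.tA_not d.2 hfA))
      (walk_append (walk_cons (A.symm _ _ w.2) (walk_one (A.symm _ _ d.2)))
        (A.path_walk h.path (Nat.zero_le _) (by omega)))
  have hd1 : adj (f (b - 2)) (f (b - 1)) := by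
    have := h.path.step (b - 2) (by omega)
    rwa [show b - 2 + 1 = b - 1 by omega] at this
  have hd2 : adj (f (b - 1)) (f b) := by
    have := h.path.step (b - 1) (by omega)
    rwa [show b - 1 + 1 = b by omega] at this
  obtain ⟨δ, hδ, hne⟩ := A.exists_other (h.path.step 0 (by omega))
  have part1 : ∀ p ∈ ww G adj (f 0), p ∈ Qs G (f (b - 2)) → p ∈ Qs G (f (b - 1)) := by
    intro p hp hpQ
    by_contra hpQ'
    have hne3 : f (b - 2) ≠ f b := by
      have := h.path.nobt (b - 2) (by omega)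
      rwa [show b - 2 + 2 = b by omega] at this
    obtain ⟨hmove, -⟩ := A.smul_ne (A.symm _ _ hd1) hd2 hne3
      ⟨(A.qs_le_edge hd1 hpQ).2, qs_le _ hpQ⟩ hpQ'
    have hpath : IsPath adj (b + 1) (rev (b + 1) (pcons δ f)) :=
      (((h.path.sub 0 (by omega : 0 + b ≤ b + 1)).congr fun i _ => by rw [zero_add]).pcons
        (A.symm _ _ hδ) (fun _ => hne)).reverse A.toAmalB
    refine hF (A.full_of_mover hb hodd h hpath ?_ (g := p) ?_ ?_ b (by omega) (by omega)).1
    · show ¬ tA (f b)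
      exact fun e => (Nat.not_even_iff_odd.2 hodd) ((A.tA_even h (by omega)).1 e)
    · intro i h1 h2
      refine MulAction.mem_stabilizer_iff.1 ?_
      rcases Nat.lt_or_ge i (b + 1) with hlt | hge
      · rw [show rev (b + 1) (pcons δ f) i = f (b - i) by
          simp only [rev, show b + 1 - i = b - i + 1 by omega]; rfl]
        rcases (show i = 1 ∨ 2 ≤ i by omega) with rfl | h2i
        · exact (A.qs_le_edge hd1 hpQ).2
        · exact hWG (by omega) hp
      · obtain rfl : i = b + 1 := by omega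
        rw [show rev (b + 1) (pcons δ f) (b + 1) = δ by simp [rev, pcons]]
        refine (show ww G adj (f 0) ≤ Gs G δ from iSup_le fun d => iSup_le fun w =>
          A.push1 hb (n := 3) (by omega) (A.tA_of_not w.2 (A.tA_not d.2 hfA))
            (walk_cons (A.symm _ _ w.2) (walk_cons (A.symm _ _ d.2) (walk_one hδ)))) hp
    · show p • f b ≠ f b
      exact hmove
  refine ⟨part1, fun p hp hpQ hpb z hz => ?_⟩
  have hbe := h.path.step b (by omega)
  have hpe : p ∈ Gs G (f (b + 1)) := (A.qs_le_edge hbe hpb).2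
  by_cases hpe' : p ∈ Qs G (f (b + 1))
  · exact A.commute_qs hpe' hz
  exfalso
  obtain ⟨ε, hε, hεne⟩ := A.exists_other (A.symm _ _ hbe)
  obtain ⟨hmove, -⟩ := A.smul_ne (A.symm _ _ hbe) hε hεne.symm ⟨hpe, qs_le _ hpb⟩ hpe'
  have hpB : IsPath adj (b + 1 + 1) (pcons ε (rev (b + 1) f)) :=
    (h.path.reverse A.toAmalB).pcons (by simpa [rev] using A.symm _ _ hε)
      (fun _ => by simpa [rev] using hεne)
  refine hF (A.full_of_mover hb hodd h
    ((hpB.sub 0 (by omega : 0 + (b + 1) ≤ b + 1 + 1)).congr fun i _ => by rw [zero_add])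
    (A.tA_not hε heA) (g := p) ?_ hmove b (by omega) (by omega)).1
  intro i h1 h2
  obtain ⟨i, rfl⟩ : ∃ j, i = j + 1 := ⟨i - 1, by omega⟩
  show p • f (b + 1 - i) = f (b + 1 - i)
  refine MulAction.mem_stabilizer_iff.1 ?_
  rcases (show i = 0 ∨ i = 1 ∨ i = 2 ∨ 3 ≤ i by omega) with rfl | rfl | rfl | h3i
  · exact hpe
  · exact qs_le _ hpb
  · rw [show b + 1 - 2 = b - 1 by omega]; exact qs_le _ (part1 p hp hpQ)
  · exact hWG (by omega) hp

theorem conf_left {f : ℕ → V} (h : Conf G adj tA b f) {δ γ : V} (hδ : adj (f 0) δ) (hne : δ ≠ f 1)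
    (hγ : adj δ γ) (hγne : γ ≠ f 0) : Conf G adj tA b (pcons γ (pcons δ f)) := by
  have hfA := h.hA
  have hδB := A.tA_not hδ hfA
  have hpath : ∀ {γ' : V}, adj δ γ' → γ' ≠ f 0 → IsPath adj (b + 1) (pcons γ' (pcons δ f)) :=
    fun {γ'} h1 h2 => A.shift_path (by omega) h.path hδ hne h1 h2
  have heq : ∀ γ' : V, pcons γ' (pcons δ f) b = f (b - 2) := fun γ' =>
    pcons_add_two γ' δ f (by omega)
  refine ⟨hpath hγ hγne, A.tA_of_not hγ hδB, ?_⟩
  by_cases hF : Conj G adj tA b True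
  · exact A.crit_of_full h hF
      (((hpath hγ hγne).sub 0 (by omega : 0 + b ≤ b + 1)).congr fun i _ => by rw [zero_add])
      (A.tA_of_not hγ hδB)
  rw [heq]
  show ¬ zv G adj γ ≤ Qs G (f (b - 2))
  intro hle
  obtain ⟨part1, part2⟩ := A.half_facts hb hodd h3 h hF
  have hrev := (A.conf_rev hb hodd h3 h).crit
  simp only [rev, show b + 1 - b = 1 by omega, Nat.sub_zero] at hrev
  obtain ⟨z, hz, hz'⟩ := SetLike.not_le_iff_exists.1 hrev
  have hz1 : z ∈ Gs G (f 1) := A.z_gs hb hodd h3 h hz le_rfl (by omega)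
  obtain ⟨hzm, -⟩ := A.z_move hb hodd h3 h hz hz'
  have hzz := A.sq_one hz
  obtain ⟨x, hx, hx'⟩ := SetLike.not_le_iff_exists.1 h.crit
  have hn0 := A.symm _ _ (h.path.step 0 (by omega))
  have hzn := A.adj_smul_left hn0 hz1
  have hd2 : adj (f (b - 1)) (f b) := by
    have := h.path.step (b - 1) (by omega)
    rwa [show b - 1 + 1 = b by omega] at this
  have hxQ : x ∈ Qs G (f (b - 2)) :=
    A.path_qs hb h.path hfA (Nat.zero_le _) (by omega) (by omega) (by omega) hx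
  have hxW : x ∈ ww G adj (f 0) :=
    vv_le_ww (h.path.step 0 (by omega)) (zv_le_vv hn0 hx)
  have hsub : ∀ p ∈ ww G adj (f 0), p ∈ Qs G (f (b - 2)) → p ∈ ww G adj (z • f 0) := by
    intro p hp hpQ
    rw [A.ww_smul]
    refine ⟨z * p * z⁻¹, ?_, ?_⟩
    · by_cases hpb : p ∈ Qs G (f b)
      · rw [(part2 p hp hpQ hpb z hz).symm.eq, mul_inv_cancel_right]; exact hp
      · have hpx : p * x ∈ Qs G (f b) := A.mul_mem_qs (A.symm _ _ hd2)
          ⟨(A.qs_le_edge hd2 (part1 p hp hpQ)).2, qs_le _ (part1 p hp hpQ)⟩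
          ⟨A.x_gs hb hodd h3 h hx le_rfl, A.x_gs hb hodd h3 h hx (by omega)⟩ hpb hx'
        have hc := part2 _ (mul_mem hp hxW) (mul_mem hpQ hxQ) hpx
          z hz
        rw [show z * p * z⁻¹ = (z * (p * x) * z⁻¹) * (z * x⁻¹ * z⁻¹) by group, hc.symm.eq,
          mul_inv_cancel_right]
        refine mul_mem (mul_mem hp hxW) (vv_le_ww (h.path.step 0 (by omega)) (zv_le_vv hzn ?_))
        rw [A.zv_smul]
        exact ⟨x⁻¹, inv_mem hx, rfl⟩
    · show z * (z * p * z⁻¹) * z⁻¹ = p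
      rw [show z * (z * p * z⁻¹) * z⁻¹ = (z * z) * p * (z * z)⁻¹ by group, hzz, inv_one, one_mul,
        mul_one]
  have hvv : vv G adj δ ≤ Qs G (f (b - 2)) := iSup_le fun w => by
    by_cases hw0 : (w : V) = f 0
    · rw [hw0]; exact A.path_qs hb h.path hfA (Nat.zero_le _) (by omega) (by omega) (by omega)
    by_cases hwγ : (w : V) = γ
    · rw [hwγ]; exact hle
    by_contra hwn
    have hconf : Conf G adj tA b (pcons (w : V) (pcons δ f)) :=
      ⟨hpath w.2 hw0, A.tA_of_not w.2 hδB, by rw [heq]; exact hwn⟩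
    have hrev2 := (A.conf_rev hb hodd h3 hconf).crit
    simp only [rev, show b + 1 - b = 1 by omega, Nat.sub_zero,
      pcons_add_two (w : V) δ f (show 2 ≤ b + 1 by omega)] at hrev2
    rw [show b + 1 - 2 = b - 1 by omega, show pcons (w : V) (pcons δ f) 1 = δ from rfl] at hrev2
    obtain ⟨z', hz2, hz2'⟩ := SetLike.not_le_iff_exists.1 hrev2
    have hcA : tA (f (b - 1)) := by
      rw [A.tA_even h (by omega), Nat.even_sub (by omega)]
      simp [Nat.not_even_iff_odd.2 hodd]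
    have hzG : ∀ j, 1 ≤ j → j ≤ b + 1 → z' ∈ Gs G (pcons (w : V) (pcons δ f) j) := fun j h1 h2 =>
      A.z_gs hb hodd h3 hconf (by
        rw [pcons_add_two (w : V) δ f (show 2 ≤ b + 1 by omega), show b + 1 - 2 = b - 1 by omega]
        exact hz2) h1 h2
    have hzT : z' ∈ Gs G δ ⊓ Gs G (f 0) := ⟨hzG 1 le_rfl (by omega), hzG 2 (by omega) (by omega)⟩
    have hzw := A.third (A.symm _ _ hδ) w.2 hγ (Ne.symm hw0) hγne (Ne.symm hwγ) hzT hz2'
    have hzd : z' • f (b - 2) = f (b - 2) := by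
      have := hzG b (by omega) (by omega)
      rw [heq] at this
      exact MulAction.mem_stabilizer_iff.1 this
    apply hwn
    have h9 := (A.le_smul_iff z' (w : V) (f (b - 2))).1
    rw [hzw, hzd] at h9
    exact h9 hle
  obtain ⟨s, hs, hs'⟩ := SetLike.not_le_iff_exists.1 (A.qs_ne hn0)
  have hsa : s ∈ Gs G (f 0) ⊓ Gs G (f 1) := ⟨(A.qs_le_edge hn0 hs).2, qs_le _ hs⟩
  have hsz : s • z • f 0 = z • f 0 := A.qs_smul_nbr hzn hs
  have hs0 : s • f 0 = f 0 := MulAction.mem_stabilizer_iff.1 hsa.1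
  obtain ⟨hsd1, hsd2⟩ := A.smul_ne (h.path.step 0 (by omega)) hδ hne.symm hsa hs'
  have hWle : ww G adj (f 0) ≤ ww G adj (z • f 0) := iSup_le fun d => by
    rcases A.nbr3 (h.path.step 0 (by omega)) hδ (A.adj_smul_left hδ hsa.1) d.2 hne.symm hsd2.symm
      hsd1.symm with e | e | e <;> rw [e]
    · exact vv_le_ww (A.symm _ _ hzn)
    · exact fun p hp => hsub p (vv_le_ww hδ hp) (hvv hp)
    · rw [A.vv_smul, ← hsz, A.ww_smul s]
      exact SfFree.cj_mono fun p hp => hsub p (vv_le_ww hδ hp) (hvv hp)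
  have hzW : z ∈ normalizer (ww G adj (f 0) : Set G) := by
    refine mem_normalizer_of_invol hzz fun p hp => ?_
    have := hWle hp
    rw [A.ww_smul] at this
    obtain ⟨q, hq, hqp⟩ := this
    rw [show z * p * z⁻¹ = q by
      rw [← hqp]
      show z * (z * q * z⁻¹) * z⁻¹ = q
      rw [show z * (z * q * z⁻¹) * z⁻¹ = (z * z) * q * (z * z)⁻¹ by group, hzz, inv_one, one_mul,
        mul_one]]
    exact hq
  have hWn : Gs G (f 0) ≤ normalizer (ww G adj (f 0) : Set G) := fun g hg => by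
    rw [mem_normalizer_iff_map_conj_eq]
    show cj g (ww G adj (f 0)) = _
    rw [← A.ww_smul, MulAction.mem_stabilizer_iff.1 hg]
  have hWT : ww G adj (f 0) ≤ Gs G (f 0) ⊓ Gs G (f 1) := iSup_le fun d => iSup_le fun w =>
    (hb 2 (w : V) (f 0) (by omega) (A.tA_of_not w.2 (A.tA_not d.2 hfA))
      (walk_cons (A.symm _ _ w.2) (walk_one (A.symm _ _ d.2)))).trans
      (A.qs_le_edge (h.path.step 0 (by omega)))
  have h0 := A.faith (f 0) (f 1) (h.path.step 0 (by omega)) _ hWT hWn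
    (A.le_of_edge hn0 (fun g hg => hWn hg.2) hz1 hzm hzW)
  exact hx' (by rw [Subgroup.mem_bot.1 (h0.le hxW)]; exact one_mem _)

theorem conf_right {f : ℕ → V} (h : Conf G adj tA b f) :
    ∃ g : ℕ → V, Conf G adj tA b g ∧ ∀ i, i ≤ b - 1 → g i = f (i + 2) := by
  have hr := A.conf_rev hb hodd h3 h
  obtain ⟨δ, hδ, hne⟩ := A.exists_other (hr.path.step 0 (by omega))
  obtain ⟨γ, hγ, hγne⟩ := A.exists_other (A.symm _ _ hδ)
  refine ⟨_, A.conf_rev hb hodd h3 (A.conf_left hb hodd h3 hr hδ hne hγ hγne), fun i hi => ?_⟩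
  simp only [rev]
  rw [pcons_add_two γ δ _ (show 2 ≤ b + 1 - i by omega)]
  show f (b + 1 - (b + 1 - i - 2)) = _
  congr 1
  omega

end Gold

end Cfsg.Agent.S4Amal
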