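import Cfsg.Agent.S4Amalgam.GoldFive

/-!
# The bound in distance three
-/

set_option autoImplicit false

namespace Cfsg.Agent.S4Amal

open Subgroup
open scoped commutatorElement
open SfFree (cj)

variable {G : Type*} [Group G] {V : Type*} [MulAction G V] {adj : V → V → Prop} {tA : V → Prop}

/-- A path through four vertices. -/
def p4 (a β α δ : V) : ℕ → V := pcons a (pcons β (pcons α fun _ => δ))

theorem relIndex_le_two {K C : Subgroup G} {x : G} (hx : x ∈ C)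
    (h : ∀ c ∈ C, c ∈ K ∨ c * x ∈ K) : K.relIndex C ≤ 2 := by
  by_cases hxK : x ∈ K
  · rw [relIndex_eq_one.2 fun c hc => (h c hc).elim id (K.mul_mem_cancel_right hxK).1]
    norm_num
  refine le_of_eq (relIndex_eq_two_iff.2 ⟨x, hx, fun c hc => ?_⟩)
  by_cases hcK : c ∈ K
  · exact Or.inr ⟨hcK, fun e => hxK ((K.mul_mem_cancel_left hcK).1 e)⟩
  · exact Or.inl ⟨(h c hc).resolve_left hcK, hcK⟩

variable (G) in
/-- The part of the 2-core centralizing everything at distance two. -/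
def cc (adj : V → V → Prop) (v : V) : Subgroup G :=
  Qs G v ⊓ centralizer (ww G adj v : Set G)

namespace Gold

open AmalB

variable (A : Gold G adj tA)
include A

theorem four (hu : Uniq G adj tA) {α δ δ' δ'' : V} (hα : tA α) (h : adj α δ) (h' : adj α δ')
    (h'' : adj α δ'') (hne : δ ≠ δ') (hne' : δ'' ≠ δ) (hne'' : δ'' ≠ δ') {w : G}
    (hw : w ∈ zv G adj α) (hw1 : w ∉ zv G adj δ) (hw2 : w ∉ zv G adj δ') :
    w ∈ zv G adj δ'' := by
  obtain ⟨y, hy, hy1⟩ := A.ze_ne_bot h''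
  rw [← A.zvB' h'' hα] at hy
  have hya := A.zvB_le h'' hα hy
  have e := A.yDisj h h' hne hα
    (A.coset hu h hα hw hya hw1 fun e => hy1 (A.yDisj h h'' hne'.symm hα e hy))
    (A.coset hu h' hα hw hya hw2 fun e => hy1 (A.yDisj h' h'' hne''.symm hα e hy))
  rw [eq_inv_of_mul_eq_one_left e]
  exact inv_mem hy

theorem exists_outside {δ γ : V} (hγ : tA γ) (hd : adj γ δ) :
    ∃ m ∈ zv G adj γ, m ∉ zv G adj δ := by
  obtain ⟨δ', hδ', hne⟩ := A.exists_other hd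
  obtain ⟨y, hy, hy1⟩ := A.ze_ne_bot hδ'
  rw [← A.zvB' hδ' hγ] at hy
  exact ⟨y, A.zvB_le hδ' hγ hy, fun e => hy1 (A.yDisj hd hδ' hne.symm hγ e hy)⟩

theorem exists_third {u a b : V} (ha : adj u a) (hb : adj u b) (hne : a ≠ b) :
    ∃ c, adj u c ∧ c ≠ a ∧ c ≠ b := by
  obtain ⟨t, ht, ht'⟩ := A.exists_edge_not_qs ha
  obtain ⟨h1, h2⟩ := A.smul_ne ha hb hne ht ht'
  exact ⟨_, A.adj_smul_left hb ht.1, h2, h1⟩

theorem isPath_p4 {a β α δ : V} (h1 : adj a β) (h2 : adj β α) (h3 : adj α δ) (h4 : a ≠ α)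
    (h5 : β ≠ δ) : IsPath adj 3 (p4 a β α δ) := by
  have := A
  refine ⟨fun i hi => ?_, fun i hi => ?_⟩
  · match i, hi with
    | 0, _ => exact h1
    | 1, _ => exact h2
    | 2, _ => exact h3
  · match i, hi with
    | 0, _ => exact h4
    | 1, _ => exact h5

theorem cc_smul {g p : G} {v : V} (hp : p ∈ cc G adj v) : g * p * g⁻¹ ∈ cc G adj (g • v) := by
  refine ⟨?_, mem_centralizer_iff.2 fun q hq => ?_⟩
  · rw [qs_smul]; exact ⟨p, hp.1, rfl⟩
  · rw [A.ww_smul] at hq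
    obtain ⟨q, hq, rfl⟩ := hq
    show MulAut.conj g q * MulAut.conj g p = MulAut.conj g p * MulAut.conj g q
    rw [← map_mul, ← map_mul, mem_centralizer_iff.1 hp.2 q hq]

variable (hb : Short1 G adj tA 3)
include hb

theorem crit_three {f : ℕ → V} (h : Conf G adj tA 3 f) {p : ℕ → V} (hp : IsPath adj 3 p)
    (hA : tA (p 0)) : ¬ zv G adj (p 0) ≤ Qs G (p 3) := by
  intro hle
  have hA2 : tA (p 2) := (A.tA_path hp (by omega)).2 (iff_of_true hA ⟨1, rfl⟩)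
  obtain ⟨k, hk⟩ := A.orbit (iff_of_true hA2 h.hA)
  obtain ⟨k', hk', hk1⟩ := A.trans _ _ _ (hk ▸ A.smul k _ _ (hp.step 2 (by omega)))
    (h.path.step 0 (by omega))
  have h2 : (k' * k) • p 2 = f 0 := by rw [mul_smul, hk, MulAction.mem_stabilizer_iff.1 hk']
  have h3 : (k' * k) • p 3 = f 1 := by rw [mul_smul, hk1]
  set K := k' * k
  have hc := A.conf_left hb (by decide) le_rfl h (δ := K • p 1) (γ := K • p 0)
    (h2 ▸ A.smul K _ _ (A.symm _ _ (hp.step 1 (by omega))))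
    (fun e => hp.nobt 1 (by omega) (smul_left_cancel K (e.trans h3.symm)))
    (A.smul K _ _ (A.symm _ _ (hp.step 0 (by omega))))
    (fun e => hp.nobt 0 (by omega) (smul_left_cancel K (e.trans h2.symm)))
  refine hc.crit ?_
  show zv G adj (K • p 0) ≤ Qs G (f 1)
  rw [← h3, A.le_smul_iff]
  exact hle

variable (hu : Uniq G adj tA)
  (hcr : ∀ p : ℕ → V, IsPath adj 3 p → tA (p 0) → ¬ zv G adj (p 0) ≤ Qs G (p 3))
include hu hcr

theorem out4 {a β α δ : V} (ha : tA a) (h1 : adj a β) (h2 : adj β α) (h3 : adj α δ) (h4 : a ≠ α)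
    (h5 : β ≠ δ) {x : G} (hx : x ∈ zv G adj a) (hx' : x ∉ zv G adj β) :
    x ∉ Qs G δ ∧ x ∈ Gs G α ⊓ Gs G δ :=
  ⟨fun e => hx' (A.kernel hu hb (by omega) (A.isPath_p4 h1 h2 h3 h4 h5) ha
      (hcr _ (A.isPath_p4 h1 h2 h3 h4 h5) ha) hx e),
    A.push1 hb (n := 2) (by omega) ha (walk_cons h1 (walk_one h2)) hx,
    A.push1 hb (n := 3) le_rfl ha (walk_cons h1 (walk_cons h2 (walk_one h3))) hx⟩

/-- The commutator across a path of length four is the middle `Z` of the third neighbour. -/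
theorem formula {g0 g1 g2 g3 g4 d : V} (h0 : tA g0) (h1 : adj g0 g1) (h2 : adj g1 g2)
    (h3 : adj g2 g3) (h4 : adj g3 g4) (n0 : g0 ≠ g2) (n1 : g1 ≠ g3) (n2 : g2 ≠ g4)
    (hd : adj g2 d) (hd1 : d ≠ g1) (hd3 : d ≠ g3) {x z : G} (hx : x ∈ zv G adj g0)
    (hx' : x ∉ zv G adj g1) (hz : z ∈ zv G adj g4) (hz' : z ∉ zv G adj g3) :
    ⁅x, z⁆ ∈ zv G adj d ∧ ⁅x, z⁆ ∉ zv G adj g1 := by
  have hg2 : tA g2 := A.tA_of_not h2 (A.tA_not h1 h0)
  let q : ℕ → V := pcons g0 (pcons g1 (pcons g2 (pcons g3 fun _ => g4)))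
  have hq : IsPath adj 4 q := by
    refine ⟨fun i hi => ?_, fun i hi => ?_⟩
    · match i, hi with
      | 0, _ => exact h1
      | 1, _ => exact h2
      | 2, _ => exact h3
      | 3, _ => exact h4
    · match i, hi with
      | 0, _ => exact n0
      | 1, _ => exact n1
      | 2, _ => exact n2
  have hc : Conf G adj tA 3 q :=
    ⟨hq, h0, hcr q ((hq.sub 0 (by omega : 0 + 3 ≤ 4)).congr fun i _ => by rw [zero_add]) h0⟩
  obtain ⟨-, -, v1, v3, w1⟩ := A.xz_facts hb (by decide) le_rfl hu hc hx hx' hz hz'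
  obtain ⟨-, -, -, -, w3⟩ := A.xz_facts hb (by decide) le_rfl hu
    (A.conf_rev hb (by decide) le_rfl hc) (x := z) (z := x) hz hz' hx hx'
  have w3' : ⁅z, x⁆ ∉ zv G adj g3 := w3
  have hw := A.vv_inter hb le_rfl hu hg2 (A.symm _ _ h2) h3 n1 v1 v3
  exact ⟨A.four hu hg2 (A.symm _ _ h2) h3 hd n1 hd1 hd3 hw w1
    fun e => w3' (by rw [← commutatorElement_inv]; exact inv_mem e), w1⟩

theorem formula_mid {g0 g1 g2 g3 g4 : V} (h0 : tA g0) (h1 : adj g0 g1) (h2 : adj g1 g2)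
    (h3 : adj g2 g3) (h4 : adj g3 g4) (n0 : g0 ≠ g2) (n1 : g1 ≠ g3) (n2 : g2 ≠ g4) {x z : G}
    (hx : x ∈ zv G adj g0) (hx' : x ∉ zv G adj g1) (hz : z ∈ zv G adj g4)
    (hz' : z ∉ zv G adj g3) : ⁅x, z⁆ ∈ zv G adj g2 := by
  obtain ⟨d, hd, hd1, hd3⟩ := A.exists_third (A.symm _ _ h2) h3 n1
  exact A.zvB_le hd (A.tA_of_not h2 (A.tA_not h1 h0))
    (A.formula hb hu hcr h0 h1 h2 h3 h4 n0 n1 n2 hd hd1 hd3 hx hx' hz hz').1

theorem vrel {δ α α0 α2 : V} (hδ : ¬ tA δ) (h : adj δ α) (h0 : adj δ α0) (h2 : adj δ α2)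
    (e0 : α ≠ α0) (e2 : α ≠ α2) (e02 : α0 ≠ α2) {u u' : G} (hu0 : u ∈ zv G adj α0)
    (hu2 : u' ∈ zv G adj α2) (h1 : u ∉ zv G adj δ) (h1' : u' ∉ zv G adj δ) :
    u * u' ∈ zv G adj α := by
  have hα := A.tA_of_not h hδ
  have hα0 := A.tA_of_not h0 hδ
  have hα2 := A.tA_of_not h2 hδ
  obtain ⟨d, hd, hdne⟩ := A.exists_other (A.symm _ _ h)
  obtain ⟨e, he, hene⟩ := A.exists_other (A.symm _ _ hd)
  have heA := A.tA_of_not he (A.tA_not hd hα)
  obtain ⟨z, hz, hz'⟩ := A.exists_outside heA (A.symm _ _ he)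
  obtain ⟨hzn, hzT⟩ := A.out4 hb hu hcr heA (A.symm _ _ he) (A.symm _ _ hd) (A.symm _ _ h) hene
    hdne hz hz'
  have hzT' : z ∈ Gs G δ ⊓ Gs G α := ⟨hzT.2, hzT.1⟩
  have hz0 : z • α0 = α2 := A.third h h0 h2 e0 e2.symm e02.symm hzT' hzn
  have hw := A.formula_mid hb hu hcr hα0 (A.symm _ _ h0) h (A.symm _ _ (A.symm _ _ hd)) he e0.symm
    hdne.symm hene.symm hu0 h1 hz hz'
  have hzu : z * u * z⁻¹ ∈ zv G adj α2 := by rw [← hz0, A.zv_smul]; exact ⟨u, hu0, rfl⟩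
  have hzu' := A.coset hu (A.symm _ _ h2) hα2 hzu hu2 (A.conj_not_mem hδ hzT'.1 h1) h1'
  rw [(A.comm_invol (A.sq_one hu0) (A.sq_one hz)).1] at hw
  have := mul_mem hw (A.zvB_le (A.symm _ _ h) hα hzu')
  rwa [show u * (z * u * z⁻¹) * (z * u * z⁻¹ * u') = u * u' by
    rw [mul_assoc u, ← mul_assoc (z * u * z⁻¹) (z * u * z⁻¹), A.sq_one hzu, one_mul]] at this

theorem vv_le_sup {δ α γ : V} (hδ : ¬ tA δ) (h : adj δ α) (hγ : adj δ γ) (hne : α ≠ γ) :
    vv G adj δ ≤ zv G adj α ⊔ zv G adj γ := iSup_le fun w => by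
  by_cases e1 : (w : V) = α
  · rw [e1]; exact le_sup_left
  by_cases e2 : (w : V) = γ
  · rw [e2]; exact le_sup_right
  intro p hp
  by_cases hp1 : p ∈ zv G adj δ
  · exact le_sup_left (b := zv G adj γ) (A.zvB_le (A.symm _ _ h) (A.tA_of_not h hδ) hp1)
  obtain ⟨q, hq, hq'⟩ := A.exists_outside (A.tA_of_not hγ hδ) (A.symm _ _ hγ)
  have h9 := A.vrel hb hu hcr hδ h w.2 hγ (Ne.symm e1) hne e2 hp hq hp1 hq'
  exact ((zv G adj α ⊔ zv G adj γ).mul_mem_cancel_right (le_sup_right (a := zv G adj α) hq)).1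
    (le_sup_left (b := zv G adj γ) h9)

omit hu hcr in
theorem fix_nbr {a β w : V} (ha : tA a) (hβ : adj a β) (hw : adj β w) {p : G} (hp : p ∈ Qs G a)
    (hc : p ∈ centralizer (vv G adj β : Set G)) : p • w = w :=
  A.fix_of_normalizes (A.tA_not hβ ha) hw (A.qs_le_edge hβ hp).2 fun q hq => by
    rw [← mem_centralizer_iff.1 hc q (zv_le_vv hw hq), mul_inv_cancel_right]
    exact hq

omit hu hcr in
theorem qs_far {a β α : V} (ha : tA a) (hβ : adj a β) (hα : adj β α) {p : G} (hp : p ∈ Qs G a)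
    (hc : p ∈ centralizer (vv G adj β : Set G)) : p ∈ Qs G α :=
  A.qs_cA (A.tA_of_not hα (A.tA_not hβ ha))
    (MulAction.mem_stabilizer_iff.2 (A.fix_nbr hb ha hβ hα hp hc))
    (mem_centralizer_iff.2 fun q hq => mem_centralizer_iff.1 hc q (zv_le_vv hα hq))

theorem comm_z {a β α2 d e : V} (ha : tA a) (h1 : adj a β) (h2 : adj β α2) (h3 : adj α2 d)
    (h4 : adj d e) (n0 : a ≠ α2) (n1 : β ≠ d) (n2 : α2 ≠ e) {p z : G} (hp : p ∈ Qs G a)
    (hc : p ∈ centralizer (vv G adj β : Set G)) (hz : z ∈ zv G adj e) (hz' : z ∉ zv G adj d) :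
    ⁅p, z⁆ ∈ zv G adj α2 := by
  have hα2 : tA α2 := A.tA_of_not h2 (A.tA_not h1 ha)
  have heA : tA e := A.tA_of_not h4 (A.tA_not h3 hα2)
  have hcase : ∀ {p : G}, p ∈ Qs G a → p ∈ centralizer (vv G adj β : Set G) → p ∈ Qs G d →
      ⁅p, z⁆ ∈ zv G adj α2 := by
    intro p hp hc hpd
    by_cases hpe : p ∈ Qs G e
    · rw [commutatorElement_eq_one_iff_commute.2 (A.commute_qs hpe hz)]; exact one_mem _
    have hT : p ∈ Gs G e ⊓ Gs G d := ⟨(A.qs_le_edge h4 hpd).2, qs_le _ hpd⟩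
    have hze := (mem_normalizer_iff.1 (A.zv_normal _ hT.1) z).1 hz
    refine A.zvB_le h3 hα2 ?_
    rw [commutatorElement_def, A.inv_eq hz, (A.zv_commute hze hz).eq]
    exact A.decomp (A.symm _ _ h4) heA hT hpe hz
  have hpα : p ∈ Qs G α2 := A.qs_far hb ha h1 h2 hp hc
  by_cases hpd : p ∈ Qs G d
  · exact hcase hp hc hpd
  obtain ⟨x, hx, hx'⟩ := A.exists_outside ha h1
  obtain ⟨hxd, hxT⟩ := A.out4 hb hu hcr ha h1 h2 h3 n0 n1 hx hx'
  have hpT : p ∈ Gs G d ⊓ Gs G α2 := ⟨(A.qs_le_edge h3 hpα).2, qs_le _ hpα⟩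
  have hxc : x ∈ centralizer (vv G adj β : Set G) := mem_centralizer_iff.2 fun q hq =>
    (A.vv_commute hb le_rfl (A.tA_not h1 ha) hq (zv_le_vv (A.symm _ _ h1) hx)).eq
  have h9 := hcase (mul_mem hp (A.zv_le a hx).1) (mul_mem hc hxc)
    (A.mul_mem_qs (A.symm _ _ h3) hpT ⟨hxT.2, hxT.1⟩ hpd hxd)
  have hr := A.formula_mid hb hu hcr ha h1 h2 h3 h4 n0 n1 n2 hx hx' hz hz'
  have hpr : p * ⁅x, z⁆ * p⁻¹ = ⁅x, z⁆ := by
    rw [← mem_centralizer_iff.1 hc _ (zv_le_vv h2 hr), mul_inv_cancel_right]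
  have e : ⁅p * x, z⁆ = ⁅x, z⁆ * ⁅p, z⁆ := by
    calc ⁅p * x, z⁆ = (p * ⁅x, z⁆ * p⁻¹) * ⁅p, z⁆ := by
          simp only [commutatorElement_def]; group
      _ = _ := by rw [hpr]
  rw [e] at h9
  exact ((zv G adj α2).mul_mem_cancel_left hr).1 h9

/-- An element of `Q_a` centralizing two of the three joins: the value is not in its own `Z`. -/
theorem excl_main {a β D O γ : V} (ha : tA a) (hβ : adj a β) (hD : adj a D) (hO : adj a O)
    (nβD : β ≠ D) (nβO : β ≠ O) (nDO : D ≠ O) {p : G} (hp : p ∈ Qs G a)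
    (hcβ : p ∈ centralizer (vv G adj β : Set G)) (hcO : p ∈ centralizer (vv G adj O : Set G))
    (hγ : adj D γ) {m : G} (hm : m ∈ zv G adj γ) (hc : ⁅p, m⁆ ∈ zv G adj D) : ⁅p, m⁆ = 1 := by
  by_contra hne
  have hβB := A.tA_not hβ ha
  have hDB := A.tA_not hD ha
  have hOB := A.tA_not hO ha
  have hγA := A.tA_of_not hγ hDB
  have hγne : γ ≠ a := fun e => hne (commutatorElement_eq_one_iff_commute.2
    (A.commute_qs hp (e ▸ hm)))
  have hm1 : m ∉ zv G adj D := fun e => hne (commutatorElement_eq_one_iff_commute.2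
    (mem_centralizer_iff.1 (A.centralB' hDB (A.qs_le_edge hD hp).2) m e).symm)
  have hmm := A.sq_one hm
  have hfγ : p • γ = γ := by
    by_contra hmv
    refine hm1 ?_
    have h1 : p * m * p⁻¹ ∈ zv G adj γ := by
      rw [show p * m * p⁻¹ = ⁅p, m⁆ * m by rw [commutatorElement_def, inv_mul_cancel_right]]
      exact mul_mem (A.zvB_le (A.symm _ _ hγ) hγA hc) hm
    have h2 : p * m * p⁻¹ ∈ zv G adj (p • γ) := by rw [A.zv_smul]; exact ⟨m, hm, rfl⟩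
    by_contra hm'
    exact A.conj_not_mem hDB (A.qs_le_edge hD hp).2 hm'
      (A.zv_inter hDB hγ (A.adj_smul_left hγ (A.qs_le_edge hD hp).2) (Ne.symm hmv) h1 h2)
  have hQD : p ∈ Qs G D := A.mem_qs_of_fix (A.symm _ _ hD) hγ hγne.symm (A.qs_le_edge hD hp).2
    (MulAction.mem_stabilizer_iff.1 (qs_le _ hp)) hfγ
  obtain ⟨γ', hγ', hγne'⟩ := A.exists_other (A.symm _ _ hO)
  have hγA' := A.tA_of_not hγ' hOB
  have hQO : p ∈ Qs G O := A.mem_qs_of_fix (A.symm _ _ hO) hγ' hγne'.symm (A.qs_le_edge hO hp).2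
    (MulAction.mem_stabilizer_iff.1 (qs_le _ hp)) (A.fix_nbr hb ha hO hγ' hp hcO)
  obtain ⟨n, hn, hn1⟩ := A.exists_outside hγA' (A.symm _ _ hγ')
  obtain ⟨hmQ, hmT⟩ := A.out4 hb hu hcr hγA (A.symm _ _ hγ) (A.symm _ _ hD) hβ hγne nβD.symm hm hm1
  obtain ⟨hnQ, hnT⟩ := A.out4 hb hu hcr hγA' (A.symm _ _ hγ') (A.symm _ _ hO) hβ hγne' nβO.symm
    hn hn1
  have hsQ : m * n ∈ Qs G β := A.mul_mem_qs (A.symm _ _ hβ) ⟨hmT.2, hmT.1⟩ ⟨hnT.2, hnT.1⟩ hmQ hnQ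
  obtain ⟨α2, hα2, hα2ne⟩ := A.exists_other (A.symm _ _ hβ)
  obtain ⟨d, hd, hdne⟩ := A.exists_other (A.symm _ _ hα2)
  obtain ⟨e, he, hene⟩ := A.exists_other (A.symm _ _ hd)
  have hα2A := A.tA_of_not hα2 hβB
  have heA := A.tA_of_not he (A.tA_not hd hα2A)
  obtain ⟨z, hz, hz'⟩ := A.exists_outside heA (A.symm _ _ he)
  obtain ⟨hzn, hzT⟩ := A.out4 hb hu hcr heA (A.symm _ _ he) (A.symm _ _ hd) (A.symm _ _ hα2) hene
    hdne hz hz'
  obtain ⟨hz0, hz2⟩ := A.smul_ne hα2 (A.symm _ _ hβ) hα2ne ⟨hzT.2, hzT.1⟩ hzn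
  set α0 := z • a with hα0def
  have hzβ : z • β = β := MulAction.mem_stabilizer_iff.1 hzT.2
  have hα0 : adj β α0 := A.adj_smul_left (A.symm _ _ hβ) hzT.2
  have hα0A := A.tA_of_not hα0 hβB
  have hPO : adj α0 (z • O) := A.smul z _ _ hO
  have hPD : adj α0 (z • D) := A.smul z _ _ hD
  have hPOβ : z • O ≠ β := fun e => nβO (smul_left_cancel z (hzβ.trans e.symm))
  have hPDβ : z • D ≠ β := fun e => nβD (smul_left_cancel z (hzβ.trans e.symm))
  have hPne : z • O ≠ z • D := fun e => nDO (smul_left_cancel z e).symm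
  -- the element `m n` at `α0`
  have hsT : m * n ∈ Gs G α0 ⊓ Gs G β :=
    ⟨(A.qs_le_edge hα0 hsQ).2, qs_le _ hsQ⟩
  have hsα : m * n ∉ Qs G α0 := by
    intro hs
    obtain ⟨w, hw, hw'⟩ := A.exists_outside hα0A (A.symm _ _ hα0)
    obtain ⟨r1, r1'⟩ := A.formula hb hu hcr hγA (A.symm _ _ hγ) (A.symm _ _ hD) hβ hα0 hγne
      nβD.symm hz0.symm hO nDO.symm nβO.symm hm hm1 hw hw'
    obtain ⟨r2, r2'⟩ := A.formula hb hu hcr hγA' (A.symm _ _ hγ') (A.symm _ _ hO) hβ hα0 hγne'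
      nβO.symm hz0.symm hD nDO nβD.symm hn hn1 hw hw'
    have hmy : Commute m ⁅n, w⁆ := A.comm1 hb (n := 2) (by omega) hγA
      (walk_cons (A.symm _ _ hγ) (walk_one (A.symm _ _ hD))) hm (A.zvB_le hD ha r2)
    have e0 : ⁅m * n, w⁆ = 1 := commutatorElement_eq_one_iff_commute.2 (A.commute_qs hs hw)
    rw [show ⁅m * n, w⁆ = (m * ⁅n, w⁆ * m⁻¹) * ⁅m, w⁆ by simp only [commutatorElement_def]; group,
      hmy.eq, mul_inv_cancel_right] at e0
    have h9 : ⁅n, w⁆ ∈ zv G adj O := by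
      rw [eq_inv_of_mul_eq_one_left e0]; exact inv_mem r1
    exact r2' h9
  have hswap : (m * n) • (z • O) = z • D :=
    A.third (A.symm _ _ hα0) hPO hPD hPOβ.symm hPDβ hPne.symm hsT hsα
  have hsp : (m * n) * p * (m * n)⁻¹ = ⁅p, m⁆ * p := by
    have h1 : n * p * n⁻¹ = p := by
      rw [mem_centralizer_iff.1 hcO n (zv_le_vv hγ' hn), mul_inv_cancel_right]
    have h2 : m * p * m⁻¹ = ⁅p, m⁆⁻¹ * p := by rw [commutatorElement_def]; group
    rw [show (m * n) * p * (m * n)⁻¹ = m * (n * p * n⁻¹) * m⁻¹ by group, h1, h2,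
      A.inv_eq (A.zvB_le hD ha hc)]
  have hca : ⁅p, m⁆ ∈ zv G adj a := A.zvB_le hD ha hc
  have hcβ' : ⁅p, m⁆ ∉ zv G adj β := fun e => hne (A.yDisj hβ hD nβD ha e hc)
  obtain ⟨hcn, hcT⟩ := A.out4 hb hu hcr ha hβ hα0 hPD hz0.symm hPDβ.symm hca hcβ'
  have hp0 : p ∈ Qs G α0 := A.qs_far hb ha hβ hα0 hp hcβ
  have hpT : p ∈ Gs G (z • D) ⊓ Gs G α0 := ⟨(A.qs_le_edge hPD hp0).2, qs_le _ hp0⟩
  have hxor : p ∈ Qs G (z • O) ↔ p ∉ Qs G (z • D) := by
    have hqs : p ∈ Qs G (z • O) ↔ ⁅p, m⁆ * p ∈ Qs G (z • D) := by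
      rw [← hswap, qs_smul _ (z • O), ← hsp]
      exact ⟨fun h => ⟨p, h, rfl⟩, fun ⟨q, hq, e⟩ => (MulAut.conj (m * n)).injective e ▸ hq⟩
    rw [hqs]
    refine ⟨fun h1 h2 => hcn (((Qs G (z • D)).mul_mem_cancel_right h2).1 h1), fun h2 => ?_⟩
    exact A.mul_mem_qs (A.symm _ _ hPD) ⟨hcT.2, hcT.1⟩ hpT hcn h2
  -- both vertices see `p` alike
  have hv : ⁅p⁻¹, z⁆ ∈ zv G adj α2 := A.comm_z hb hu hcr ha hβ hα2 hd he hα2ne.symm hdne.symm
    hene.symm (inv_mem hp) (inv_mem hcβ) hz hz'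
  have htr : ∀ {P : V}, adj a P → β ≠ P → p ∈ Qs G P →
      (p ∈ Qs G (z • P) ↔ ⁅p⁻¹, z⁆ ∈ zv G adj β) := by
    intro P hP hne' hpP
    have e1 : z⁻¹ * p * z = p * ⁅p⁻¹, z⁆ := by
      rw [commutatorElement_def, inv_inv, A.inv_eq hz]; group
    have h1 : p ∈ Qs G (z • P) ↔ p * ⁅p⁻¹, z⁆ ∈ Qs G P := by
      rw [qs_smul, ← e1]
      constructor
      · rintro ⟨q, hq, rfl⟩
        show z⁻¹ * (z * q * z⁻¹) * z ∈ Qs G P
        rwa [show z⁻¹ * (z * q * z⁻¹) * z = q by group]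
      · intro hq
        exact ⟨_, hq, show z * (z⁻¹ * p * z) * z⁻¹ = p by group⟩
    rw [h1, (Qs G P).mul_mem_cancel_left hpP]
    refine ⟨fun hQ => ?_, fun hY => ?_⟩
    · by_contra hY
      exact (A.out4 hb hu hcr hα2A (A.symm _ _ hα2) (A.symm _ _ hβ) hP hα2ne hne' hv hY).1 hQ
    · exact hb 1 a P (by omega) ha (walk_one hP) (A.zvB_le hβ ha hY)
  have k1 := htr hO nβO hQO
  have k2 := htr hD nβD hQD
  tauto

/-- An element of `Q_a` centralizing two of the three joins centralizes the third. -/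
theorem excl {a β D O : V} (ha : tA a) (hβ : adj a β) (hD : adj a D) (hO : adj a O)
    (nβD : β ≠ D) (nβO : β ≠ O) (nDO : D ≠ O) {p : G} (hp : p ∈ Qs G a)
    (hcD : p ∈ centralizer (vv G adj D : Set G)) (hcO : p ∈ centralizer (vv G adj O : Set G)) :
    p ∈ centralizer (vv G adj β : Set G) := by
  refine Subgroup.le_centralizer_iff.1 (iSup_le fun w => fun m hm => mem_centralizer_iff.2
    fun q hq => ?_) (mem_zpowers p)
  obtain ⟨k, rfl⟩ := mem_zpowers_iff.1 hq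
  refine (Commute.zpow_left ?_ k).eq
  obtain ⟨γ, hγ⟩ := w
  change m ∈ zv G adj γ at hm
  have hβB := A.tA_not hβ ha
  have hγA := A.tA_of_not hγ hβB
  have hpβ : p ∈ Gs G β := (A.qs_le_edge hβ hp).2
  by_cases hγa : γ = a
  · exact A.commute_qs hp (hγa ▸ hm)
  by_cases hm1 : m ∈ zv G adj β
  · exact (mem_centralizer_iff.1 (A.centralB' hβB hpβ) m hm1).symm
  rw [← commutatorElement_eq_one_iff_commute]
  -- a product of two movers of `β` lies in `zv a`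
  have hz_a : ∀ {g : G} {γ : V} {m : G}, g ∈ Gs G a → g ∈ Gs G β → adj β γ → γ ≠ a →
      m ∈ zv G adj γ → m ∉ zv G adj β → g * m * g⁻¹ * m ∈ zv G adj a := by
    intro g γ m hga hgb hγ hγa hm hm1
    have hi : g * m * g⁻¹ ∈ zv G adj (g • γ) := by rw [A.zv_smul]; exact ⟨m, hm, rfl⟩
    have hi1 := A.conj_not_mem hβB hgb hm1
    have hγ' := A.adj_smul_left hγ hgb
    by_cases e : g • γ = γ
    · rw [e] at hi
      exact A.zvB_le hβ ha (A.coset hu (A.symm _ _ hγ) (A.tA_of_not hγ hβB) hi hm hi1 hm1)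
    · refine A.vrel hb hu hcr hβB (A.symm _ _ hβ) hγ' hγ (fun e' => hγa ?_) (Ne.symm hγa) e hi hm
        hi1 hm1
      exact (smul_left_cancel g ((MulAction.mem_stabilizer_iff.1 hga).trans e')).symm
  have hcD' : ⁅p, m⁆ ∈ zv G adj a := by
    rw [commutatorElement_def, A.inv_eq hm]
    exact hz_a (qs_le _ hp) hpβ hγ hγa hm hm1
  have hmain : ∀ {q : G}, q ∈ Qs G a → q ∈ centralizer (vv G adj D : Set G) →
      q ∈ centralizer (vv G adj O : Set G) → ⁅q, m⁆ ∈ zv G adj β → ⁅q, m⁆ = 1 :=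
    fun {q} h1 h2 h3 h4 => A.excl_main hb hu hcr ha hD hβ hO nβD.symm nDO nβO h1 h2 h3 hγ hm h4
  by_cases hc : ⁅p, m⁆ ∈ zv G adj β
  · exact hmain hp hcD hcO hc
  obtain ⟨t, ht, ht'⟩ := A.exists_edge_not_qs hβ
  have htD : t • D = O := A.third hβ hD hO nβD nβO.symm nDO.symm ht ht'
  have htO : t • O = D := A.third hβ hO hD nβO nβD.symm nDO ht ht'
  have hcen : ∀ {v : V}, p ∈ centralizer (vv G adj v : Set G) →
      t * p * t⁻¹ ∈ centralizer (vv G adj (t • v) : Set G) := fun {v} h =>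
    mem_centralizer_iff.2 fun q hq => by
      rw [A.vv_smul] at hq
      obtain ⟨q, hq, rfl⟩ := hq
      show MulAut.conj t q * MulAut.conj t p = MulAut.conj t p * MulAut.conj t q
      rw [← map_mul, ← map_mul, mem_centralizer_iff.1 h q hq]
  have hp' : t * p * t⁻¹ ∈ Qs G a := (mem_normalizer_iff.1 (A.qs_normal a ht.1) p).1 hp
  have hp'D : t * p * t⁻¹ ∈ centralizer (vv G adj D : Set G) := htO ▸ hcen hcO
  have hp'O : t * p * t⁻¹ ∈ centralizer (vv G adj O : Set G) := htD ▸ hcen hcD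
  have ha1 := hz_a ht.1 ht.2 hγ hγa hm hm1
  have hma : Commute m (t * m * t⁻¹ * m) := A.vv_commute hb le_rfl hβB (zv_le_vv hγ hm)
    (zv_le_vv (A.symm _ _ hβ) ha1)
  have hpa : Commute (t * p * t⁻¹) (t * m * t⁻¹ * m) := A.commute_qs hp' ha1
  set a1 := t * m * t⁻¹ * m with ha1def
  have etm : t * m * t⁻¹ = a1 * m := by rw [ha1def, mul_assoc _ m m, A.sq_one hm, mul_one]
  have ec : t * ⁅p, m⁆ * t⁻¹ = ⁅t * p * t⁻¹, m⁆ := by
    have h1 : t * ⁅p, m⁆ * t⁻¹ = ⁅t * p * t⁻¹, t * m * t⁻¹⁆ := by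
      simp only [commutatorElement_def]; group
    rw [h1, etm, commutatorElement_def, commutatorElement_def,
      show t * p * t⁻¹ * (a1 * m) * (t * p * t⁻¹)⁻¹ * (a1 * m)⁻¹ =
        (t * p * t⁻¹ * a1 * (t * p * t⁻¹)⁻¹) * (t * p * t⁻¹ * m * (t * p * t⁻¹)⁻¹ * m⁻¹) * a1⁻¹ by
        group, hpa.eq, mul_inv_cancel_right]
    have hc2 : Commute a1 (t * p * t⁻¹ * m * (t * p * t⁻¹)⁻¹ * m⁻¹) :=
      ((hpa.symm.mul_right hma.symm).mul_right hpa.symm.inv_right).mul_right hma.symm.inv_right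
    rw [hc2.eq, mul_inv_cancel_right]
  have hdec : ⁅p, m⁆ * (t * ⁅p, m⁆ * t⁻¹) ∈ zv G adj β := A.decomp hβ ha ht ht' hcD'
  have htc : t * ⁅p, m⁆ * t⁻¹ ∈ zv G adj a := (mem_normalizer_iff.1 (A.zv_normal _ ht.1) _).1 hcD'
  have epp : ⁅p * (t * p * t⁻¹), m⁆ = ⁅p, m⁆ * (t * ⁅p, m⁆ * t⁻¹) := by
    calc ⁅p * (t * p * t⁻¹), m⁆ = (p * ⁅t * p * t⁻¹, m⁆ * p⁻¹) * ⁅p, m⁆ := by
          simp only [commutatorElement_def]; group
      _ = (t * ⁅p, m⁆ * t⁻¹) * ⁅p, m⁆ := by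
          rw [← ec, (A.commute_qs hp htc).eq, mul_inv_cancel_right]
      _ = _ := (A.zv_commute htc hcD').eq
  have h9 := hmain (mul_mem hp hp') (mul_mem hcD hp'D) (mul_mem hcO hp'O) (epp ▸ hdec)
  rw [epp] at h9
  exfalso
  refine hc (A.mem_zvB_of_commute hβ ha ht ht' hcD' (mul_inv_eq_iff_eq_mul.1 ?_))
  rw [eq_inv_of_mul_eq_one_right h9, A.inv_eq hcD']

theorem cc_index {a β : V} (ha : tA a) (hβ : adj a β) {α : V} (hα : adj β α) (hαne : α ≠ a) :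
    (cc G adj α).relIndex (cc G adj a) ≤ 2 ∧
      ∀ w, adj β w → w ≠ a → ∀ c ∈ cc G adj a, c ∈ cc G adj α → c ∈ cc G adj w := by
  have hβB := A.tA_not hβ ha
  have hA : ∀ {w}, adj β w → tA w := fun hw => A.tA_of_not hw hβB
  have hWv : ∀ {v d : V}, adj v d → vv G adj d ≤ ww G adj v := vv_le_ww
  have hcv : ∀ {v d : V} {c : G}, adj v d → c ∈ cc G adj v →
      c ∈ centralizer (vv G adj d : Set G) :=
    fun hd hc => mem_centralizer_iff.2 fun q hq => mem_centralizer_iff.1 hc.2 q (hWv hd hq)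
  obtain ⟨δ, hδ, hδne⟩ := A.exists_other hβ
  obtain ⟨γ, hγ, hγne⟩ := A.exists_other (A.symm _ _ hδ)
  have hγA := A.tA_of_not hγ (A.tA_not hδ ha)
  obtain ⟨m, hm, hm1⟩ := A.exists_outside hγA (A.symm _ _ hγ)
  obtain ⟨hmn, hmT⟩ := A.out4 hb hu hcr hγA (A.symm _ _ hγ) (A.symm _ _ hδ) hβ hγne hδne hm hm1
  have htrans : ∀ w, adj β w → w ≠ a → ∀ c ∈ cc G adj a, c ∈ cc G adj α → c ∈ cc G adj w := by
    intro w hw hwa c hca hcα
    by_cases e : w = α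
    · rwa [e]
    rw [← A.third (A.symm _ _ hβ) hα hw hαne.symm hwa e ⟨hmT.2, hmT.1⟩ hmn]
    have h1 := A.cc_smul (g := m) hcα
    rwa [mem_centralizer_iff.1 (hcv hδ hca) m (zv_le_vv hγ hm), mul_inv_cancel_right] at h1
  obtain ⟨α2, hα2, hα2a, hα2α⟩ := A.exists_third (A.symm _ _ hβ) hα hαne.symm
  obtain ⟨d, hd, hdne⟩ := A.exists_other (A.symm _ _ hα2)
  obtain ⟨e, he, hene⟩ := A.exists_other (A.symm _ _ hd)
  have heA := A.tA_of_not he (A.tA_not hd (hA hα2))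
  obtain ⟨z, hz, hz'⟩ := A.exists_outside heA (A.symm _ _ he)
  obtain ⟨hzn, hzT⟩ := A.out4 hb hu hcr heA (A.symm _ _ he) (A.symm _ _ hd) (A.symm _ _ hα2) hene
    hdne hz hz'
  have hzT' : z ∈ Gs G β ⊓ Gs G α2 := ⟨hzT.2, hzT.1⟩
  have hza : z • a = α := A.third hα2 (A.symm _ _ hβ) hα hα2a hα2α.symm hαne hzT' hzn
  have hvn := A.vv_normal (G := G) β
  have hvz : ∀ {q : G}, q ∈ zv G adj α2 → Commute q z := fun {q} hq =>
    (A.comm1 hb (n := 2) (by omega) heA (walk_cons (A.symm _ _ he) (walk_one (A.symm _ _ hd)))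
      hz hq).symm
  set A1 := cc G adj a ⊔ vv G adj β with hA1
  have hN : Gs G β ≤ normalizer (A1 : Set G) := by
    have hsub : ∀ {g : G}, g ∈ Gs G β → (∀ c ∈ cc G adj a, g * c * g⁻¹ ∈ A1) →
        cj g A1 ≤ A1 := fun {g} hg h1 => by
      show Subgroup.map _ _ ≤ _
      rw [hA1, Subgroup.map_sup]
      refine sup_le ?_ ?_
      · rintro _ ⟨c, hc, rfl⟩; exact h1 c hc
      · rintro _ ⟨c, hc, rfl⟩
        exact le_sup_right (a := cc G adj a) ((mem_normalizer_iff.1 (hvn hg) c).1 hc)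
    have hpush : ∀ {g : G}, cj g A1 ≤ A1 → cj g⁻¹ A1 ≤ A1 → g ∈ normalizer (A1 : Set G) :=
      fun {g} h1 h2 => mem_normalizer_iff.2 fun y => ⟨fun hy => h1 ⟨y, hy, rfl⟩, fun hy => by
        have := h2 ⟨_, hy, rfl⟩
        simpa [mul_assoc] using this⟩
    refine A.le_of_edge (A.symm _ _ hβ) (fun g hg => ?_) hzT'.1
      (by rw [hza]; exact hαne) ?_
    · have key : ∀ g ∈ Gs G β ⊓ Gs G a, cj g A1 ≤ A1 := fun g hg => hsub hg.1 fun c hc => by
        have := A.cc_smul (g := g) hc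
        rw [MulAction.mem_stabilizer_iff.1 hg.2] at this
        exact le_sup_left (b := vv G adj β) this
      exact hpush (key g hg) (key _ ((Gs G β ⊓ Gs G a).inv_mem hg))
    · have h1 : cj z A1 ≤ A1 := hsub hzT'.1 fun c hc => by
        have h9 := A.comm_z hb hu hcr ha hβ hα2 hd he hα2a.symm hdne.symm hene.symm
          (inv_mem hc.1) (inv_mem (hcv hβ hc)) hz hz'
        have e1 : z * c * z⁻¹ = c * ⁅c⁻¹, z⁆ := by rw [commutatorElement_def, inv_inv]; group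
        rw [e1]
        exact mul_mem (le_sup_left (b := vv G adj β) hc)
          (le_sup_right (a := cc G adj a) (zv_le_vv hα2 h9))
      exact hpush h1 (by rwa [A.inv_eq hz])
  obtain ⟨g, hg, hga⟩ := A.trans β a α2 (A.symm _ _ hβ) hα2
  have hA12 : A1 ≤ cc G adj α2 ⊔ vv G adj β := by
    intro p hp
    have h1 : g⁻¹ * p * g⁻¹⁻¹ ∈ A1 := (mem_normalizer_iff.1 (hN ((Gs G β).inv_mem hg)) p).1 hp
    have h2 : cj g A1 ≤ cc G adj α2 ⊔ vv G adj β := by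
      show Subgroup.map _ _ ≤ _
      rw [hA1, Subgroup.map_sup]
      refine sup_le_sup ?_ ?_
      · rintro _ ⟨c, hc, rfl⟩; rw [← hga]; exact A.cc_smul hc
      · rintro _ ⟨c, hc, rfl⟩; exact (mem_normalizer_iff.1 (hvn hg) c).1 hc
    exact h2 ⟨_, h1, show g * (g⁻¹ * p * g⁻¹⁻¹) * g⁻¹ = p by group⟩
  obtain ⟨x, hx, hx1⟩ := A.exists_outside ha hβ
  have hxc : x ∈ cc G adj a := by
    refine ⟨(A.zv_le a hx).1, ?_⟩
    refine Subgroup.le_centralizer_iff.1 (iSup_le fun d => iSup_le fun w => fun q hq =>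
      mem_centralizer_iff.2 fun x hx => ?_) hx
    exact (A.comm1 hb (n := 2) (by omega) ha (walk_cons d.2 (walk_one w.2)) hx hq).eq
  refine ⟨relIndex_le_two hxc fun c hc => ?_, htrans⟩
  have hc' := hA12 (le_sup_left (b := vv G adj β) hc)
  have hnor : cc G adj α2 ≤ normalizer (vv G adj β : Set G) :=
    fun p hp => centralizer_le_normalizer _ (hcv (A.symm _ _ hα2) hp)
  rw [← SetLike.mem_coe, coe_mul_of_left_le_normalizer_right _ _ hnor] at hc'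
  obtain ⟨c2, hc2, v, hv, rfl⟩ := hc'
  have hzc2 : Commute c2 z := (mem_centralizer_iff.1 (hcv hd hc2) z (zv_le_vv he hz)).symm
  have hv' := A.vv_le_sup hb hu hcr hβB (A.symm _ _ hβ) hα2 hα2a.symm hv
  have hn2 : zv G adj a ≤ normalizer (zv G adj α2 : Set G) := fun p hp =>
    centralizer_le_normalizer _ (mem_centralizer_iff.2 fun q hq =>
      (A.vv_commute hb le_rfl hβB (zv_le_vv hα2 hq) (zv_le_vv (A.symm _ _ hβ) hp)).eq)
  rw [← SetLike.mem_coe, coe_mul_of_left_le_normalizer_right _ _ hn2] at hv'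
  obtain ⟨a1, ha1, b2, hb2, rfl⟩ := hv'
  have hY : ∀ {q : G}, q ∈ zv G adj β → Commute q z := fun {q} hq =>
    mem_centralizer_iff.1 (A.centralB' hβB hzT'.1) q hq
  have hfin : ∀ {c : G}, c ∈ cc G adj a → Commute c z → c ∈ cc G adj α := fun {c} h1 h2 => by
    have := A.cc_smul (g := z) h1
    rwa [hza, h2.symm.eq, mul_inv_cancel_right] at this
  by_cases ha1Y : a1 ∈ zv G adj β
  · exact Or.inl (hfin hc (hzc2.mul_left ((hY ha1Y).mul_left (hvz hb2))))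
  · refine Or.inr (hfin (mul_mem hc hxc) ?_)
    have hxb : Commute b2 x := A.vv_commute hb le_rfl hβB (zv_le_vv hα2 hb2)
      (zv_le_vv (A.symm _ _ hβ) hx)
    rw [show c2 * (a1 * b2) * x = c2 * ((a1 * x) * b2) by
      rw [mul_assoc c2, mul_assoc a1, hxb.eq, mul_assoc a1]]
    exact hzc2.mul_left ((hY (A.coset hu hβ ha ha1 hx ha1Y hx1)).mul_left (hvz hb2))

theorem card_cc {a β : V} (ha : tA a) (hβ : adj a β) : Nat.card ↥(cc G adj a) ≤ 4 := by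
  obtain ⟨δ, hδ, hne⟩ := A.exists_other hβ
  obtain ⟨δ', hδ', hδ'β, hδ'δ⟩ := A.exists_third hβ hδ hne.symm
  obtain ⟨γ, hγ, hγne⟩ := A.exists_other (A.symm _ _ hδ)
  obtain ⟨γ', hγ', hγne'⟩ := A.exists_other (A.symm _ _ hδ')
  obtain ⟨i1, t1⟩ := A.cc_index hb hu hcr ha hδ hγ hγne
  obtain ⟨i2, t2⟩ := A.cc_index hb hu hcr ha hδ' hγ' hγne'
  set K := cc G adj a ⊓ (cc G adj γ ⊓ cc G adj γ') with hK
  have hKbot : K = ⊥ := by
    by_contra hne0
    have hKn : Gs G a ⊓ Gs G β ≤ normalizer (K : Set G) := by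
      have key : ∀ g ∈ Gs G a ⊓ Gs G β, ∀ p ∈ K, g * p * g⁻¹ ∈ K := by
        intro g hg p hp
        have hga := MulAction.mem_stabilizer_iff.1 hg.1
        have hgb := MulAction.mem_stabilizer_iff.1 hg.2
        have h0 := A.cc_smul (g := g) hp.1
        rw [hga] at h0
        have h1 := A.cc_smul (g := g) hp.2.1
        have h2 := A.cc_smul (g := g) hp.2.2
        have n1 : g • γ ≠ a := fun e => hγne (smul_left_cancel g (e.trans hga.symm))
        have n2 : g • γ' ≠ a := fun e => hγne' (smul_left_cancel g (e.trans hga.symm))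
        have a1 : adj (g • δ) (g • γ) := A.smul g _ _ hγ
        have a2 : adj (g • δ') (g • γ') := A.smul g _ _ hγ'
        rcases A.nbr3 hβ hδ hδ' (A.adj_smul_left hδ hg.1) hne.symm hδ'β.symm hδ'δ.symm
          with e | e | e
        · exact absurd (smul_left_cancel g (e.trans hgb.symm)) hne
        all_goals rcases A.nbr3 hβ hδ hδ' (A.adj_smul_left hδ' hg.1) hne.symm hδ'β.symm hδ'δ.symm
          with e' | e' | e'
        all_goals first
          | exact absurd (smul_left_cancel g (e'.trans hgb.symm)) hδ'β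
          | exact absurd (smul_left_cancel g (e'.trans e.symm)) hδ'δ
          | skip
        · rw [e] at a1
          rw [e'] at a2
          obtain ⟨-, s1⟩ := A.cc_index hb hu hcr ha hδ a1 n1
          obtain ⟨-, s2⟩ := A.cc_index hb hu hcr ha hδ' a2 n2
          exact ⟨h0, s1 γ hγ hγne _ h0 h1, s2 γ' hγ' hγne' _ h0 h2⟩
        · rw [e] at a1
          rw [e'] at a2
          obtain ⟨-, s1⟩ := A.cc_index hb hu hcr ha hδ' a1 n1
          obtain ⟨-, s2⟩ := A.cc_index hb hu hcr ha hδ a2 n2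
          exact ⟨h0, s2 γ hγ hγne _ h0 h2, s1 γ' hγ' hγne' _ h0 h1⟩
      refine fun g hg => mem_normalizer_iff.2 fun p => ⟨key g hg p, fun hp => ?_⟩
      have := key _ ((Gs G a ⊓ Gs G β).inv_mem hg) _ hp
      simpa [mul_assoc] using this
    obtain ⟨y, hy, hye, hy1⟩ := A.tnorm hβ (show K ≤ _ from fun p hp => A.qs_le_edge hβ hp.1.1) hKn hne0
    rw [← A.zvB' hβ ha] at hye
    have hγA := A.tA_of_not hγ (A.tA_not hδ ha)
    obtain ⟨ε, hε, hεne⟩ := A.exists_other (A.symm _ _ hγ)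
    obtain ⟨e, he, hene⟩ := A.exists_other (A.symm _ _ hε)
    obtain ⟨z, hz, hz'⟩ := A.exists_outside (A.tA_of_not he (A.tA_not hε hγA)) (A.symm _ _ he)
    have hyδ : y ∉ zv G adj δ := fun e => hy1 (A.yDisj hβ hδ hne.symm ha hye e)
    obtain ⟨d, hd, hd1, hd3⟩ := A.exists_third (A.symm _ _ hγ) hε hεne.symm
    obtain ⟨-, r1⟩ := A.formula hb hu hcr ha hδ hγ hε he hγne.symm hεne.symm hene.symm hd hd1 hd3
      (A.zvB_le hβ ha hye) hyδ hz hz'
    refine r1 ?_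
    rw [commutatorElement_eq_one_iff_commute.2
      (mem_centralizer_iff.1 hy.2.1.2 z (vv_le_ww hε (zv_le_vv he hz))).symm]
    exact one_mem _
  have h4 : (cc G adj γ ⊓ cc G adj γ').relIndex (cc G adj a) ≤ 4 :=
    relIndex_inf_le.trans (Nat.mul_le_mul i1 i2)
  rwa [← inf_relIndex_left, ← hK, hKbot, relIndex_bot_left] at h4

/-- The bound in distance three. -/
theorem bound_three' {a β : V} (ha : tA a) (hβ : adj a β) :
    Nat.card ↥(Gs G a ⊓ Gs G β) ≤ 128 := by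
  obtain ⟨δ, hδ, hne⟩ := A.exists_other hβ
  obtain ⟨δ', hδ', hδ'β, hδ'δ⟩ := A.exists_third hβ hδ hne.symm
  obtain ⟨γ, hγ, hγne⟩ := A.exists_other (A.symm _ _ hδ)
  obtain ⟨γ', hγ', hγne'⟩ := A.exists_other (A.symm _ _ hδ')
  set H2 : Subgroup G := Qs G a ⊓ (Qs G δ ⊓ Qs G δ') with hH2
  set M : Subgroup G := Qs G γ ⊓ Qs G γ' with hM
  have := A.finite_sub (qs_le (G := G) a)
  have hvc : ∀ {d w : V}, adj a d → adj d w → a ≠ w → ∀ {p : G}, p ∈ Qs G a → p ∈ Qs G w →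
      p ∈ centralizer (vv G adj d : Set G) := by
    intro d w hd hw hne' p hpa hpw
    refine Subgroup.le_centralizer_iff.1 ((A.vv_le_sup hb hu hcr (A.tA_not hd ha) (A.symm _ _ hd)
      hw hne').trans (sup_le (fun q hq => ?_) (fun q hq => ?_))) (mem_zpowers p)
    all_goals
      refine mem_centralizer_iff.2 fun r hr => ?_
      obtain ⟨k, rfl⟩ := mem_zpowers_iff.1 hr
      refine (Commute.zpow_left ?_ k).eq
    · exact A.commute_qs hpa hq
    · exact A.commute_qs hpw hq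
  have hsub : H2 ⊓ M ≤ cc G adj a := by
    rintro p ⟨⟨hpa, -, -⟩, hp1, hp2⟩
    have c1 := hvc hδ hγ hγne.symm hpa hp1
    have c2 := hvc hδ' hγ' hγne'.symm hpa hp2
    refine ⟨hpa, Subgroup.le_centralizer_iff.1 (iSup_le fun d => fun q hq =>
      mem_centralizer_iff.2 fun r hr => ?_) (mem_zpowers p)⟩
    obtain ⟨k, rfl⟩ := mem_zpowers_iff.1 hr
    refine (Commute.zpow_left ?_ k).eq
    refine (mem_centralizer_iff.1 (?_ : p ∈ centralizer (vv G adj (d : V) : Set G)) q hq).symm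
    rcases A.nbr3 hβ hδ hδ' d.2 hne.symm hδ'β.symm hδ'δ.symm with e | e | e <;> rw [e]
    · exact A.excl hb hu hcr ha hβ hδ hδ' hne.symm hδ'β.symm hδ'δ.symm hpa c1 c2
    · exact c1
    · exact c2
  have hle1 := A.relIndex_qs_le (A.symm _ _ hδ) (H := Qs G a)
    (fun g hg => ⟨(A.qs_le_edge hδ hg).2, (A.qs_le_edge hδ hg).1⟩)
  have hle2 := A.relIndex_qs_le (A.symm _ _ hδ') (H := Qs G a)
    (fun g hg => ⟨(A.qs_le_edge hδ' hg).2, (A.qs_le_edge hδ' hg).1⟩)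
  have h4 : H2.relIndex (Qs G a) ≤ 4 := by
    rw [hH2, inf_relIndex_left]
    exact relIndex_inf_le.trans (Nat.mul_le_mul hle1 hle2)
  have hd1 : H2 ≤ Qs G δ := inf_le_right.trans inf_le_left
  have hd2 : H2 ≤ Qs G δ' := inf_le_right.trans inf_le_right
  have hQ : ∀ {d w : V}, adj d w → H2 ≤ Qs G d → (Qs G w).relIndex H2 ≤ 2 := fun {d w} h hle =>
    A.relIndex_qs_le (A.symm _ _ h) fun g hg =>
      ⟨(A.qs_le_edge h (hle hg)).2, (A.qs_le_edge h (hle hg)).1⟩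
  have h16 : M.relIndex H2 ≤ 2 * 2 :=
    relIndex_inf_le.trans (Nat.mul_le_mul (hQ hγ hd1) (hQ hγ' hd2))
  rw [← inf_relIndex_left] at h16
  have hC := A.card_cc hb hu hcr ha hβ
  have hcardle : Nat.card ↥(H2 ⊓ M) ≤ 4 := by
    have : Finite ↥(cc G adj a) := A.finite_sub (show cc G adj a ≤ Gs G a from inf_le_left.trans (qs_le a))
    exact (Subgroup.card_le_of_le hsub).trans hC
  have e1 := Coprime.card_mul_relIndex_of_le (inf_le_left : H2 ⊓ M ≤ H2)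
  have e2 := Coprime.card_mul_relIndex_of_le (inf_le_left : H2 ≤ Qs G a)
  rw [A.card_edge hβ]
  have e3 : Nat.card ↥H2 ≤ 4 * (2 * 2) := e1 ▸ Nat.mul_le_mul hcardle h16
  have e4 : Nat.card ↥(Qs G a) ≤ 4 * (2 * 2) * 4 := e2 ▸ Nat.mul_le_mul e3 h4
  omega

omit hu hcr in
theorem bound_three {f : ℕ → V} (h : Conf G adj tA 3 f) {a β : V} (ha : tA a) (hβ : adj a β) :
    Nat.card ↥(Gs G a ⊓ Gs G β) ≤ 128 :=
  A.bound_three' hb (fun δ hδ p q hp hq hp1 hq1 => A.uniq hb (by decide) le_rfl h hδ hp hq hp1 hq1)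
    (fun p hp hA => A.crit_three hb h hp hA) ha hβ

end Gold

end Cfsg.Agent.S4Amal
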