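import Cfsg.Agent.S4Amalgam.GoldOdd

/-!
# The groups generated by the `Z`'s around a vertex
-/

set_option autoImplicit false

namespace Cfsg.Agent.S4Amal

open Subgroup
open scoped commutatorElement
open SfFree (cj)

variable {G : Type*} [Group G] {V : Type*} [MulAction G V] {adj : V → V → Prop} {tA : V → Prop}

/-- The `Z` of an inactive vertex has at most one nontrivial element. -/
def Uniq (G : Type*) [Group G] [MulAction G V] (adj : V → V → Prop) (tA : V → Prop) : Prop :=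
  ∀ δ, ¬ tA δ → ∀ p q : G, p ∈ zv G adj δ → q ∈ zv G adj δ → p ≠ 1 → q ≠ 1 → p = q

namespace Gold

open AmalB

variable (A : Gold G adj tA)
include A

theorem coset (hu : Uniq G adj tA) {α δ : V} (h : adj α δ) (hα : tA α) {u u' : G}
    (hu1 : u ∈ zv G adj α) (hu2 : u' ∈ zv G adj α) (h1 : u ∉ zv G adj δ) (h2 : u' ∉ zv G adj δ) :
    u * u' ∈ zv G adj δ := by
  obtain ⟨δ', hδ', hne⟩ := A.exists_other h
  obtain ⟨y, hy, p, hp, rfl⟩ := A.zv_split h hδ' hne.symm hα hu1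
  obtain ⟨y', hy', p', hp', rfl⟩ := A.zv_split h hδ' hne.symm hα hu2
  have hp1 : p ≠ 1 := fun e => h1 (by rwa [e, mul_one])
  have hp1' : p' ≠ 1 := fun e => h2 (by rwa [e, mul_one])
  obtain rfl := hu δ' (A.tA_not hδ' hα) p p' hp hp' hp1 hp1'
  have hpa := A.zvB_le hδ' hα hp
  rw [(A.zv_commute hpa (A.zvB_le h hα hy')).mul_mul_mul_comm, A.sq_one hpa, mul_one]
  exact mul_mem hy hy'

theorem zvB_le_qs {b : ℕ} (hb : Short1 G adj tA b) (h3 : 2 ≤ b) {f : ℕ → V} (hf : IsPath adj b f)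
    (hA : tA (f 0)) : zv G adj (f 1) ≤ Qs G (f b) := by
  have h2 : tA (f 2) := (A.tA_path hf h3).2 (iff_of_true hA ⟨1, rfl⟩)
  exact (A.zvB_le (A.symm _ _ (hf.step 1 (by omega))) h2).trans
    (A.path_qs hb hf h2 h3 le_rfl (by omega) (by omega))

theorem kernel (hu : Uniq G adj tA) {b : ℕ} (hb : Short1 G adj tA b) (h3 : 2 ≤ b) {f : ℕ → V}
    (hf : IsPath adj b f) (hA : tA (f 0)) (hc : ¬ zv G adj (f 0) ≤ Qs G (f b)) {x : G}
    (hx : x ∈ zv G adj (f 0)) (hxQ : x ∈ Qs G (f b)) : x ∈ zv G adj (f 1) := by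
  by_contra hx1
  refine hc fun v hv => ?_
  by_cases hv1 : v ∈ zv G adj (f 1)
  · exact A.zvB_le_qs hb h3 hf hA hv1
  · have h9 := A.zvB_le_qs hb h3 hf hA (A.coset hu (hf.step 0 (by omega)) hA hv hx hv1 hx1)
    exact ((Qs G (f b)).mul_mem_cancel_right hxQ).1 h9

variable {b : ℕ} (hb : Short1 G adj tA b) (h3 : 3 ≤ b)
include hb h3

theorem vv_commute {δ : V} (hδ : ¬ tA δ) {x y : G} (hx : x ∈ vv G adj δ) (hy : y ∈ vv G adj δ) :
    Commute x y := by
  have h1 : vv G adj δ ≤ centralizer (vv G adj δ : Set G) := iSup_le fun w =>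
    Subgroup.le_centralizer_iff.1 (iSup_le fun w' => fun p hp => mem_centralizer_iff.2 fun q hq =>
      (A.comm1 hb (n := 2) (by omega) (A.tA_of_not w.2 hδ)
        (walk_cons (A.symm _ _ w.2) (walk_one w'.2)) hq hp).eq)
  exact (mem_centralizer_iff.1 (h1 hx) y hy).symm

theorem vv_le_qs {δ : V} (hδ : ¬ tA δ) : vv G adj δ ≤ Qs G δ := iSup_le fun w =>
  hb 1 (w : V) δ (by omega) (A.tA_of_not w.2 hδ) (walk_one (A.symm _ _ w.2))

omit hb h3 in
theorem vv_normal (δ : V) : Gs G δ ≤ normalizer (vv G adj δ : Set G) := fun g hg => by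
  rw [mem_normalizer_iff_map_conj_eq]
  show cj g (vv G adj δ) = vv G adj δ
  rw [← A.vv_smul, MulAction.mem_stabilizer_iff.1 hg]

theorem vv_split {δ α α0 α2 : V} (hδ : ¬ tA δ) (h : adj δ α) (h0 : adj δ α0) (h2 : adj δ α2)
    (e0 : α ≠ α0) (e2 : α ≠ α2) (e02 : α0 ≠ α2) {c : G} (hc : c ∈ vv G adj δ) :
    ∃ p ∈ zv G adj α, ∃ p0 ∈ zv G adj α0, ∃ p2 ∈ zv G adj α2, p * p0 * p2 = c := by
  have hle : vv G adj δ ≤ (zv G adj α ⊔ zv G adj α0) ⊔ zv G adj α2 := iSup_le fun w => by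
    rcases A.nbr3 h h0 h2 w.2 e0 e2 e02 with e | e | e <;> rw [e]
    · exact le_sup_of_le_left le_sup_left
    · exact le_sup_of_le_left le_sup_right
    · exact le_sup_right
  have hcomm : ∀ {H K : Subgroup G}, H ≤ vv G adj δ → K ≤ vv G adj δ →
      H ≤ normalizer (K : Set G) := fun {H K} hH hK => le_trans
    (fun p hp => mem_centralizer_iff.2 fun q hq => (A.vv_commute hb h3 hδ (hK hq) (hH hp)).eq)
    (centralizer_le_normalizer _)
  have hc' := hle hc
  rw [← SetLike.mem_coe, coe_mul_of_left_le_normalizer_right _ _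
    (hcomm (sup_le (zv_le_vv h) (zv_le_vv h0)) (zv_le_vv h2)),
    coe_mul_of_left_le_normalizer_right _ _ (hcomm (zv_le_vv h) (zv_le_vv h0))] at hc'
  obtain ⟨_, ⟨p, hp, p0, hp0, rfl⟩, p2, hp2, rfl⟩ := hc'
  exact ⟨p, hp, p0, hp0, p2, hp2, rfl⟩

theorem vv_sq {δ : V} (hδ : ¬ tA δ) {c : G} (hc : c ∈ vv G adj δ) : c * c = 1 := by
  obtain ⟨α, α0, α2, h, h0, h2, e0, e2, e02⟩ := A.exists_three δ
  obtain ⟨p, hp, p0, hp0, p2, hp2, rfl⟩ := A.vv_split hb h3 hδ h h0 h2 e0 e2 e02 hc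
  have c1 : Commute p2 (p * p0) := A.vv_commute hb h3 hδ (zv_le_vv h2 hp2)
    (mul_mem (zv_le_vv h hp) (zv_le_vv h0 hp0))
  have c2 : Commute p0 p := A.vv_commute hb h3 hδ (zv_le_vv h0 hp0) (zv_le_vv h hp)
  rw [c1.mul_mul_mul_comm, A.sq_one hp2, mul_one, c2.mul_mul_mul_comm, A.sq_one hp, A.sq_one hp0,
    mul_one]

/-- An element of one join outside `Z` of its vertex is not in a neighbouring join. -/
theorem not_mem_vv (hu : Uniq G adj tA) {α δ δ' α0 : V} (hα : tA α) (h : adj α δ) (h' : adj α δ')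
    (hne : δ ≠ δ') (h0 : adj δ α0) (hne0 : α0 ≠ α) {u : G} (hu0 : u ∈ zv G adj α0)
    (hu1 : u ∉ zv G adj δ) : u ∉ vv G adj δ' := by
  intro hmem
  have hs := A.symm _ _ h
  have hδ := A.tA_not h hα
  obtain ⟨q, hq, hq'⟩ := SetLike.not_le_iff_exists.1 (A.qs_ne h)
  have hqT : q ∈ Gs G δ ⊓ Gs G α := ⟨(A.qs_le_edge h hq).2, (A.qs_le_edge h hq).1⟩
  obtain ⟨hm1, hm2⟩ := A.smul_ne hs h0 hne0.symm hqT hq'
  have hqd : q ∈ Gs G δ' := (A.qs_le_edge h' hq).2
  have hle0 : zv G adj α0 ≤ vv G adj δ' := fun v hv => by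
    by_cases hv1 : v ∈ zv G adj δ
    · exact zv_le_vv (A.symm _ _ h') (A.zvB_le h hα hv1)
    · have := zv_le_vv (A.symm _ _ h') (A.zvB_le h hα
        (A.coset hu (A.symm _ _ h0) (A.tA_of_not h0 hδ) hv hu0 hv1 hu1))
      exact ((vv G adj δ').mul_mem_cancel_right hmem).1 this
  have hle : vv G adj δ ≤ vv G adj δ' := iSup_le fun w => by
    rcases A.nbr3 hs h0 (A.adj_smul_left h0 hqT.1) w.2 hne0.symm hm2.symm hm1.symm with e | e | e <;>
      rw [e]
    · exact zv_le_vv (A.symm _ _ h')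
    · exact hle0
    · rw [A.zv_smul]
      rintro _ ⟨v, hv, rfl⟩
      exact (mem_normalizer_iff.1 (A.vv_normal δ' hqd) v).1 (hle0 hv)
  obtain ⟨δ'', hδ'', e1, e2⟩ : ∃ d, adj α d ∧ d ≠ δ ∧ d ≠ δ' := by
    obtain ⟨t, ht, ht'⟩ := A.exists_edge_not_qs h
    obtain ⟨a1, a2⟩ := A.smul_ne h h' hne ht ht'
    exact ⟨_, A.adj_smul_left h' ht.1, a2, a1⟩
  obtain ⟨s, hs1, hs2⟩ := A.exists_edge_not_qs hδ''
  have hsd := A.third hδ'' h h' e1 e2.symm hne.symm hs1 hs2
  have hsd' := A.third hδ'' h' h e2 e1.symm hne hs1 hs2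
  have heq : vv G adj δ = vv G adj δ' := le_antisymm hle (by
    have h1 : cj s (vv G adj δ) ≤ cj s (vv G adj δ') := SfFree.cj_mono hle
    rwa [← A.vv_smul, ← A.vv_smul, hsd, hsd'] at h1)
  obtain ⟨t, ht, ht'⟩ := A.exists_edge_not_qs h'
  have hna : Gs G α ≤ normalizer (vv G adj δ : Set G) := by
    refine A.le_of_edge h (fun g hg => A.vv_normal δ hg.2) ht.1 (A.smul_ne h' h hne.symm ht ht').1 ?_
    rw [heq]; exact A.vv_normal δ' ht.2
  have h0' := A.faith δ α hs _ ((A.vv_le_qs hb h3 hδ).trans (A.qs_le_edge hs)) (A.vv_normal δ) hna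
  have : u ∈ (⊥ : Subgroup G) := h0'.le (zv_le_vv h0 hu0)
  exact hu1 (by rw [Subgroup.mem_bot.1 this]; exact one_mem _)

/-- Neighbouring joins meet in the `Z` between them. -/
theorem vv_inter (hu : Uniq G adj tA) {α δ δ' : V} (hα : tA α) (h : adj α δ) (h' : adj α δ')
    (hne : δ ≠ δ') {c : G} (hc : c ∈ vv G adj δ) (hc' : c ∈ vv G adj δ') : c ∈ zv G adj α := by
  have key : ∀ {d d' : V}, adj α d → adj α d' → d ≠ d' → c ∈ vv G adj d → c ∈ vv G adj d' →
      c ∈ zv G adj α ∨ ∀ g ∈ Gs G α ⊓ Gs G d, c * (g * c * g⁻¹) ∈ zv G adj d := by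
    intro d d' hd hd' hdd hcd hcd'
    have hdB := A.tA_not hd hα
    have hs := A.symm _ _ hd
    obtain ⟨q, hq, hq'⟩ := SetLike.not_le_iff_exists.1 (A.qs_ne hd)
    have hqT : q ∈ Gs G d ⊓ Gs G α := ⟨(A.qs_le_edge hd hq).2, (A.qs_le_edge hd hq).1⟩
    obtain ⟨α0, h0, e0⟩ := A.exists_other hs
    obtain ⟨hm1, hm2⟩ := A.smul_ne hs h0 e0.symm hqT hq'
    set α2 := q • α0 with hα2
    have h2 : adj d α2 := A.adj_smul_left h0 hqT.1
    obtain ⟨p, hp, p0, hp0, p2, hp2, rfl⟩ :=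
      A.vv_split hb h3 hdB hs h0 h2 e0.symm hm2.symm hm1.symm hcd
    by_cases c0 : p0 ∈ zv G adj d
    · by_cases c2 : p2 ∈ zv G adj d
      · exact Or.inl (mul_mem (mul_mem hp (A.zvB_le hd hα c0)) (A.zvB_le hd hα c2))
      · exact absurd (((vv G adj d').mul_mem_cancel_left
          (zv_le_vv (A.symm _ _ hd') (mul_mem hp (A.zvB_le hd hα c0)))).1 hcd')
          (A.not_mem_vv hb h3 hu hα hd hd' hdd h2 hm2 hp2 c2)
    · by_cases c2 : p2 ∈ zv G adj d
      · have h1 := ((vv G adj d').mul_mem_cancel_right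
          (zv_le_vv (A.symm _ _ hd') (A.zvB_le hd hα c2))).1 hcd'
        exact absurd (((vv G adj d').mul_mem_cancel_left (zv_le_vv (A.symm _ _ hd') hp)).1 h1)
          (A.not_mem_vv hb h3 hu hα hd hd' hdd h0 e0 hp0 c0)
      refine Or.inr fun g hg => ?_
      have hgd : g • d = d := MulAction.mem_stabilizer_iff.1 hg.2
      have hga : g • α = α := MulAction.mem_stabilizer_iff.1 hg.1
      have hgY : ∀ {v : G}, v ∉ zv G adj d → g * v * g⁻¹ ∉ zv G adj d := fun {v} hv e => by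
        have h9 := mem_centralizer_iff.1 (A.centralB' hdB hg.2) _ e
        refine hv ?_
        rwa [show v = g * v * g⁻¹ from by
          calc v = g⁻¹ * ((g * v * g⁻¹) * g) := by group
            _ = g⁻¹ * (g * (g * v * g⁻¹)) := by rw [h9]
            _ = g * v * g⁻¹ := by group]
      have hgmem : ∀ {w : V} {v : G}, v ∈ zv G adj w → g * v * g⁻¹ ∈ zv G adj (g • w) :=
        fun {w v} hv => by rw [A.zv_smul]; exact ⟨v, hv, rfl⟩
      have hp' : p * (g * p * g⁻¹) ∈ zv G adj d := by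
        by_cases hgQ : g ∈ Qs G α
        · rw [(A.commute_qs hgQ hp).eq, mul_inv_cancel_right, A.sq_one hp]; exact one_mem _
        · exact A.decomp hd hα hg hgQ hp
      have hgv : ∀ {w : V}, adj d w → g • w ≠ α ∨ w = α := fun {w} _ => by
        by_cases e : w = α
        · exact Or.inr e
        · exact Or.inl fun e' => e (smul_left_cancel g (e'.trans hga.symm))
      have i0 := hgmem hp0
      have i2 := hgmem hp2
      have hVg : ∀ {w : V}, adj d w → ∀ {v : G}, v ∈ zv G adj w → g * v * g⁻¹ ∈ vv G adj d :=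
        fun {w} hw {v} hv => zv_le_vv (A.adj_smul_left hw hg.2) (hgmem hv)
      have hY : p0 * (g * p0 * g⁻¹) * (p2 * (g * p2 * g⁻¹)) ∈ zv G adj d := by
        rcases A.nbr3 hs h0 h2 (A.adj_smul_left h0 hg.2) e0.symm hm2.symm hm1.symm with e | e | e
        · exact absurd (smul_left_cancel g (e.trans hga.symm)) e0
        · rw [e] at i0
          have e' : g • α2 = α2 := by
            rcases A.nbr3 hs h0 h2 (A.adj_smul_left h2 hg.2) e0.symm hm2.symm hm1.symm with w | w | w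
            · exact absurd (smul_left_cancel g (w.trans hga.symm)) hm2
            · exact absurd (smul_left_cancel g (w.trans e.symm)) hm1
            · exact w
          rw [e'] at i2
          exact mul_mem (A.coset hu (A.symm _ _ h0) (A.tA_of_not h0 hdB) hp0 i0 c0 (hgY c0))
            (A.coset hu (A.symm _ _ h2) (A.tA_of_not h2 hdB) hp2 i2 c2 (hgY c2))
        · rw [e] at i0
          have e' : g • α2 = α0 := by
            rcases A.nbr3 hs h0 h2 (A.adj_smul_left h2 hg.2) e0.symm hm2.symm hm1.symm with w | w | w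
            · exact absurd (smul_left_cancel g (w.trans hga.symm)) hm2
            · exact w
            · exact absurd (smul_left_cancel g (w.trans e.symm)) hm1
          rw [e'] at i2
          have ca : Commute (g * p0 * g⁻¹) p2 := A.vv_commute hb h3 hdB (hVg h0 hp0) (zv_le_vv h2 hp2)
          have cb : Commute (g * p0 * g⁻¹) (g * p2 * g⁻¹) :=
            A.vv_commute hb h3 hdB (hVg h0 hp0) (hVg h2 hp2)
          rw [show p0 * (g * p0 * g⁻¹) * (p2 * (g * p2 * g⁻¹)) =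
            (p0 * (g * p2 * g⁻¹)) * (p2 * (g * p0 * g⁻¹)) by
            calc p0 * (g * p0 * g⁻¹) * (p2 * (g * p2 * g⁻¹))
                = p0 * ((g * p0 * g⁻¹) * (p2 * (g * p2 * g⁻¹))) := mul_assoc _ _ _
              _ = p0 * ((p2 * (g * p2 * g⁻¹)) * (g * p0 * g⁻¹)) := by rw [(ca.mul_right cb).eq]
              _ = p0 * ((g * p2 * g⁻¹) * (p2 * (g * p0 * g⁻¹))) := by
                rw [(A.vv_commute hb h3 hdB (zv_le_vv h2 hp2) (hVg h2 hp2)).eq, mul_assoc]
              _ = _ := (mul_assoc _ _ _).symm]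
          exact mul_mem (A.coset hu (A.symm _ _ h0) (A.tA_of_not h0 hdB) hp0 i2 c0 (hgY c2))
            (A.coset hu (A.symm _ _ h2) (A.tA_of_not h2 hdB) hp2 i0 c2 (hgY c0))
      have d1 : Commute p2 (g * (p * p0) * g⁻¹) := A.vv_commute hb h3 hdB (zv_le_vv h2 hp2) (by
        rw [show g * (p * p0) * g⁻¹ = (g * p * g⁻¹) * (g * p0 * g⁻¹) by group]
        exact mul_mem (hVg hs hp) (hVg h0 hp0))
      have d2 : Commute p0 (g * p * g⁻¹) := A.vv_commute hb h3 hdB (zv_le_vv h0 hp0) (hVg hs hp)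
      rw [show g * (p * p0 * p2) * g⁻¹ = (g * (p * p0) * g⁻¹) * (g * p2 * g⁻¹) by group,
        d1.mul_mul_mul_comm, show g * (p * p0) * g⁻¹ = (g * p * g⁻¹) * (g * p0 * g⁻¹) by group,
        d2.mul_mul_mul_comm, mul_assoc (p * (g * p * g⁻¹))]
      exact mul_mem hp' hY
  rcases key h h' hne hc hc' with h1 | h1
  · exact h1
  rcases key h' h hne.symm hc' hc with h2 | h2
  · exact h2
  have hδ := A.tA_not h hα
  have hc2 := A.vv_sq hb h3 hδ hc
  have hQ : ∀ q ∈ Qs G α, Commute q c := fun q hq => by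
    have e1 := h1 q (A.qs_le_edge h hq)
    have e2 := h2 q (A.qs_le_edge h' hq)
    have e3 := A.yDisj h h' hne hα e1 e2
    have h4 : q * c * q⁻¹ = c := by
      rw [eq_inv_of_mul_eq_one_right e3]
      exact inv_eq_of_mul_eq_one_right hc2
    exact mul_inv_eq_iff_eq_mul.1 h4
  obtain ⟨t, ht, ht'⟩ := A.exists_edge_not_qs h
  have hcT : ∀ {v : G}, v ∈ vv G adj δ → v ∈ Gs G α ⊓ Gs G δ := fun hv =>
    let h9 := A.qs_le_edge (A.symm _ _ h) (A.vv_le_qs hb h3 hδ hv)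
    ⟨h9.2, h9.1⟩
  have hmk : ∀ {v : G}, v ∈ vv G adj δ → (∀ q ∈ Qs G α, Commute q v) → Commute t v →
      v ∈ zv G adj δ := by
    intro v hv hq hct
    rw [A.zvB' h hα]
    refine mem_ze (hcT hv) (fun s hs => ?_) (A.vv_sq hb h3 hδ hv)
    by_cases hsQ : s ∈ Qs G α
    · exact hq s hsQ
    · have h5 := hct.inv_left.mul_left (hq _ (A.mul_mem_qs h ht hs ht' hsQ))
      rwa [inv_mul_cancel_left] at h5
  by_cases hct : Commute t c
  · exact A.zvB_le h hα (hmk hc hQ hct)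
  obtain ⟨y, hy, hy1⟩ := A.ze_ne_bot h'
  rw [← A.zvB' h' hα] at hy
  have hya := A.zvB_le h' hα hy
  have e4 : c * (t * c * t⁻¹) = y * (t * y * t⁻¹) := by
    refine hu δ hδ _ _ (h1 t ht) (A.decomp h hα ht ht' hya) (fun e => hct ?_)
      (A.decomp_ne h h' hne hα ht ht' hy hy1)
    refine mul_inv_eq_iff_eq_mul.1 ?_
    rw [eq_inv_of_mul_eq_one_right e]
    exact inv_eq_of_mul_eq_one_right hc2
  have hyv : y ∈ vv G adj δ := zv_le_vv (A.symm _ _ h) hya
  have hcy : Commute t (c * y) := by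
    refine mul_inv_eq_iff_eq_mul.1 ?_
    have e5 : t * c * t⁻¹ = c * (y * (t * y * t⁻¹)) := by rw [← e4, ← mul_assoc, hc2, one_mul]
    rw [show t * (c * y) * t⁻¹ = (t * c * t⁻¹) * (t * y * t⁻¹) by group, e5,
      mul_assoc c, mul_assoc y, A.sq_one ((mem_normalizer_iff.1 (A.zv_normal α ht.1) y).1 hya),
      mul_one]
  have h6 := A.zvB_le h hα (hmk (mul_mem hc hyv)
    (fun q hq => (hQ q hq).mul_right (A.commute_qs hq hya)) hcy)
  exact ((zv G adj α).mul_mem_cancel_right hya).1 h6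

end Gold

end Cfsg.Agent.S4Amal
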