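import Cfsg.Agent.S4Free.Abelian
import Cfsg.Agent.Thompson.Basic
import Cfsg.Agent.LocalStructure.CharP
import Cfsg.Agent.ZNComp.Four

/-!
# The coset graph of two `S₃` parabolics

A group acts on a connected graph with finite vertex stabilizers of type `2-group . S₃`.
-/

set_option autoImplicit false

namespace Cfsg.Agent.S4Amal

open Subgroup
open scoped commutatorElement
open SfFree (cj)

variable (G : Type*) [Group G] {V : Type*} [MulAction G V]

/-- The stabilizer of a vertex. -/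
abbrev Gs (v : V) : Subgroup G := MulAction.stabilizer G v

/-- The 2-core of a stabilizer. -/
abbrev Qs (v : V) : Subgroup G := Cfsg.pCoreOf 2 (Gs G v)

/-- `Ω₁(Z)` of an edge stabilizer. -/
abbrev ze (u w : V) : Subgroup G := Cfsg.omegaCenterOf (Gs G u ⊓ Gs G w)

/-- The join of the `Ω₁(Z)` of the edges at `v`. -/
abbrev zv (adj : V → V → Prop) (v : V) : Subgroup G :=
  ⨆ w : {w : V // adj v w}, ze G v (w : V)

/-- The axioms, for parabolics with a quotient of order twice an odd prime. -/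
structure AmalB (adj : V → V → Prop) : Prop where
  symm : ∀ u w, adj u w → adj w u
  smul : ∀ (g : G) (u w : V), adj u w → adj (g • u) (g • w)
  conn : ∀ u w, Relation.ReflTransGen adj u w
  fin : ∀ v : V, Finite (Gs G v)
  deg : ∀ u, ∃ w, adj u w
  trans : ∀ u w w', adj u w → adj u w' → ∃ g ∈ Gs G u, g • w = w'
  syl : ∀ u w, adj u w → IsPGroup 2 ↥(Gs G u ⊓ Gs G w) ∧
    ((Gs G u ⊓ Gs G w).relIndex (Gs G u)).Prime ∧ (Gs G u ⊓ Gs G w).relIndex (Gs G u) ≠ 2
  two : ∀ u w, adj u w → (Qs G u).relIndex (Gs G u ⊓ Gs G w) = 2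
  charp : ∀ v : V, Gs G v ⊓ centralizer (Qs G v : Set G) ≤ Qs G v
  faith : ∀ u w, adj u w → ∀ N : Subgroup G, N ≤ Gs G u ⊓ Gs G w →
    Gs G u ≤ normalizer (N : Set G) → Gs G w ≤ normalizer (N : Set G) → N = ⊥

/-- The axioms, with every vertex stabilizer active on the edge centre. -/
structure Amal0 (adj : V → V → Prop) : Prop extends AmalB G adj where
  noncentral : ∀ u w, adj u w → ¬ Gs G u ≤ centralizer (ze G u w : Set G)

/-- The axioms, for parabolics with quotient `S₃`. -/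
structure Amal (adj : V → V → Prop) : Prop extends Amal0 G adj where
  three : ∀ u w, adj u w → (Gs G u ⊓ Gs G w).relIndex (Gs G u) = 3

/-- Walks of length `n`. -/
def Walk (adj : V → V → Prop) : ℕ → V → V → Prop
  | 0, u, w => u = w
  | n + 1, u, w => ∃ x, adj u x ∧ Walk adj n x w

variable {G} {adj : V → V → Prop}

theorem le_core_of_normal {H N : Subgroup G} (hNH : N ≤ H) (hn : H ≤ normalizer (N : Set G))
    (hp : IsPGroup 2 N) : N ≤ Cfsg.pCoreOf 2 H := by
  have := normal_subgroupOf_of_le_normalizer hn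
  calc N = (N.subgroupOf H).map H.subtype := (map_subgroupOf_eq_of_le hNH).symm
    _ ≤ _ := map_mono (Core.le_pCore hp.comap_subtype)

theorem gs_smul (g : G) (v : V) : Gs G (g • v) = cj g (Gs G v) :=
  MulAction.stabilizer_smul_eq_stabilizer_map_conj g v

theorem qs_smul (g : G) (v : V) : Qs G (g • v) = cj g (Qs G v) := by
  rw [Qs, gs_smul]
  exact (ZNComp.pCoreOf_map (f := (MulAut.conj g).toMonoidHom) (MulAut.conj g).injective _).symm

theorem ze_smul (g : G) (u w : V) : ze G (g • u) (g • w) = cj g (ze G u w) := by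
  rw [ze, gs_smul, gs_smul, ← SfFree.cj_inf]
  exact (ZNComp.omegaCenterOf_map (f := (MulAut.conj g).toMonoidHom) (MulAut.conj g).injective _).symm

theorem qs_le (v : V) : Qs G v ≤ Gs G v := map_subtype_le _

theorem ze_le (u w : V) : ze G u w ≤ Gs G u ⊓ Gs G w :=
  (Thompson.omegaOne_le 2 _).trans inf_le_left

theorem ze_centralizer (u w : V) : Gs G u ⊓ Gs G w ≤ centralizer (ze G u w : Set G) :=
  Subgroup.le_centralizer_iff.1 ((Thompson.omegaOne_le 2 _).trans inf_le_right)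

theorem ze_comm (u w : V) : ze G u w = ze G w u := by rw [ze, ze, inf_comm]

theorem mem_ze {u w : V} {x : G} (h1 : x ∈ Gs G u ⊓ Gs G w)
    (h2 : ∀ t ∈ Gs G u ⊓ Gs G w, Commute t x) (h3 : x * x = 1) : x ∈ ze G u w :=
  Thompson.mem_omegaOne ⟨h1, mem_centralizer_iff.2 fun t ht => h2 t ht⟩ (by rw [pow_two]; exact h3)

theorem walk_append {n m : ℕ} {u w x : V} (h1 : Walk adj n u w) (h2 : Walk adj m w x) :
    Walk adj (n + m) u x := by
  induction n generalizing u with
  | zero => subst h1; rwa [zero_add]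
  | succ n ih =>
    obtain ⟨y, hy, hy'⟩ := h1
    rw [Nat.succ_add]
    exact ⟨y, hy, ih hy'⟩

theorem walk_one {u w : V} (h : adj u w) : Walk adj 1 u w := ⟨w, h, rfl⟩

theorem walk_last {n : ℕ} {u w : V} (h : Walk adj (n + 1) u w) :
    ∃ x, Walk adj n u x ∧ adj x w := by
  induction n generalizing u with
  | zero =>
    obtain ⟨x, hx, rfl⟩ := h
    exact ⟨u, rfl, hx⟩
  | succ n ih =>
    obtain ⟨y, hy, hy'⟩ := h
    obtain ⟨x, hx, hxw⟩ := ih hy'
    exact ⟨x, ⟨y, hy, hx⟩, hxw⟩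

theorem exists_walk {u w : V} (h : Relation.ReflTransGen adj u w) : ∃ n, Walk adj n u w := by
  induction h with
  | refl => exact ⟨0, rfl⟩
  | tail _ hxy ih =>
    obtain ⟨n, hn⟩ := ih
    exact ⟨n + 1, walk_append hn (walk_one hxy)⟩

namespace AmalB

variable (A : AmalB G adj)
include A

theorem walk_symm {n : ℕ} {u w : V} (h : Walk adj n u w) : Walk adj n w u := by
  induction n generalizing u with
  | zero => exact (show u = w from h).symm
  | succ n ih =>
    obtain ⟨x, hx, hx'⟩ := h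
    exact walk_append (ih hx') (walk_one (A.symm _ _ hx))

theorem walk_smul (g : G) {n : ℕ} {u w : V} (h : Walk adj n u w) :
    Walk adj n (g • u) (g • w) := by
  induction n generalizing u with
  | zero => exact congrArg (g • ·) (show u = w from h)
  | succ n ih =>
    obtain ⟨x, hx, hx'⟩ := h
    exact ⟨g • x, A.smul g _ _ hx, ih hx'⟩

theorem finite_sub {v : V} {H : Subgroup G} (h : H ≤ Gs G v) : Finite H :=
  have := A.fin v
  Finite.of_injective (Subgroup.inclusion h) (Subgroup.inclusion_injective h)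

theorem qs_le_edge {u w : V} (h : adj u w) : Qs G u ≤ Gs G u ⊓ Gs G w := by
  have : Fact (Nat.Prime 2) := ⟨Nat.prime_two⟩
  have := A.fin u
  set H := Gs G u with hH
  obtain ⟨hT, hp, hp2⟩ := A.syl u w h
  have hidx : ¬ 2 ∣ ((H ⊓ Gs G w).subgroupOf H).index := fun hd =>
    hp2 ((Nat.prime_dvd_prime_iff_eq Nat.prime_two hp).1 hd).symm
  refine le_trans (map_mono (Core.pCore_le_sylow (hT.comap_subtype.toSylow hidx))) ?_
  exact map_comap_le _ _

theorem relIndex_edge {u w : V} (h : adj u w) :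
    (Qs G u).relIndex (Gs G u ⊓ Gs G w) = 2 := A.two u w h

theorem relIndex_same {u w w' : V} (h : adj u w) (h' : adj u w') :
    (Gs G u ⊓ Gs G w').relIndex (Gs G u) = (Gs G u ⊓ Gs G w).relIndex (Gs G u) := by
  obtain ⟨g, hg, rfl⟩ := A.trans u w w' h h'
  have hgu : cj g (Gs G u) = Gs G u := by
    rw [← gs_smul, MulAction.mem_stabilizer_iff.1 hg]
  calc (Gs G u ⊓ Gs G (g • w)).relIndex (Gs G u)
      = (cj g (Gs G u ⊓ Gs G w)).relIndex (cj g (Gs G u)) := by
        rw [SfFree.cj_inf, ← gs_smul g w, hgu]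
    _ = _ := relIndex_map_map_of_injective _ _ (MulAut.conj g).injective

theorem mul_mem_qs {u w : V} (h : adj u w) {s t : G} (hs : s ∈ Gs G u ⊓ Gs G w)
    (ht : t ∈ Gs G u ⊓ Gs G w) (hs' : s ∉ Qs G u) (ht' : t ∉ Qs G u) : s * t ∈ Qs G u := by
  have h1 := (Subgroup.mul_mem_iff_of_index_two
    (H := (Qs G u).subgroupOf (Gs G u ⊓ Gs G w)) (A.relIndex_edge h)
    (a := ⟨s, hs⟩) (b := ⟨t, ht⟩)).2
  exact h1 ⟨fun e => absurd e hs', fun e => absurd e ht'⟩

theorem exists_edge_not_qs {u w : V} (h : adj u w) :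
    ∃ t ∈ Gs G u ⊓ Gs G w, t ∉ Qs G u := by
  refine SetLike.not_le_iff_exists.1 fun hle => ?_
  have h2 := A.relIndex_edge h
  rw [relIndex_eq_one.2 hle] at h2
  norm_num at h2

theorem qs_normal (u : V) : Gs G u ≤ normalizer (Qs G u : Set G) :=
  le_normalizer.trans (ZNComp.normalizer_le_core _)

theorem qs_smul_nbr {u w : V} (h : adj u w) {g : G} (hg : g ∈ Qs G u) : g • w = w :=
  MulAction.mem_stabilizer_iff.1 ((A.qs_le_edge h) hg).2

/-- Two neighbours cut the stabilizer down to the 2-core. -/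
theorem mem_qs_of_fix {u w w' : V} (h : adj u w) (h' : adj u w') (hne : w ≠ w') {g : G}
    (hgu : g ∈ Gs G u) (hgw : g • w = w) (hgw' : g • w' = w') : g ∈ Qs G u := by
  have : Fact (Nat.Prime 2) := ⟨Nat.prime_two⟩
  have := A.fin u
  by_contra hg
  have hgT : g ∈ Gs G u ⊓ Gs G w := ⟨hgu, MulAction.mem_stabilizer_iff.2 hgw⟩
  have hgT' : g ∈ Gs G u ⊓ Gs G w' := ⟨hgu, MulAction.mem_stabilizer_iff.2 hgw'⟩
  have hle : Gs G u ⊓ Gs G w ≤ Gs G u ⊓ Gs G w' := by
    intro t ht
    by_cases htQ : t ∈ Qs G u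
    · exact A.qs_le_edge h' htQ
    · have h1 := A.qs_le_edge h' (A.mul_mem_qs h hgT ht hg htQ)
      exact ((Gs G u ⊓ Gs G w').mul_mem_cancel_left hgT').1 h1
  have heq : Gs G u ⊓ Gs G w = Gs G u ⊓ Gs G w' := by
    have := A.finite_sub (inf_le_left : Gs G u ⊓ Gs G w' ≤ Gs G u)
    refine eq_of_le_of_card_ge hle ?_
    have e1 := Coprime.card_mul_relIndex_of_le (inf_le_left : Gs G u ⊓ Gs G w ≤ Gs G u)
    have e2 := Coprime.card_mul_relIndex_of_le (inf_le_left : Gs G u ⊓ Gs G w' ≤ Gs G u)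
    rw [A.relIndex_same h h'] at e2
    exact le_of_eq (Nat.eq_of_mul_eq_mul_right (A.syl u w h).2.1.pos (e2.trans e1.symm))
  obtain ⟨k, hk, hkw⟩ := A.trans u w w' h h'
  have hkT : k ∉ Gs G u ⊓ Gs G w := fun hk' => hne
    ((MulAction.mem_stabilizer_iff.1 hk'.2).symm.trans hkw)
  have hkN : k ∈ normalizer ((Gs G u ⊓ Gs G w : Subgroup G) : Set G) := by
    rw [mem_normalizer_iff_map_conj_eq]
    show cj k (Gs G u ⊓ Gs G w) = Gs G u ⊓ Gs G w
    rw [SfFree.cj_inf, ← gs_smul, ← gs_smul, hkw, MulAction.mem_stabilizer_iff.1 hk, ← heq]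
  set T := Gs G u ⊓ Gs G w with hT
  have htop : Gs G u ≤ normalizer (T : Set G) := by
    set M := Gs G u ⊓ normalizer (T : Set G) with hM
    have hTM : T ≤ M := le_inf inf_le_left le_normalizer
    have h1 := relIndex_mul_relIndex _ _ _ hTM (inf_le_left : M ≤ Gs G u)
    rcases (Nat.dvd_prime (A.syl u w h).2.1).1 (Dvd.intro _ h1) with e | e
    · exact absurd (relIndex_eq_one.1 e ⟨hk, hkN⟩) hkT
    · rw [e] at h1
      exact (relIndex_eq_one.1 (Nat.eq_of_mul_eq_mul_left (A.syl u w h).2.1.pos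
        (h1.trans (mul_one _).symm) : M.relIndex (Gs G u) = 1)).trans inf_le_right
  exact hg (le_core_of_normal inf_le_left htop (A.syl u w h).1 hgT)

/-- An element of an edge group outside the core moves the other neighbours. -/
theorem smul_ne {u w w' : V} (h : adj u w) (h' : adj u w') (hne : w ≠ w') {t : G}
    (ht : t ∈ Gs G u ⊓ Gs G w) (ht' : t ∉ Qs G u) : t • w' ≠ w' ∧ t • w' ≠ w := by
  refine ⟨fun e => ht' (A.mem_qs_of_fix h h' hne ht.1 (MulAction.mem_stabilizer_iff.1 ht.2) e),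
    fun e => hne ?_⟩
  have := MulAction.mem_stabilizer_iff.1 ((Gs G w).inv_mem ht.2)
  calc w = t⁻¹ • w := this.symm
    _ = w' := by rw [← e, inv_smul_smul]

/-- Edge group and any other element generate the stabilizer. -/
theorem le_of_edge {u w : V} (h : adj u w) {H : Subgroup G} (hT : Gs G u ⊓ Gs G w ≤ H) {g : G}
    (hgu : g ∈ Gs G u) (hgw : g • w ≠ w) (hg : g ∈ H) : Gs G u ≤ H := by
  have h1 := relIndex_mul_relIndex _ _ _ (le_inf inf_le_left hT : Gs G u ⊓ Gs G w ≤ Gs G u ⊓ H)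
    inf_le_left
  rcases (Nat.dvd_prime (A.syl u w h).2.1).1 (Dvd.intro _ h1) with e | e
  · exact absurd (MulAction.mem_stabilizer_iff.1 (relIndex_eq_one.1 e ⟨hgu, hg⟩).2) hgw
  · rw [e] at h1
    exact (relIndex_eq_one.1 (Nat.eq_of_mul_eq_mul_left (A.syl u w h).2.1.pos
      (h1.trans (mul_one _).symm) : (Gs G u ⊓ H).relIndex (Gs G u) = 1)).trans inf_le_right

theorem ze_le_qs {u w : V} (h : adj u w) : ze G u w ≤ Qs G u ⊓ centralizer (Qs G u : Set G) := by
  have hc : ze G u w ≤ centralizer (Qs G u : Set G) :=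
    Subgroup.le_centralizer_iff.1 ((A.qs_le_edge h).trans (ze_centralizer u w))
  exact le_inf ((le_inf ((ze_le u w).trans inf_le_left) hc).trans (A.charp u)) hc

theorem zv_le (v : V) : zv G adj v ≤ Qs G v ⊓ centralizer (Qs G v : Set G) :=
  iSup_le fun w => A.ze_le_qs w.2

theorem zv_le_gs (v : V) : zv G adj v ≤ Gs G v :=
  ((A.zv_le v).trans inf_le_left).trans (qs_le v)

omit A in
theorem ze_le_zv {u w : V} (h : adj u w) : ze G u w ≤ zv G adj u :=
  le_iSup (fun w : {w : V // adj u w} => ze G u (w : V)) ⟨w, h⟩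

theorem zv_ea (v : V) : Cfsg.IsElementaryAbelian 2 (zv G adj v) := by
  refine Thompson.ea_mono (Thompson.omegaOne_centre_ea 2 (Qs G v)) (iSup_le fun w => fun x hx => ?_)
  exact Thompson.mem_omegaOne (A.ze_le_qs w.2 hx) ((Thompson.omegaOne_centre_ea 2 _).2 x hx)

theorem zv_commute {v : V} {x y : G} (hx : x ∈ zv G adj v) (hy : y ∈ zv G adj v) : Commute x y :=
  SfFree.ea_commute (A.zv_ea v) hx hy

theorem zv_smul (g : G) (v : V) : zv G adj (g • v) = cj g (zv G adj v) := by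
  refine le_antisymm (iSup_le fun w => ?_) ?_
  · have hw : adj v (g⁻¹ • (w : V)) := by
      have := A.smul g⁻¹ _ _ w.2
      rwa [inv_smul_smul] at this
    have h1 := ze_smul g v (g⁻¹ • (w : V))
    rw [smul_inv_smul] at h1
    exact h1.le.trans (SfFree.cj_mono (ze_le_zv hw))
  · show (zv G adj v).map _ ≤ _
    rw [zv, Subgroup.map_iSup]
    refine iSup_le fun w => ?_
    show cj g (ze G v (w : V)) ≤ _
    rw [← ze_smul]
    exact ze_le_zv (A.smul g _ _ w.2)

theorem zv_normal (v : V) : Gs G v ≤ normalizer (zv G adj v : Set G) := fun g hg => by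
  rw [mem_normalizer_iff_map_conj_eq]
  show cj g (zv G adj v) = zv G adj v
  rw [← A.zv_smul, MulAction.mem_stabilizer_iff.1 hg]

theorem exists_moves {u w : V} (h : adj u w) : ∃ k ∈ Gs G u, k • w ≠ w := by
  by_contra! hall
  have h1 := (A.syl u w h).2.1
  have h2 : Gs G u ≤ Gs G u ⊓ Gs G w := fun k hk =>
    ⟨hk, MulAction.mem_stabilizer_iff.2 (hall k hk)⟩
  rw [relIndex_eq_one.2 h2] at h1
  exact Nat.not_prime_one h1

theorem adj_smul_left {u w : V} (h : adj u w) {g : G} (hg : g ∈ Gs G u) : adj u (g • w) := by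
  have := A.smul g u w h
  rwa [MulAction.mem_stabilizer_iff.1 hg] at this

theorem exists_other {u w : V} (h : adj u w) : ∃ w', adj u w' ∧ w' ≠ w :=
  have ⟨_, hk, hkw⟩ := A.exists_moves h
  ⟨_, A.adj_smul_left h hk, hkw⟩

/-- The centralizer of `Z_v` in the stabilizer is the 2-core. -/
theorem mem_qs_of_centralizes' {v w : V} (hw : adj v w)
    (hnc : ¬ Gs G v ≤ centralizer (ze G v w : Set G)) {g : G} (hg : g ∈ Gs G v)
    (hc : g ∈ centralizer (zv G adj v : Set G)) : g ∈ Qs G v := by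
  by_contra hgQ
  obtain ⟨g', hg', hg'c, hg'w⟩ :
      ∃ g' ∈ Gs G v, g' ∈ centralizer (zv G adj v : Set G) ∧ g' • w ≠ w := by
    by_cases hgw : g • w = w
    · obtain ⟨k, hk, hkw⟩ := A.exists_moves hw
      have hn := Coprime.le_normalizer_centralizer (A.zv_normal v) hk
      refine ⟨k * g * k⁻¹, (Gs G v).mul_mem ((Gs G v).mul_mem hk hg) ((Gs G v).inv_mem hk),
        (mem_normalizer_iff.1 hn g).1 hc, fun e => hgQ ?_⟩
      have h1 := A.mem_qs_of_fix hw (A.adj_smul_left hw hk) (Ne.symm hkw)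
        ((Gs G v).mul_mem ((Gs G v).mul_mem hk hg) ((Gs G v).inv_mem hk)) e
        (by rw [mul_smul, mul_smul, inv_smul_smul, hgw])
      exact (mem_normalizer_iff.1 (A.qs_normal v hk) g).2 h1
    · exact ⟨g, hg, hc, hgw⟩
  exact hnc
    (A.le_of_edge hw (ze_centralizer v w) hg' hg'w (centralizer_le (ze_le_zv hw) hg'c))

/-- The part of `Z_v` centralized by the whole stabilizer. -/
abbrev dv (G : Type*) [Group G] [MulAction G V] (adj : V → V → Prop) (v : V) : Subgroup G :=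
  zv G adj v ⊓ centralizer (Gs G v : Set G)

theorem sq_one {v : V} {x : G} (hx : x ∈ zv G adj v) : x * x = 1 := by
  rw [← pow_two]; exact (A.zv_ea v).2 x hx

theorem inv_eq {v : V} {x : G} (hx : x ∈ zv G adj v) : x⁻¹ = x :=
  inv_eq_of_mul_eq_one_right (A.sq_one hx)

/-- An element of an edge group outside the core fixes only `ze` in `Z_v`. -/
theorem mem_ze_of_commute {v w : V} (h : adj v w) {t z : G} (ht : t ∈ Gs G v ⊓ Gs G w)
    (ht' : t ∉ Qs G v) (hz : z ∈ zv G adj v) (hc : Commute t z) : z ∈ ze G v w := by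
  refine mem_ze (A.qs_le_edge h (A.zv_le v hz).1) (fun s hs => ?_) (A.sq_one hz)
  have hq : ∀ q ∈ Qs G v, Commute q z := fun q hq => mem_centralizer_iff.1 (A.zv_le v hz).2 q hq
  by_cases hsQ : s ∈ Qs G v
  · exact hq s hsQ
  · have h1 := hc.inv_left.mul_left (hq _ (A.mul_mem_qs h ht hs ht' hsQ))
    rwa [inv_mul_cancel_left] at h1

/-- Two edges at `v` meet in the centralized part. -/
theorem mem_dv {v w w' : V} (h : adj v w) (h' : adj v w') (hne : w ≠ w') {d : G}
    (hd : d ∈ ze G v w) (hd' : d ∈ ze G v w') : d ∈ dv G adj v := by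
  refine ⟨ze_le_zv h hd, (Subgroup.le_centralizer_iff.1
    (?_ : Gs G v ≤ centralizer (zpowers d : Set G))) (mem_zpowers d)⟩
  obtain ⟨t, ht, ht'⟩ := A.exists_edge_not_qs h'
  have h1 : ∀ {x : V}, d ∈ ze G v x → Gs G v ⊓ Gs G x ≤ centralizer (zpowers d : Set G) :=
    fun hx => (ze_centralizer v _).trans (centralizer_le ((zpowers_le).2 hx))
  exact A.le_of_edge h (h1 hd) ht.1 (A.smul_ne h' h hne.symm ht ht').1 (h1 hd' ht)

theorem dv_le_ze {v w : V} (h : adj v w) {d : G} (hd : d ∈ dv G adj v) : d ∈ ze G v w :=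
  mem_ze (A.qs_le_edge h (A.zv_le v hd.1).1) (fun t ht => mem_centralizer_iff.1 hd.2 t ht.1)
    (A.sq_one hd.1)

theorem eq_one_of_dv {u w : V} (h : adj u w) {d : G} (hd : d ∈ dv G adj u)
    (hd' : d ∈ dv G adj w) : d = 1 := by
  have h1 : dv G adj u ⊓ dv G adj w = ⊥ := by
    refine A.faith u w h _ (fun x hx => A.qs_le_edge h (A.zv_le u hx.1.1).1)
      (le_trans (Subgroup.le_centralizer_iff.1 ?_) (centralizer_le_normalizer (s := _)))
      (le_trans (Subgroup.le_centralizer_iff.1 ?_) (centralizer_le_normalizer (s := _)))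
    · exact inf_le_left.trans inf_le_right
    · exact inf_le_right.trans inf_le_right
  exact Subgroup.mem_bot.1 (h1.le ⟨hd, hd'⟩)

/-- A vertex with edge index three has only three neighbours. -/
theorem nbr_three {u w w' w'' x : V} (hu : (Gs G u ⊓ Gs G w).relIndex (Gs G u) = 3) (h : adj u w)
    (h' : adj u w') (h'' : adj u w'') (hx : adj u x) (hne : w ≠ w') (hne' : w'' ≠ w)
    (hne'' : w'' ≠ w') : x = w ∨ x = w' ∨ x = w'' := by
  have := A.fin u
  by_contra! hc
  let T := (Gs G u ⊓ Gs G w).subgroupOf (Gs G u)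
  let f : (Gs G u) ⧸ T → V := Quotient.lift (fun g : Gs G u => (g : G) • w) (fun a b hab => by
    have h3 : ((a⁻¹ * b : Gs G u) : G) ∈ Gs G w :=
      (mem_subgroupOf.1 (QuotientGroup.leftRel_apply.1 hab)).2
    rw [Subgroup.coe_mul, Subgroup.coe_inv] at h3
    calc (a : G) • w = (a : G) • ((a : G)⁻¹ * (b : G)) • w := by
          rw [MulAction.mem_stabilizer_iff.1 h3]
      _ = (b : G) • w := by rw [smul_smul, mul_inv_cancel_left])
  have hmem : ∀ y, adj u y → y ∈ Set.range f := fun y hy => by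
    obtain ⟨g, hg, hgy⟩ := A.trans u w y h hy
    exact ⟨QuotientGroup.mk ⟨g, hg⟩, hgy⟩
  have hsub : ({w, w', w'', x} : Set V) ⊆ Set.range f := by
    rintro y (rfl | rfl | rfl | rfl)
    exacts [hmem _ h, hmem _ h', hmem _ h'', hmem _ hx]
  have hcard : Nat.card ((Gs G u) ⧸ T) = 3 := hu
  have hle := Set.ncard_le_ncard hsub (Set.finite_range f)
  have hr : (Set.range f).ncard ≤ 3 := by
    rw [← Nat.card_coe_set_eq, ← hcard]
    exact Finite.card_range_le f
  rw [Set.ncard_insert_of_notMem (by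
      simp only [Set.mem_insert_iff, Set.mem_singleton_iff, not_or]
      exact ⟨hne, hne'.symm, hc.1.symm⟩),
    Set.ncard_insert_of_notMem (by
      simp only [Set.mem_insert_iff, Set.mem_singleton_iff, not_or]
      exact ⟨hne''.symm, hc.2.1.symm⟩),
    Set.ncard_pair hc.2.2.symm] at hle
  omega

end AmalB

namespace Amal0

open AmalB

variable (A : Amal0 G adj)
include A

theorem ze_ne_bot {u w : V} (h : adj u w) : ze G u w ≠ ⊥ := fun e => A.noncentral u w h (by
  rw [e]; intro g _; exact mem_centralizer_iff.2 fun x hx => by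
    rw [Subgroup.mem_bot.1 hx, one_mul, mul_one])

theorem ze_ne_zv_fixed {u w : V} (h : adj u w) : ¬ Gs G u ≤ centralizer (zv G adj u : Set G) :=
  fun hle => A.noncentral u w h (hle.trans (centralizer_le (ze_le_zv h)))

/-- The centralizer of `Z_v` in the stabilizer is the 2-core. -/
theorem mem_qs_of_centralizes {v : V} {g : G} (hg : g ∈ Gs G v)
    (hc : g ∈ centralizer (zv G adj v : Set G)) : g ∈ Qs G v :=
  have ⟨w, hw⟩ := A.deg v
  A.mem_qs_of_centralizes' hw (A.noncentral v w hw) hg hc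

/-- An element of odd order trivial on `Z_v / D_v` lies in the core. -/
theorem eq_one_of_mod {v : V} {x : G} (hx : x ∈ Gs G v) {n : ℕ} (hn : Odd n) (hxn : x ^ n = 1)
    (hall : ∀ z ∈ zv G adj v, z⁻¹ * (x * z * x⁻¹) ∈ dv G adj v) : x = 1 := by
  have hxQ : x ∈ Qs G v := by
    refine A.mem_qs_of_centralizes hx (mem_centralizer_iff.2 fun z hz => ?_)
    set d := z⁻¹ * (x * z * x⁻¹) with hd
    have hd1 := hall z hz
    have hxd : Commute x d := mem_centralizer_iff.1 hd1.2 _ hx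
    have h1 : x * z * x⁻¹ = z * d := by rw [hd, mul_inv_cancel_left]
    have hstep : ∀ k : ℕ, x ^ k * z * (x ^ k)⁻¹ = z * d ^ k := by
      intro k
      induction k with
      | zero => simp
      | succ k ih =>
        calc x ^ (k + 1) * z * (x ^ (k + 1))⁻¹
            = x * (x ^ k * z * (x ^ k)⁻¹) * x⁻¹ := by rw [pow_succ' x]; group
          _ = x * z * x⁻¹ * (x * d ^ k * x⁻¹) := by rw [ih]; group
          _ = z * d * d ^ k := by rw [h1, (hxd.pow_right k).eq, mul_inv_cancel_right]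
          _ = z * d ^ (k + 1) := by rw [pow_succ', mul_assoc]
    have h3 := hstep n
    rw [hxn, one_mul, inv_one, mul_one] at h3
    have hdn : d ^ n = 1 := by simpa using h3.symm
    have hd2 : d * d = 1 := A.sq_one hd1.1
    obtain ⟨m, rfl⟩ := hn
    have : d = 1 := by rwa [pow_succ, pow_mul, pow_two, hd2, one_pow, one_mul] at hdn
    rw [this, mul_one] at h1
    exact (mul_inv_eq_iff_eq_mul.1 h1).symm
  obtain ⟨k, hk⟩ := (ZNComp.core_isPGroup (Gs G v)) ⟨x, hxQ⟩
  have h7 : orderOf x ∣ 2 ^ k := orderOf_dvd_of_pow_eq_one (by simpa using congrArg Subtype.val hk)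
  obtain ⟨j, -, hj⟩ := (Nat.dvd_prime_pow Nat.prime_two).1 h7
  have h8 : orderOf x ∣ n := orderOf_dvd_of_pow_eq_one hxn
  rw [hj] at h8
  match j, hj, h8 with
  | 0, hj, _ => exact orderOf_eq_one_iff.1 hj
  | j + 1, _, h8 =>
    exact absurd (even_iff_two_dvd.2 ((dvd_pow_self 2 (Nat.succ_ne_zero j)).trans h8))
      (Nat.not_even_iff_odd.2 hn)

/-- No element of an edge group outside the core centralizes `Z_v / D_v`. -/
theorem not_comm_dv {v w : V} (h : adj v w) {t : G} (ht : t ∈ Gs G v ⊓ Gs G w)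
    (ht' : t ∉ Qs G v) : ∃ z ∈ zv G adj v, z⁻¹ * (t * z * t⁻¹) ∉ dv G adj v := by
  by_contra! hall
  have hzn : ∀ g ∈ Gs G v, ∀ z ∈ zv G adj v, g * z * g⁻¹ ∈ zv G adj v :=
    fun g hg z hz => (mem_normalizer_iff.1 (A.zv_normal v hg) z).1 hz
  let N : Subgroup G :=
    { carrier := {g | g ∈ Gs G v ∧ ∀ z ∈ zv G adj v, z⁻¹ * (g * z * g⁻¹) ∈ dv G adj v}
      one_mem' := ⟨(Gs G v).one_mem, fun z _ => by simp [one_mem]⟩
      mul_mem' := by
        rintro a b ⟨ha, ha'⟩ ⟨hb, hb'⟩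
        refine ⟨(Gs G v).mul_mem ha hb, fun z hz => ?_⟩
        have h1 : a * (z⁻¹ * (b * z * b⁻¹)) * a⁻¹ = z⁻¹ * (b * z * b⁻¹) := by
          rw [mem_centralizer_iff.1 (hb' z hz).2 a ha, mul_inv_cancel_right]
        have h2 := (dv G adj v).mul_mem (ha' z hz) (hb' z hz)
        rw [← h1] at h2
        convert h2 using 1
        group
      inv_mem' := by
        rintro a ⟨ha, ha'⟩
        refine ⟨(Gs G v).inv_mem ha, fun z hz => ?_⟩
        have hz' := hzn _ ((Gs G v).inv_mem ha) z hz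
        have h1 := (dv G adj v).inv_mem (ha' _ hz')
        convert h1 using 1
        group }
  have hQ : ∀ q ∈ Qs G v, q ∈ N := fun q hq => ⟨qs_le v hq, fun z hz => by
    rw [mem_centralizer_iff.1 (A.zv_le v hz).2 q hq, mul_inv_cancel_right, inv_mul_cancel]
    exact one_mem _⟩
  have htN : t ∈ N := ⟨ht.1, hall⟩
  have hTN : Gs G v ⊓ Gs G w ≤ N := fun s hs => by
    by_cases hsQ : s ∈ Qs G v
    · exact hQ s hsQ
    · exact (N.mul_mem_cancel_left htN).1 (hQ _ (A.mul_mem_qs h ht hs ht' hsQ))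
  obtain ⟨k, hk, hkw⟩ := A.exists_moves h
  obtain ⟨h1, -⟩ := A.smul_ne h (A.adj_smul_left h hk) (Ne.symm hkw) ht ht'
  have ht2 : k⁻¹ * t * k ∈ N := by
    refine ⟨(Gs G v).mul_mem ((Gs G v).mul_mem ((Gs G v).inv_mem hk) ht.1) hk, fun z hz => ?_⟩
    have h2 := hall _ (hzn k hk z hz)
    have h3 : k⁻¹ * ((k * z * k⁻¹)⁻¹ * (t * (k * z * k⁻¹) * t⁻¹)) * k ∈ dv G adj v := by
      have h4 := (mem_centralizer_iff.1 h2.2) k hk
      rw [mul_assoc k⁻¹, ← h4, inv_mul_cancel_left]
      exact h2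
    convert h3 using 1
    group
  have hmove : (k⁻¹ * t * k) • w ≠ w := fun e => h1 <| by
    rw [mul_smul, mul_smul, inv_smul_eq_iff] at e
    exact e
  have hle := A.le_of_edge h hTN ht2.1 hmove ht2
  have := A.fin v
  obtain ⟨hpg, hp, hp2⟩ := A.syl v w h
  have : Fact ((Gs G v ⊓ Gs G w).relIndex (Gs G v)).Prime := ⟨hp⟩
  have hdvd : (Gs G v ⊓ Gs G w).relIndex (Gs G v) ∣ Nat.card (Gs G v) :=
    index_dvd_card _
  obtain ⟨x, hx⟩ := exists_prime_orderOf_dvd_card' _ hdvd
  have hxn : (x : G) ^ (Gs G v ⊓ Gs G w).relIndex (Gs G v) = 1 := by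
    rw [← hx, ← Subgroup.orderOf_coe]; exact pow_orderOf_eq_one _
  have hx1 := A.eq_one_of_mod x.2 (hp.odd_of_ne_two hp2) hxn (hle x.2).2
  rw [← Subgroup.orderOf_coe, hx1, orderOf_one] at hx
  exact hp.one_lt.ne hx

end Amal0

namespace Amal

variable (A : Amal G adj)
include A

/-- There are only three neighbours. -/
theorem nbr_cases {u w w' w'' : V} (h : adj u w) (h' : adj u w') (h'' : adj u w'')
    (hne : w ≠ w') (hne' : w'' ≠ w) {t : G} (ht : t ∈ Gs G u ⊓ Gs G w) (ht' : t ∉ Qs G u) :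
    w'' = w' ∨ w'' = t • w' := by
  obtain ⟨h1, h2⟩ := A.smul_ne h h' hne ht ht'
  rcases A.nbr_three (A.three u w h) h h' (A.adj_smul_left h' ht.1) h'' hne h2 h1 with e | e | e
  exacts [absurd e hne', Or.inl e, Or.inr e]

end Amal

end Cfsg.Agent.S4Amal
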