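import Cfsg.Agent.S4Amalgam.Critical

/-!
# Two `S₃` parabolics, one of which centralizes the edge centre
-/

set_option autoImplicit false

namespace Cfsg.Agent.S4Amal

open Subgroup
open scoped commutatorElement
open SfFree (cj)

variable (G : Type*) [Group G] {V : Type*} [MulAction G V]

/-- The axioms: `tA` marks the vertices active on the edge centre. -/
structure Gold (adj : V → V → Prop) (tA : V → Prop) : Prop extends AmalB G adj where
  three : ∀ u w, adj u w → (Gs G u ⊓ Gs G w).relIndex (Gs G u) = 3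
  alt : ∀ u w, adj u w → (tA w ↔ ¬ tA u)
  noncentralA : ∀ u w, adj u w → tA u → ¬ Gs G u ≤ centralizer (ze G u w : Set G)
  centralB : ∀ u w, adj u w → ¬ tA u → Gs G u ≤ centralizer (ze G u w : Set G)

/-- A walk without backtracking. -/
structure IsPath (adj : V → V → Prop) (n : ℕ) (f : ℕ → V) : Prop where
  step : ∀ i, i < n → adj (f i) (f (i + 1))
  nobt : ∀ i, i + 2 ≤ n → f i ≠ f (i + 2)

/-- Short walks from active vertices give `Z`'s inside the 2-core. -/
def Short1 (adj : V → V → Prop) (tA : V → Prop) (b : ℕ) : Prop :=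
  ∀ n u w, n < b → tA u → Walk adj n u w → zv G adj u ≤ Qs G w

variable {G} {adj : V → V → Prop} {tA : V → Prop}

theorem exists_seq {n : ℕ} : ∀ {u w : V}, Walk adj n u w →
    ∃ f : ℕ → V, (∀ i, i < n → adj (f i) (f (i + 1))) ∧ f 0 = u ∧ f n = w := by
  induction n with
  | zero =>
    intro u w h
    exact ⟨fun _ => u, fun i hi => absurd hi (by omega), rfl, h⟩
  | succ n ih =>
    rintro u w ⟨x, hx, h⟩
    obtain ⟨f, hf, h0, hn⟩ := ih h
    refine ⟨fun i => if i = 0 then u else f (i - 1), fun i hi => ?_, by simp, by simp [hn]⟩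
    rcases Nat.eq_zero_or_pos i with rfl | hpos
    · simpa [h0] using hx
    · have := hf (i - 1) (by omega)
      rw [show i - 1 + 1 = i by omega] at this
      simpa [show i ≠ 0 by omega] using this

theorem walk_seg {n : ℕ} {f : ℕ → V} (hf : ∀ i, i < n → adj (f i) (f (i + 1))) :
    ∀ k i, i + k ≤ n → Walk adj k (f i) (f (i + k)) := by
  intro k
  induction k with
  | zero => intro i _; rfl
  | succ k ih =>
    intro i hi
    exact walk_snoc (ih i (by omega)) (hf (i + k) (by omega))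

namespace IsPath

theorem sub {n : ℕ} {f : ℕ → V} (h : IsPath adj n f) {k : ℕ} (i : ℕ) (hi : i + k ≤ n) :
    IsPath adj k (fun j => f (i + j)) :=
  ⟨fun j hj => h.step (i + j) (by omega), fun j hj => h.nobt (i + j) (by omega)⟩

theorem cons {n : ℕ} {f : ℕ → V} (h : IsPath adj n f) {v : V} (hv : adj v (f 0))
    (hne : 1 ≤ n → v ≠ f 1) : IsPath adj (n + 1) (fun i => if i = 0 then v else f (i - 1)) := by
  refine ⟨fun i hi => ?_, fun i hi => ?_⟩
  · rcases Nat.eq_zero_or_pos i with rfl | hpos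
    · simpa using hv
    · have := h.step (i - 1) (by omega)
      rw [show i - 1 + 1 = i by omega] at this
      simpa [show i ≠ 0 by omega] using this
  · rcases Nat.eq_zero_or_pos i with rfl | hpos
    · simpa using hne (by omega)
    · have := h.nobt (i - 1) (by omega)
      rw [show i - 1 + 2 = i + 1 by omega] at this
      simpa [show i ≠ 0 by omega] using this

theorem congr {n : ℕ} {f g : ℕ → V} (h : IsPath adj n f) (he : ∀ i, i ≤ n → g i = f i) :
    IsPath adj n g := by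
  refine ⟨fun i hi => ?_, fun i hi => ?_⟩
  · rw [he i (by omega), he (i + 1) (by omega)]; exact h.step i hi
  · rw [he i (by omega), he (i + 2) (by omega)]; exact h.nobt i hi

theorem smul {A : AmalB G adj} {n : ℕ} {f : ℕ → V} (h : IsPath adj n f) (g : G) :
    IsPath adj n (fun i => g • f i) :=
  ⟨fun i hi => A.smul g _ _ (h.step i hi), fun i hi e => h.nobt i hi (smul_left_cancel g e)⟩

end IsPath

namespace Gold

open AmalB

variable (A : Gold G adj tA)
include A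

theorem tA_not {u w : V} (h : adj u w) (hu : tA u) : ¬ tA w := fun hw => (A.alt u w h).1 hw hu

theorem tA_of_not {u w : V} (h : adj u w) (hu : ¬ tA u) : tA w := (A.alt u w h).2 hu

theorem tA_walk {n : ℕ} : ∀ {u w : V}, Walk adj n u w → (tA w ↔ (tA u ↔ Even n)) := by
  induction n with
  | zero => intro u w h; subst h; simp
  | succ n ih =>
    rintro u w ⟨x, hx, h⟩
    rw [ih h, A.alt u x hx, Nat.even_add_one]
    tauto

theorem tA_path {n : ℕ} {f : ℕ → V} (h : IsPath adj n f) {i : ℕ} (hi : i ≤ n) :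
    tA (f i) ↔ (tA (f 0) ↔ Even i) := by
  have := walk_seg h.step i 0 (by omega)
  rw [zero_add] at this
  exact A.tA_walk this

theorem orbit {u w : V} (h : tA u ↔ tA w) : ∃ g : G, g • u = w := by
  obtain ⟨n, hn⟩ := exists_walk (A.conn u w)
  have he : Even n := by
    have := A.tA_walk hn
    tauto
  obtain ⟨k, rfl⟩ := he
  clear h
  induction k generalizing u with
  | zero => exact ⟨1, (one_smul _ _).trans hn⟩
  | succ k ih =>
    rw [show k + 1 + (k + 1) = k + k + 1 + 1 by omega] at hn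
    obtain ⟨x, hx, y, hy, h'⟩ := hn
    obtain ⟨g, -, hg⟩ := A.trans x u y (A.symm _ _ hx) hy
    obtain ⟨g', hg'⟩ := ih h'
    exact ⟨g' * g, by rw [mul_smul, hg, hg']⟩

theorem tA_smul (g : G) {v : V} : tA (g • v) ↔ tA v := by
  obtain ⟨w, hw⟩ := A.deg v
  constructor
  · intro h
    by_contra hv
    refine A.noncentralA _ _ (A.smul g _ _ hw) h fun x hx => ?_
    rw [gs_smul] at hx
    obtain ⟨x, hx, rfl⟩ := hx
    refine mem_centralizer_iff.2 fun z hz => ?_
    rw [ze_smul] at hz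
    obtain ⟨z, hz, rfl⟩ := hz
    show (MulAut.conj g) z * (MulAut.conj g) x = (MulAut.conj g) x * (MulAut.conj g) z
    rw [← map_mul, ← map_mul, mem_centralizer_iff.1 (A.centralB v w hw hv hx) z hz]
  · intro hv
    by_contra h
    refine A.noncentralA v w hw hv fun x hx => mem_centralizer_iff.2 fun z hz => ?_
    have hc := mem_centralizer_iff.1 (A.centralB _ _ (A.smul g _ _ hw) h
      (by rw [gs_smul]; exact ⟨x, hx, rfl⟩)) ((MulAut.conj g) z)
      (by rw [ze_smul]; exact ⟨z, hz, rfl⟩)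
    refine (MulAut.conj g).injective ?_
    rw [map_mul, map_mul]
    exact hc

theorem exists_three (u : V) : ∃ a b c, adj u a ∧ adj u b ∧ adj u c ∧ a ≠ b ∧ a ≠ c ∧ b ≠ c := by
  obtain ⟨a, ha⟩ := A.deg u
  obtain ⟨b, hb, hba⟩ := A.exists_other ha
  obtain ⟨t, ht, ht'⟩ := A.exists_edge_not_qs ha
  obtain ⟨h1, h2⟩ := A.smul_ne ha hb hba.symm ht ht'
  exact ⟨a, b, t • b, ha, hb, A.adj_smul_left hb ht.1, hba.symm, h2.symm, h1.symm⟩

theorem nbr3 {u a b c x : V} (ha : adj u a) (hb : adj u b) (hc : adj u c) (hx : adj u x)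
    (hab : a ≠ b) (hac : a ≠ c) (hbc : b ≠ c) : x = a ∨ x = b ∨ x = c :=
  A.nbr_three (A.three u a ha) ha hb hc hx hab hac.symm hbc.symm

theorem qs_ne_bot (u : V) : Qs G u ≠ ⊥ := fun e => by
  obtain ⟨w, hw⟩ := A.deg u
  obtain ⟨k, hk, hkw⟩ := A.exists_moves hw
  have h1 := A.charp u
  rw [e] at h1
  have hk0 : k ∈ (⊥ : Subgroup G) := h1 ⟨hk, mem_centralizer_iff.2 fun y hy => by
    rw [Subgroup.mem_bot.1 hy, one_mul, mul_one]⟩
  exact hkw (by rw [Subgroup.mem_bot.1 hk0, one_smul])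

theorem qs_ne {u w : V} (h : adj u w) : ¬ Qs G u ≤ Qs G w := fun hle => by
  have e1 := relIndex_mul_relIndex _ _ _ hle (A.qs_le_edge (A.symm _ _ h))
  have e3 := A.relIndex_edge (A.symm _ _ h)
  have e4 := A.relIndex_edge h
  rw [inf_comm] at e4
  rw [e3, e4] at e1
  have h4 : Qs G u = Qs G w := le_antisymm hle (relIndex_eq_one.1 (by omega))
  exact A.qs_ne_bot u (A.faith u w h _ (A.qs_le_edge h) (A.qs_normal u) (h4 ▸ A.qs_normal w))

/-- A subgroup normalized by an edge group meets the edge centre. -/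
theorem tnorm {u w : V} (h : adj u w) {N : Subgroup G} (hle : N ≤ Gs G u ⊓ Gs G w)
    (hn : Gs G u ⊓ Gs G w ≤ normalizer (N : Set G)) (hne : N ≠ ⊥) :
    ∃ y ∈ N, y ∈ ze G u w ∧ y ≠ 1 := by
  obtain ⟨hp, -, -⟩ := A.syl u w h
  obtain ⟨z, hz, hz1⟩ : ∃ z ∈ N ⊓ centralizer ((Gs G u ⊓ Gs G w : Subgroup G) : Set G), z ≠ 1 := by
    have := A.finite_sub (inf_le_left : Gs G u ⊓ Gs G w ≤ Gs G u)
    set T := Gs G u ⊓ Gs G w
    have hne' : N.subgroupOf T ≠ ⊥ := fun e => hne (by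
      rw [subgroupOf_eq_bot] at e
      exact e.eq_bot_of_le hle)
    have hnn := normal_subgroupOf_of_le_normalizer hn
    obtain ⟨z, hz, hz1⟩ := (bot_or_exists_ne_one _).resolve_left
      (ZNComp.exists_fixed (A := (⊤ : Subgroup T)) (R := N.subgroupOf T) (hp.of_equiv topEquiv.symm)
        (hp.to_subgroup _) hne' (le_normalizer_of_normal))
    refine ⟨(z : G), ⟨hz.1, mem_centralizer_iff.2 fun t ht => ?_⟩, fun e => hz1 (Subtype.ext e)⟩
    exact congrArg Subtype.val (mem_centralizer_iff.1 hz.2 ⟨t, ht⟩ (mem_top _))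
  obtain ⟨n, hn'⟩ := hp ⟨z, hle hz.1⟩
  have hzn : z ^ 2 ^ n = 1 := congrArg Subtype.val hn'
  obtain ⟨j, -, hj⟩ := (Nat.dvd_prime_pow Nat.prime_two).1 (orderOf_dvd_of_pow_eq_one hzn)
  have hj0 : j ≠ 0 := fun e0 => hz1 (orderOf_eq_one_iff.1 (by rw [hj, e0, pow_zero]))
  refine ⟨z ^ 2 ^ (j - 1), N.pow_mem hz.1 _, mem_ze ((Gs G u ⊓ Gs G w).pow_mem (hle hz.1) _)
    (fun t ht => (show Commute t z from mem_centralizer_iff.1 hz.2 t ht).pow_right _) ?_,
    fun e => ?_⟩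
  · rw [← pow_add, ← two_mul, ← pow_succ', Nat.sub_add_cancel (Nat.pos_of_ne_zero hj0), ← hj]
    exact pow_orderOf_eq_one z
  · have h9 := orderOf_dvd_of_pow_eq_one e
    rw [hj, Nat.pow_dvd_pow_iff_le_right (by norm_num)] at h9
    omega

theorem ze_ne_bot {u w : V} (h : adj u w) : ∃ y ∈ ze G u w, y ≠ 1 := by
  obtain ⟨y, -, hy⟩ := A.tnorm h (A.qs_le_edge h) (inf_le_left.trans (A.qs_normal u))
    (A.qs_ne_bot u)
  exact ⟨y, hy⟩

theorem zvB {δ w : V} (h : adj δ w) (hδ : ¬ tA δ) : zv G adj δ = ze G δ w := by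
  refine le_antisymm (iSup_le fun w' => ?_) (ze_le_zv h)
  obtain ⟨g, hg, hgw⟩ := A.trans δ w w' h w'.2
  have e := ze_smul g δ w
  rw [hgw, MulAction.mem_stabilizer_iff.1 hg] at e
  rw [e]
  rintro _ ⟨x, hx, rfl⟩
  show g * x * g⁻¹ ∈ ze G δ w
  rwa [← mem_centralizer_iff.1 (A.centralB δ w h hδ hg) x hx, mul_inv_cancel_right]

theorem zvB' {α δ : V} (h : adj α δ) (hα : tA α) : zv G adj δ = ze G α δ := by
  rw [A.zvB (A.symm _ _ h) (A.tA_not h hα), ze_comm]

theorem zvB_le {α δ : V} (h : adj α δ) (hα : tA α) : zv G adj δ ≤ zv G adj α :=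
  (A.zvB' h hα).le.trans (ze_le_zv h)

theorem centralB' {δ : V} (hδ : ¬ tA δ) : Gs G δ ≤ centralizer (zv G adj δ : Set G) := by
  obtain ⟨w, hw⟩ := A.deg δ
  rw [A.zvB hw hδ]
  exact A.centralB δ w hw hδ

theorem qs_cA {v : V} (hv : tA v) {g : G} (hg : g ∈ Gs G v)
    (hc : g ∈ centralizer (zv G adj v : Set G)) : g ∈ Qs G v := by
  obtain ⟨w, hw⟩ := A.deg v
  exact A.mem_qs_of_centralizes' hw (A.noncentralA v w hw hv) hg hc

theorem commute_qs {v : V} {q y : G} (hq : q ∈ Qs G v) (hy : y ∈ zv G adj v) : Commute q y :=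
  (mem_centralizer_iff.1 (A.qs_centralizes v hq) y hy).symm

theorem mem_zvB_of_commute {α δ : V} (h : adj α δ) (hα : tA α) {t z : G}
    (ht : t ∈ Gs G α ⊓ Gs G δ) (ht' : t ∉ Qs G α) (hz : z ∈ zv G adj α) (hc : Commute t z) :
    z ∈ zv G adj δ := by
  rw [A.zvB' h hα]; exact A.mem_ze_of_commute h ht ht' hz hc

theorem yDisj {α δ δ' : V} (h : adj α δ) (h' : adj α δ') (hne : δ ≠ δ') (hα : tA α) {y : G}
    (hy : y ∈ zv G adj δ) (hy' : y ∈ zv G adj δ') : y = 1 := by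
  have hd : y ∈ dv G adj α :=
    A.mem_dv h h' hne ((A.zvB' h hα).le hy) ((A.zvB' h' hα).le hy')
  refine A.eq_one_of_dv h hd ⟨hy, ?_⟩
  exact mem_centralizer_iff.2 fun g hg =>
    (mem_centralizer_iff.1 (A.centralB' (A.tA_not h hα) hg) y hy).symm

theorem decomp {α δ : V} (h : adj α δ) (hα : tA α) {t z : G}
    (ht : t ∈ Gs G α ⊓ Gs G δ) (ht' : t ∉ Qs G α) (hz : z ∈ zv G adj α) :
    z * (t * z * t⁻¹) ∈ zv G adj δ := by
  have hzn : ∀ x ∈ zv G adj α, t * x * t⁻¹ ∈ zv G adj α := fun x hx =>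
    (mem_normalizer_iff.1 (A.zv_normal α ht.1) x).1 hx
  refine A.mem_zvB_of_commute h hα ht ht' (mul_mem hz (hzn z hz)) ?_
  have h2 : Commute (t * t) z := A.commute_qs (A.mul_mem_qs h ht ht ht' ht') hz
  have e : t * (t * z * t⁻¹) * t⁻¹ = z := by
    calc t * (t * z * t⁻¹) * t⁻¹ = (t * t) * z * (t * t)⁻¹ := by group
      _ = z := by rw [h2.eq, mul_inv_cancel_right]
  refine mul_inv_eq_iff_eq_mul.1 ?_
  calc t * (z * (t * z * t⁻¹)) * t⁻¹ = (t * z * t⁻¹) * (t * (t * z * t⁻¹) * t⁻¹) := by group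
    _ = z * (t * z * t⁻¹) := by rw [e]; exact (A.zv_commute (hzn z hz) hz).eq

theorem decomp_ne {α δ δ' : V} (h : adj α δ) (h' : adj α δ') (hne : δ ≠ δ') (hα : tA α) {t y : G}
    (ht : t ∈ Gs G α ⊓ Gs G δ) (ht' : t ∉ Qs G α) (hy : y ∈ zv G adj δ') (hy1 : y ≠ 1) :
    y * (t * y * t⁻¹) ≠ 1 := by
  intro e
  have hya := A.zvB_le h' hα hy
  refine hy1 (A.yDisj h h' hne hα (A.mem_zvB_of_commute h hα ht ht' hya ?_) hy)
  have : t * y * t⁻¹ = y := by
    rw [← inv_eq_of_mul_eq_one_right e, A.inv_eq hya]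
  exact mul_inv_eq_iff_eq_mul.1 this

theorem third {α δ δ' δ'' : V} (h : adj α δ) (h' : adj α δ') (h'' : adj α δ'') (hne : δ ≠ δ')
    (hne' : δ'' ≠ δ) (hne'' : δ'' ≠ δ') {t : G} (ht : t ∈ Gs G α ⊓ Gs G δ) (ht' : t ∉ Qs G α) :
    t • δ' = δ'' := by
  obtain ⟨h1, h2⟩ := A.smul_ne h h' hne ht ht'
  rcases A.nbr3 h h' h'' (A.adj_smul_left h' ht.1) hne hne'.symm hne''.symm with e | e | e
  exacts [absurd e h2, absurd e h1, e]

theorem zv_sup {α δ δ' : V} (h : adj α δ) (h' : adj α δ') (hne : δ ≠ δ') (hα : tA α) :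
    zv G adj α = zv G adj δ ⊔ zv G adj δ' := by
  refine le_antisymm (iSup_le fun w => ?_) (sup_le (A.zvB_le h hα) (A.zvB_le h' hα))
  rw [← A.zvB' w.2 hα]
  by_cases hw : (w : V) = δ
  · rw [hw]; exact le_sup_left
  by_cases hw' : (w : V) = δ'
  · rw [hw']; exact le_sup_right
  obtain ⟨t, ht, ht'⟩ := A.exists_edge_not_qs h
  rw [← A.third h h' w.2 hne hw hw' ht ht', A.zv_smul]
  rintro _ ⟨y, hy, rfl⟩
  show t * y * t⁻¹ ∈ zv G adj δ ⊔ zv G adj δ'
  have hya := A.zvB_le h' hα hy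
  rw [show t * y * t⁻¹ = y * (y * (t * y * t⁻¹)) by
    rw [← mul_assoc y y, A.sq_one hya, one_mul]]
  exact mul_mem (le_sup_right (a := zv G adj δ) hy)
    (le_sup_left (b := zv G adj δ') (A.decomp h hα ht ht' hya))

theorem zv_split {α δ δ' : V} (h : adj α δ) (h' : adj α δ') (hne : δ ≠ δ') (hα : tA α) {x : G}
    (hx : x ∈ zv G adj α) : ∃ y ∈ zv G adj δ, ∃ y' ∈ zv G adj δ', y * y' = x := by
  have hn : zv G adj δ ≤ normalizer (zv G adj δ' : Set G) :=
    ((A.zvB_le h hα).trans (fun a ha => mem_centralizer_iff.2 fun b hb =>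
      (A.zv_commute (A.zvB_le h' hα hb) ha).eq)).trans (centralizer_le_normalizer _)
  rw [A.zv_sup h h' hne hα, ← SetLike.mem_coe, coe_mul_of_left_le_normalizer_right _ _ hn] at hx
  obtain ⟨y, hy, y', hy', rfl⟩ := hx
  exact ⟨y, hy, y', hy', rfl⟩

theorem mem_zv_nbr {δ α α' α'' : V} (h : adj δ α) (h' : adj δ α') (h'' : adj δ α'') (hne : α ≠ α')
    {x : G} (hx : x ∈ zv G adj α) (hx' : x ∈ zv G adj α') : x ∈ zv G adj α'' := by
  by_cases e1 : α'' = α
  · rwa [e1]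
  by_cases e2 : α'' = α'
  · rwa [e2]
  obtain ⟨q, hq, hq'⟩ := SetLike.not_le_iff_exists.1 (A.qs_ne (A.symm _ _ h))
  have hqT : q ∈ Gs G δ ⊓ Gs G α :=
    ⟨(A.qs_le_edge (A.symm _ _ h) hq).2, (A.qs_le_edge (A.symm _ _ h) hq).1⟩
  rw [← A.third h h' h'' hne e1 e2 hqT hq', A.zv_smul]
  refine ⟨x, hx', ?_⟩
  show q * x * q⁻¹ = x
  rw [(A.commute_qs hq hx).eq, mul_inv_cancel_right]

/-- The active `Z`'s at an inactive vertex meet in its `Z`. -/
theorem zv_inter {δ α α' : V} (hδ : ¬ tA δ) (h : adj δ α) (h' : adj δ α') (hne : α ≠ α') {x : G}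
    (hx : x ∈ zv G adj α) (hx' : x ∈ zv G adj α') : x ∈ zv G adj δ := by
  have hα : tA α := A.tA_of_not h hδ
  have hs := A.symm _ _ h
  let N : Subgroup G := ⨅ δ₁ : {d : V // adj α d}, ⨅ w : {w : V // adj (δ₁ : V) w}, zv G adj (w : V)
  have hNmem : ∀ {p : G}, p ∈ N ↔ ∀ d, adj α d → ∀ w, adj d w → p ∈ zv G adj w := fun {p} => by
    simp only [N, Subgroup.mem_iInf]
    exact ⟨fun hp d hd w hw => hp ⟨d, hd⟩ ⟨w, hw⟩, fun hp d w => hp d d.2 w w.2⟩
  have hN0 : N = ⊥ := by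
    have hNT : N ≤ Gs G α ⊓ Gs G δ := fun p hp =>
      A.qs_le_edge hs ((A.zv_le α) (hNmem.1 hp δ hs α h)).1
    have hNa : Gs G α ≤ normalizer (N : Set G) := by
      have key : ∀ g ∈ Gs G α, ∀ p ∈ N, g * p * g⁻¹ ∈ N := fun g hg p hp => hNmem.2 fun d hd w hw => by
        have hw2 := A.smul g⁻¹ _ _ hw
        have hd2 := A.adj_smul_left hd ((Gs G α).inv_mem hg)
        have h2 := hNmem.1 hp _ hd2 _ hw2
        have h3 := A.zv_smul g (g⁻¹ • w)
        rw [smul_inv_smul] at h3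
        rw [h3]
        exact ⟨p, h2, rfl⟩
      refine fun g hg => mem_normalizer_iff.2 fun p => ⟨key g hg p, fun hp => ?_⟩
      have := key _ ((Gs G α).inv_mem hg) _ hp
      simpa [mul_assoc] using this
    refine A.faith α δ hs N hNT hNa ?_
    obtain ⟨q, hq, hq'⟩ := SetLike.not_le_iff_exists.1 (A.qs_ne (A.symm _ _ h'))
    have hqT : q ∈ Gs G δ ⊓ Gs G α' :=
      ⟨(A.qs_le_edge (A.symm _ _ h') hq).2, (A.qs_le_edge (A.symm _ _ h') hq).1⟩
    refine A.le_of_edge h (fun g hg => hNa hg.2) hqT.1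
      (A.smul_ne h' h hne.symm hqT hq').1 ?_
    exact centralizer_le_normalizer _ (mem_centralizer_iff.2 fun p hp =>
      (A.commute_qs hq (hNmem.1 hp δ hs α' h')).eq.symm)
  obtain ⟨δ', hδ', hne'⟩ := A.exists_other hs
  obtain ⟨y, hy, p, hp, rfl⟩ := A.zv_split hs hδ' hne'.symm hα hx
  have hyall : ∀ w, adj δ w → y ∈ zv G adj w := fun w hw =>
    A.zvB_le (A.symm _ _ hw) (A.tA_of_not hw hδ) hy
  have hpδ : ∀ w, adj δ w → p ∈ zv G adj w := fun w hw => by
    have := mul_mem (inv_mem (hyall w hw)) (A.mem_zv_nbr h h' hw hne hx hx')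
    rwa [inv_mul_cancel_left] at this
  have hpδ' : ∀ w, adj δ' w → p ∈ zv G adj w := fun w hw =>
    A.zvB_le (A.symm _ _ hw) (A.tA_of_not hw (A.tA_not hδ' hα)) hp
  have hpN : p ∈ N := hNmem.2 fun d hd w hw => by
    by_cases e1 : d = δ
    · exact hpδ w (e1 ▸ hw)
    by_cases e2 : d = δ'
    · exact hpδ' w (e2 ▸ hw)
    obtain ⟨s, hsT, hs'⟩ := A.exists_edge_not_qs hδ'
    have hsd := A.third hδ' hs hd hne' e2 e1 hsT hs'
    have hw2 := A.smul s⁻¹ _ _ hw
    rw [← hsd, inv_smul_smul] at hw2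
    have h3 := A.zv_smul s (s⁻¹ • w)
    rw [smul_inv_smul] at h3
    rw [h3]
    refine ⟨p, hpδ _ hw2, ?_⟩
    show s * p * s⁻¹ = p
    rw [← mem_centralizer_iff.1 (A.centralB' (A.tA_not hδ' hα) hsT.2) p hp, mul_inv_cancel_right]
  rw [hN0, Subgroup.mem_bot] at hpN
  rw [hpN, mul_one]
  exact hy

theorem zv_ne {δ α α' : V} (hδ : ¬ tA δ) (h : adj δ α) (h' : adj δ α') (hne : α ≠ α') :
    ¬ zv G adj α ≤ zv G adj α' := fun hle => by
  have hα : tA α := A.tA_of_not h hδ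
  have hs := A.symm _ _ h
  obtain ⟨δ', hδ', hne'⟩ := A.exists_other hs
  obtain ⟨y, hy, hy1⟩ := A.ze_ne_bot hδ'
  rw [← A.zvB' hδ' hα] at hy
  exact hy1 (A.yDisj hs hδ' hne'.symm hα
    (A.zv_inter hδ h h' hne (A.zvB_le hδ' hα hy) (hle (A.zvB_le hδ' hα hy))) hy)

/-- An element of an inactive stabilizer normalizing an active `Z` fixes its vertex. -/
theorem fix_of_normalizes {δ α : V} (hδ : ¬ tA δ) (h : adj δ α) {g : G} (hg : g ∈ Gs G δ)
    (hn : ∀ x ∈ zv G adj α, g * x * g⁻¹ ∈ zv G adj α) : g • α = α := by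
  by_contra hne
  refine A.zv_ne hδ (A.adj_smul_left h hg) h hne ?_
  rw [A.zv_smul]
  rintro _ ⟨x, hx, rfl⟩
  exact hn x hx

theorem push1 {b : ℕ} (hb : Short1 G adj tA b) {n : ℕ} (hn : n ≤ b) {u w : V} (hu : tA u)
    (h : Walk adj n u w) : zv G adj u ≤ Gs G w := by
  match n, hn, h with
  | 0, _, h => obtain rfl : u = w := h; exact A.zv_le_gs u
  | n + 1, hn, h =>
    obtain ⟨x, hx, hxw⟩ := walk_last h
    exact (hb n u x (by omega) hu hx).trans ((A.qs_le_edge hxw).trans inf_le_right)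

theorem path_walk {n : ℕ} {f : ℕ → V} (h : IsPath adj n f) {i j : ℕ} (hi : i ≤ n) (hj : j ≤ n) :
    Walk adj ((j - i) + (i - j)) (f i) (f j) := by
  rcases le_total i j with hij | hij
  · have := walk_seg h.step (j - i) i (by omega)
    rwa [show i + (j - i) = j by omega, show j - i = (j - i) + (i - j) by omega] at this
  · have := A.toAmalB.walk_symm (walk_seg h.step (i - j) j (by omega))
    rwa [show j + (i - j) = i by omega, show i - j = (j - i) + (i - j) by omega] at this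

theorem path_qs {b n : ℕ} (hb : Short1 G adj tA b) {f : ℕ → V} (h : IsPath adj n f) {i j : ℕ}
    (hA : tA (f i)) (hi : i ≤ n) (hj : j ≤ n) (h1 : j < i + b) (h2 : i < j + b) :
    zv G adj (f i) ≤ Qs G (f j) := hb _ _ _ (by omega) hA (A.path_walk h hi hj)

theorem path_gs {b n : ℕ} (hb : Short1 G adj tA b) {f : ℕ → V} (h : IsPath adj n f) {i j : ℕ}
    (hA : tA (f i)) (hi : i ≤ n) (hj : j ≤ n) (h1 : j ≤ i + b) (h2 : i ≤ j + b) :
    zv G adj (f i) ≤ Gs G (f j) := A.push1 hb (by omega) hA (A.path_walk h hi hj)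

theorem comm1 {b n : ℕ} (hb : Short1 G adj tA b) {u w : V} (hn : n < b) (hu : tA u)
    (h : Walk adj n u w) {x y : G} (hx : x ∈ zv G adj u) (hy : y ∈ zv G adj w) : Commute x y :=
  A.commute_qs (hb n u w hn hu h hx) hy

/-- A shortest path carrying a `Z` out of a 2-core. -/
theorem exists_crit (v₀ : V) : ∃ b, 1 ≤ b ∧ Short1 G adj tA b ∧ ∃ f : ℕ → V, IsPath adj b f ∧
    tA (f 0) ∧ ¬ zv G adj (f 0) ≤ Qs G (f b) := by
  classical
  have hex : ∃ n, ∃ u w, tA u ∧ Walk adj n u w ∧ ¬ zv G adj u ≤ Qs G w := by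
    by_contra! hall
    obtain ⟨w₀, hw₀⟩ := A.deg v₀
    obtain ⟨a, ha⟩ : ∃ a, tA a := by
      by_cases h : tA v₀
      · exact ⟨v₀, h⟩
      · exact ⟨w₀, A.tA_of_not hw₀ h⟩
    set N := ⨆ v : {v : V // tA v}, zv G adj (v : V) with hN
    have hle : ∀ x, N ≤ Gs G x := fun x => iSup_le fun v => by
      obtain ⟨n, hn⟩ := exists_walk (A.conn (v : V) x)
      exact (hall n _ _ v.2 hn).trans (qs_le _)
    have hnor : N.Normal := ⟨fun y hy g => by
      have h1 : N.map (MulAut.conj g).toMonoidHom ≤ N := by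
        rw [hN, Subgroup.map_iSup]
        refine iSup_le fun v => ?_
        show cj g (zv G adj (v : V)) ≤ _
        rw [← A.zv_smul]
        exact le_iSup (fun v : {v : V // tA v} => zv G adj (v : V)) ⟨g • (v : V), (A.tA_smul g).2 v.2⟩
      exact h1 ⟨y, hy, rfl⟩⟩
    have h0 := A.faith v₀ w₀ hw₀ N (le_inf (hle _) (hle _))
      (by rw [Subgroup.normalizer_eq_top N]; exact le_top)
      (by rw [Subgroup.normalizer_eq_top N]; exact le_top)
    obtain ⟨w, hw⟩ := A.deg a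
    obtain ⟨y, hy, hy1⟩ := A.ze_ne_bot hw
    refine hy1 (Subgroup.mem_bot.1 (h0.le ?_))
    exact le_iSup (fun v : {v : V // tA v} => zv G adj (v : V)) ⟨a, ha⟩ (ze_le_zv hw hy)
  obtain ⟨u, w, hu, hw, hnc⟩ := Nat.find_spec hex
  have hshort : Short1 G adj tA (Nat.find hex) := fun n u' w' hn hu' hw' => by
    by_contra hc
    exact Nat.find_min hex hn ⟨u', w', hu', hw', hc⟩
  obtain ⟨f, hf, h0, hn⟩ := exists_seq hw
  refine ⟨_, ?_, hshort, f, ⟨hf, fun i hi e => ?_⟩, h0 ▸ hu, by rwa [h0, hn]⟩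
  · rcases Nat.eq_zero_or_pos (Nat.find hex) with e | e
    · rw [e] at hw
      obtain rfl : u = w := hw
      exact absurd ((A.zv_le u).trans inf_le_left) hnc
    · exact e
  · have w1 := walk_seg hf i 0 (by omega)
    have w2 := walk_seg hf (Nat.find hex - (i + 2)) (i + 2) (by omega)
    rw [zero_add, e] at w1
    rw [show i + 2 + (Nat.find hex - (i + 2)) = Nat.find hex by omega] at w2
    have h3 := hshort _ _ _ (by omega) (h0.symm ▸ hu) (walk_append w1 w2)
    rw [h0, hn] at h3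
    exact hnc h3

theorem card_edge {u w : V} (h : adj u w) :
    Nat.card ↥(Gs G u ⊓ Gs G w) = 2 * Nat.card ↥(Qs G u) := by
  have := A.finite_sub (inf_le_left : Gs G u ⊓ Gs G w ≤ Gs G u)
  have e := Coprime.card_mul_relIndex_of_le (A.qs_le_edge h)
  rw [A.relIndex_edge h] at e
  omega

/-- A subgroup of an edge group has at most two cosets outside the 2-core. -/
theorem relIndex_qs_le {u w : V} (h : adj u w) {H : Subgroup G} (hH : H ≤ Gs G u ⊓ Gs G w) :
    (Qs G u).relIndex H ≤ 2 := by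
  have e := relIndex_le_of_le_right (H := Qs G u) hH (by rw [A.relIndex_edge h]; norm_num)
  rwa [A.relIndex_edge h] at e

end Gold

end Cfsg.Agent.S4Amal
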